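import Mathlib

set_option autoImplicit false

/-!
# Schur's lemma and Fourier inversion for an irreducible representation

`K` algebraically closed, `ρ : H →* End K V` irreducible on a nonzero finite-dimensional space.
-/

namespace Cfsg.Agent.Lib.Helper32

open Module

section Fourier

variable {K : Type*} [Field K] [IsAlgClosed K] {V : Type*} [AddCommGroup V] [Module K V]
  [FiniteDimensional K V] [Nontrivial V] {H : Type*} [Group H] (ρ : H →* Module.End K V)

/-- Schur's lemma over an algebraically closed field. -/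
theorem schur_scalar
    (hirr : ∀ W : Submodule K V, (∀ h : H, W.map (ρ h) ≤ W) → W = ⊥ ∨ W = ⊤)
    (φ : Module.End K V) (hφ : ∀ h : H, φ * ρ h = ρ h * φ) : ∃ c : K, φ = c • 1 := by
  obtain ⟨c, hc⟩ := Module.End.exists_eigenvalue φ
  refine ⟨c, ?_⟩
  have hW : ∀ h : H, (φ.eigenspace c).map (ρ h) ≤ φ.eigenspace c := by
    rintro h _ ⟨v, hv, rfl⟩
    rw [SetLike.mem_coe, Module.End.mem_eigenspace_iff] at hv
    rw [Module.End.mem_eigenspace_iff]
    have h1 := congrArg (fun f : Module.End K V => f v) (hφ h)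
    calc φ (ρ h v) = ρ h (φ v) := h1
      _ = c • ρ h v := by rw [hv, map_smul]
  rcases hirr _ hW with h0 | h1
  · exact absurd h0 hc
  · apply LinearMap.ext
    intro v
    have hv : v ∈ φ.eigenspace c := by rw [h1]; exact Submodule.mem_top
    rw [Module.End.mem_eigenspace_iff] at hv
    rw [hv]; rfl

theorem rho_mul_rho_inv (h : H) : ρ h * ρ h⁻¹ = 1 := by
  rw [← map_mul, mul_inv_cancel, map_one]

theorem rho_inv_mul_rho (h : H) : ρ h⁻¹ * ρ h = 1 := by
  rw [← map_mul, inv_mul_cancel, map_one]

/-- The averaging operator is scalar. -/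
theorem avg_eq [Fintype H]
    (hirr : ∀ W : Submodule K V, (∀ h : H, W.map (ρ h) ≤ W) → W = ⊥ ∨ W = ⊤)
    (ψ : Module.End K V) :
    (finrank K V : K) • ∑ h : H, ρ h * ψ * ρ h⁻¹ =
      ((Fintype.card H : K) * LinearMap.trace K V ψ) • (1 : Module.End K V) := by
  set A : Module.End K V := ∑ h : H, ρ h * ψ * ρ h⁻¹ with hA
  have hcomm : ∀ g : H, A * ρ g = ρ g * A := by
    intro g
    rw [hA, Finset.sum_mul, Finset.mul_sum]
    rw [← Equiv.sum_comp (Equiv.mulLeft g) (fun h => ρ h * ψ * ρ h⁻¹ * ρ g)]
    apply Finset.sum_congr rfl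
    intro h _
    simp only [Equiv.coe_mulLeft, mul_inv_rev, map_mul]
    have h1 := rho_inv_mul_rho ρ g
    simp only [mul_assoc]
    rw [h1, mul_one]
  obtain ⟨c, hc⟩ := schur_scalar ρ hirr A hcomm
  have htr : LinearMap.trace K V A = (Fintype.card H : K) * LinearMap.trace K V ψ := by
    rw [hA, map_sum]
    have h1 : ∀ h : H, LinearMap.trace K V (ρ h * ψ * ρ h⁻¹) = LinearMap.trace K V ψ := by
      intro h
      rw [LinearMap.trace_mul_comm, ← mul_assoc, rho_inv_mul_rho, one_mul]
    rw [Finset.sum_congr rfl (fun h _ => h1 h), Finset.sum_const, Finset.card_univ, nsmul_eq_mul]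
  have htr2 : LinearMap.trace K V A = c * (finrank K V : K) := by
    rw [hc, map_smul, LinearMap.trace_one, smul_eq_mul]
  rw [hc, smul_smul, ← htr, htr2, mul_comm]

/-- The degree of an irreducible representation is invertible when `|H|` is. -/
theorem finrank_ne_zero_of_irr [Fintype H]
    (hirr : ∀ W : Submodule K V, (∀ h : H, W.map (ρ h) ≤ W) → W = ⊥ ∨ W = ⊤)
    (hH : (Fintype.card H : K) ≠ 0) : (finrank K V : K) ≠ 0 := by
  intro h0
  have hpos : 0 < finrank K V := Module.finrank_pos
  let b := Module.finBasis K V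
  let i : Fin (finrank K V) := ⟨0, hpos⟩
  have h1 := avg_eq ρ hirr ((b.coord i).smulRight (b i))
  rw [h0, zero_smul, LinearMap.trace_smulRight] at h1
  have h2 : (b.coord i) (b i) = 1 := by
    rw [Module.Basis.coord_apply, Module.Basis.repr_self, Finsupp.single_eq_same]
  rw [h2, mul_one] at h1
  have h3 : ((Fintype.card H : K) • (1 : Module.End K V)) = 0 := h1.symm
  rcases smul_eq_zero.1 h3 with h4 | h4
  · exact hH h4
  · exact one_ne_zero h4

/-- Fourier inversion. -/
theorem fourier_inv [Fintype H]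
    (hirr : ∀ W : Submodule K V, (∀ h : H, W.map (ρ h) ≤ W) → W = ⊥ ∨ W = ⊤)
    (φ : Module.End K V) :
    (finrank K V : K) • ∑ h : H, LinearMap.trace K V (φ * ρ h⁻¹) • ρ h =
      (Fintype.card H : K) • φ := by
  -- rank one case
  have hone : ∀ (g : V →ₗ[K] K) (v : V),
      (finrank K V : K) • ∑ h : H, LinearMap.trace K V ((g.smulRight v) * ρ h⁻¹) • ρ h =
      (Fintype.card H : K) • (g.smulRight v) := by
    intro g v
    apply LinearMap.ext
    intro w
    have h1 : ∀ h : H, (g.smulRight v : Module.End K V) * ρ h⁻¹ =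
        (g.comp (ρ h⁻¹)).smulRight v := by
      intro h
      apply LinearMap.ext
      intro u
      rfl
    have h2 := congrArg (fun f : Module.End K V => f v) (avg_eq ρ hirr (g.smulRight w))
    simp only [LinearMap.smul_apply, LinearMap.sum_apply, Module.End.mul_apply,
      LinearMap.smulRight_apply, LinearMap.trace_smulRight, Module.End.one_apply, map_smul] at h2
    simp only [LinearMap.smul_apply, LinearMap.sum_apply, h1, LinearMap.trace_smulRight,
      LinearMap.comp_apply, LinearMap.smulRight_apply]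
    rw [h2, mul_smul]
  let b := Module.finBasis K V
  have hdec : φ = ∑ i, (b.coord i).smulRight (φ (b i)) := by
    apply b.ext
    intro j
    rw [LinearMap.sum_apply]
    simp only [LinearMap.smulRight_apply, Module.Basis.coord_apply, Module.Basis.repr_self]
    rw [Finset.sum_eq_single j]
    · rw [Finsupp.single_eq_same, one_smul]
    · intro i _ hij
      rw [Finsupp.single_eq_of_ne hij, zero_smul]
    · intro h
      exact absurd (Finset.mem_univ j) h
  have hlin : ∀ (s : Finset (Fin (finrank K V))) (F : Fin (finrank K V) → Module.End K V),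
      (finrank K V : K) • ∑ h : H, LinearMap.trace K V ((∑ i ∈ s, F i) * ρ h⁻¹) • ρ h =
      ∑ i ∈ s, (finrank K V : K) • ∑ h : H, LinearMap.trace K V (F i * ρ h⁻¹) • ρ h := by
    intro s F
    rw [← Finset.smul_sum]
    congr 1
    rw [Finset.sum_comm]
    apply Finset.sum_congr rfl
    intro h _
    rw [Finset.sum_mul, map_sum, Finset.sum_smul]
  conv_lhs => rw [hdec]
  rw [hlin]
  rw [Finset.sum_congr rfl (fun i _ => hone (b.coord i) (φ (b i)))]
  rw [← Finset.smul_sum, ← hdec]

end Fourier

end Cfsg.Agent.Lib.Helper32
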