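import Mathlib
import Cfsg.Agent.Lib.Helper32.HHFourier
import Cfsg.Agent.Lib.Helper97.Clifford

set_option autoImplicit false

/-!
# The degree of an irreducible representation of a `q`-group is a power of `q`

Over an algebraically closed field (of any characteristic).
-/

namespace Cfsg.Agent.Lib.Helper32

open Module

universe u v w

section QPow

variable {K : Type w} [Field K] [IsAlgClosed K]

/-- An irreducible representation with commuting image is one-dimensional. -/
theorem finrank_eq_one_of_comm {V : Type v} [AddCommGroup V] [Module K V]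
    [FiniteDimensional K V] [Nontrivial V] {H : Type u} [Group H] (ρ : H →* Module.End K V)
    (hirr : ∀ W : Submodule K V, (∀ h : H, W.map (ρ h) ≤ W) → W = ⊥ ∨ W = ⊤)
    (hcomm : ∀ g h : H, ρ g * ρ h = ρ h * ρ g) : finrank K V = 1 := by
  obtain ⟨v, hv⟩ := exists_ne (0 : V)
  rw [finrank_eq_one_iff_of_nonzero v hv]
  have hinv : ∀ h : H, (Submodule.span K {v}).map (ρ h) ≤ Submodule.span K {v} := by
    intro h
    obtain ⟨c, hc⟩ := schur_scalar ρ hirr (ρ h) (fun g => hcomm h g)
    rintro _ ⟨w, hw, rfl⟩
    rw [hc]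
    exact Submodule.smul_mem _ c hw
  rcases hirr _ hinv with h0 | h1
  · exfalso
    have h2 : v ∈ Submodule.span K {v} := Submodule.mem_span_singleton_self v
    rw [h0, Submodule.mem_bot] at h2
    exact hv h2
  · exact h1

theorem finrank_eq_prime_pow_of_irr (q : ℕ) [Fact q.Prime] : ∀ (n : ℕ) {H : Type u} [Group H]
    [Finite H] {V : Type v} [AddCommGroup V] [Module K V] [FiniteDimensional K V] [Nontrivial V]
    (ρ : H →* Module.End K V), Nat.card H ≤ n → IsPGroup q H →
    (∀ W : Submodule K V, (∀ h : H, W.map (ρ h) ≤ W) → W = ⊥ ∨ W = ⊤) →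
    ∃ b : ℕ, finrank K V = q ^ b := by
  intro n
  induction n with
  | zero =>
    intro H _ _ V _ _ _ _ ρ hn
    have h1 : 0 < Nat.card H := Nat.card_pos
    omega
  | succ n ih =>
    intro H _ _ V _ _ _ _ ρ hn hq hirr
    classical
    by_cases hcomm : ∀ g h : H, ρ g * ρ h = ρ h * ρ g
    · exact ⟨0, by rw [pow_zero]; exact finrank_eq_one_of_comm ρ hirr hcomm⟩
    -- the scalar subgroup
    let Z : Subgroup H :=
      { carrier := {h | ∀ g : H, ρ h * ρ g = ρ g * ρ h}
        mul_mem' := by
          intro h h' hh hh' g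
          rw [map_mul, mul_assoc, hh' g, ← mul_assoc, hh g, mul_assoc]
        one_mem' := by
          intro g
          rw [map_one, one_mul, mul_one]
        inv_mem' := by
          intro h hh g
          have h1 : ρ h⁻¹ * ρ g = ρ h⁻¹ * (ρ g * ρ h) * ρ h⁻¹ := by
            rw [mul_assoc, mul_assoc, rho_mul_rho_inv, mul_one]
          rw [h1, ← hh g, ← mul_assoc, rho_inv_mul_rho, one_mul] }
    have hZmem : ∀ h : H, h ∈ Z ↔ ∀ g : H, ρ h * ρ g = ρ g * ρ h := fun h => Iff.rfl
    haveI hZn : Z.Normal := by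
      constructor
      intro h hh k
      rw [hZmem] at hh ⊢
      have h1 : ρ (k * h * k⁻¹) = ρ h := by
        rw [map_mul, map_mul, ← hh k, mul_assoc, rho_mul_rho_inv, mul_one]
      intro g
      rw [h1]; exact hh g
    have hZtop : ∃ h : H, h ∉ Z := by
      by_contra hcon
      push Not at hcon
      exact hcomm (fun g h => hcon g h)
    obtain ⟨h₀, hh₀⟩ := hZtop
    haveI : Nontrivial (H ⧸ Z) :=
      ⟨⟨(h₀ : H ⧸ Z), 1, fun heq => hh₀ ((QuotientGroup.eq_one_iff h₀).1 heq)⟩⟩
    haveI := IsPGroup.center_nontrivial (hq.to_quotient Z)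
    obtain ⟨⟨ā, hā⟩, hne⟩ := exists_ne (1 : Subgroup.center (H ⧸ Z))
    obtain ⟨a, rfl⟩ := QuotientGroup.mk_surjective ā
    have haZ : a ∉ Z := by
      intro ha
      apply hne
      apply Subtype.ext
      exact (QuotientGroup.eq_one_iff a).2 ha
    have hconj : ∀ g : H, ∃ c : K, ρ g * ρ a * ρ g⁻¹ = c • ρ a := by
      intro g
      have h1 : ((a * g : H) : H ⧸ Z) = ((g * a : H) : H ⧸ Z) := by
        rw [QuotientGroup.mk_mul, QuotientGroup.mk_mul]
        exact ((Subgroup.mem_center_iff.1 hā) (g : H ⧸ Z)).symm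
      have h2 : (a * g)⁻¹ * (g * a) ∈ Z := QuotientGroup.eq.1 h1
      obtain ⟨c, hc⟩ := schur_scalar ρ hirr (ρ ((a * g)⁻¹ * (g * a))) ((hZmem _).1 h2)
      refine ⟨c, ?_⟩
      have h3 : g * a = a * g * ((a * g)⁻¹ * (g * a)) := by group
      have h4 : ρ g * ρ a = ρ a * ρ g * ρ ((a * g)⁻¹ * (g * a)) := by
        rw [← map_mul, ← map_mul, ← map_mul, ← h3]
      rw [h4, hc, mul_smul_comm, mul_one, smul_mul_assoc, mul_assoc, rho_mul_rho_inv, mul_one]
    -- the commutative algebra
    let E : Subalgebra K (Module.End K V) := Algebra.adjoin K {ρ a}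
    have hcE : ∀ e₁ ∈ E, ∀ e₂ ∈ E, e₁ * e₂ = e₂ * e₁ := by
      intro e₁ h₁ e₂ h₂
      have h3 : Commute (ρ a) e₂ :=
        Algebra.commute_of_mem_adjoin_singleton_of_commute h₂ (Commute.refl _)
      exact (Algebra.commute_of_mem_adjoin_singleton_of_commute h₁ h3.symm).symm
    have hEn : ∀ h : H, ∀ e ∈ E, ρ h * e * ρ h⁻¹ ∈ E := by
      intro g e he
      induction he using Algebra.adjoin_induction with
      | mem x hx =>
        rw [Set.mem_singleton_iff] at hx
        subst hx
        obtain ⟨c, hc⟩ := hconj g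
        rw [hc]
        exact E.smul_mem (Algebra.self_mem_adjoin_singleton K _) c
      | algebraMap r =>
        rw [← Algebra.commutes, mul_assoc, rho_mul_rho_inv, mul_one]
        exact E.algebraMap_mem r
      | add x y hx hy ihx ihy =>
        rw [mul_add, add_mul]
        exact E.add_mem ihx ihy
      | mul x y hx hy ihx ihy =>
        have h1 : ρ g * (x * y) * ρ g⁻¹ = (ρ g * x * ρ g⁻¹) * (ρ g * y * ρ g⁻¹) := by
          simp only [mul_assoc]
          rw [← mul_assoc (ρ g⁻¹) (ρ g), rho_inv_mul_rho, one_mul]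
        rw [h1]
        exact E.mul_mem ihx ihy
    obtain ⟨c₀, hc₀⟩ := Module.End.exists_eigenvalue (ρ a)
    obtain ⟨v₀, hv₀⟩ := hc₀.exists_hasEigenvector
    have hv₀1 : ρ a v₀ = c₀ • v₀ := Module.End.mem_eigenspace_iff.1 hv₀.1
    have hv₀2 : v₀ ≠ 0 := hv₀.2
    let e : Module.End K V := ρ a - algebraMap K (Module.End K V) c₀
    have heE : e ∈ E := E.sub_mem (Algebra.self_mem_adjoin_singleton K _) (E.algebraMap_mem c₀)
    have hene : e ≠ 0 := by
      intro he0
      apply haZ
      rw [hZmem]
      intro g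
      have h1 : ρ a = algebraMap K (Module.End K V) c₀ := sub_eq_zero.1 he0
      rw [h1]
      exact Algebra.commutes c₀ (ρ g)
    have hker : LinearMap.ker e ≠ ⊥ := by
      intro hk
      have h1 : v₀ ∈ LinearMap.ker e := by
        rw [LinearMap.mem_ker]
        show ρ a v₀ - (algebraMap K (Module.End K V) c₀) v₀ = 0
        rw [hv₀1, Module.algebraMap_end_apply, sub_self]
      rw [hk, Submodule.mem_bot] at h1
      exact hv₀2 h1
    have hnprim : ¬ (∀ (t : ℕ) (D : Fin t → Submodule K V), 2 ≤ t → iSupIndep D → iSup D = ⊤ →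
        (∀ i, 0 < Module.finrank K (D i)) →
        (∀ i j, Module.finrank K (D i) = Module.finrank K (D j)) →
        ¬ ∀ h : H, ∃ σ : Equiv.Perm (Fin t), ∀ i, (D i).map (ρ h) = D (σ i)) := fun hprim =>
      hker (Cfsg.Agent.Lib.Helper97.clifford_comm ρ E hcE hEn hirr hprim heE hene)
    push Not at hnprim
    obtain ⟨t, D, ht, hind, hsup, hpos, heq, hperm⟩ := hnprim
    -- the action on subspaces
    letI act : MulAction H (Submodule K V) :=
      { smul := fun h W => W.map (ρ h)
        one_smul := fun W => by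
          show W.map (ρ 1) = W
          rw [map_one]; exact Submodule.map_id W
        mul_smul := fun h k W => by
          show W.map (ρ (h * k)) = (W.map (ρ k)).map (ρ h)
          rw [map_mul]; exact Submodule.map_comp (ρ k) (ρ h) W }
    let i₀ : Fin t := ⟨0, by omega⟩
    have hD0 : ∀ i, D i ≠ ⊥ := by
      intro i h0
      have h1 := hpos i
      rw [h0, finrank_bot] at h1
      exact lt_irrefl _ h1
    have hDinj : Function.Injective D := hind.injective hD0
    let S : Subgroup H := MulAction.stabilizer H (D i₀)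
    have hS : ∀ h : H, h ∈ S ↔ (D i₀).map (ρ h) = D i₀ := fun h => MulAction.mem_stabilizer_iff
    have hmm : ∀ (g h : H) (W : Submodule K V), (W.map (ρ h)).map (ρ g) = W.map (ρ (g * h)) := by
      intro g h W
      rw [map_mul]; exact (Submodule.map_comp (ρ h) (ρ g) W).symm
    have hm1 : ∀ W : Submodule K V, W.map (ρ 1) = W := by
      intro W
      rw [map_one]; exact Submodule.map_id W
    have he1 : ∀ h : H, ∃ j, (D i₀).map (ρ h) = D j := by
      intro h
      obtain ⟨σ, hσ⟩ := hperm h
      exact ⟨σ i₀, hσ i₀⟩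
    have he2 : ∀ j, ∃ h : H, (D i₀).map (ρ h) = D j := by
      intro j
      by_contra hcon
      push Not at hcon
      let U : Submodule K V := ⨆ h : H, (D i₀).map (ρ h)
      have hUinv : ∀ g : H, U.map (ρ g) ≤ U := by
        intro g
        rw [Submodule.map_iSup]
        apply iSup_le
        intro h
        rw [hmm]
        exact le_iSup (fun h : H => (D i₀).map (ρ h)) (g * h)
      have hU0 : U ≠ ⊥ := by
        intro h0
        have h1 : D i₀ ≤ U := by
          have h2 := le_iSup (fun h : H => (D i₀).map (ρ h)) 1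
          rw [hm1] at h2
          exact h2
        rw [h0] at h1
        exact hD0 i₀ (le_bot_iff.1 h1)
      have hUtop : U = ⊤ := (hirr U hUinv).resolve_left hU0
      have hUle : U ≤ ⨆ (j') (_ : j' ≠ j), D j' := by
        apply iSup_le
        intro h
        obtain ⟨j', hj'⟩ := he1 h
        rw [hj']
        have hne : j' ≠ j := fun heq => hcon h (heq ▸ hj')
        exact le_iSup₂ (f := fun j' (_ : j' ≠ j) => D j') j' hne
      have h3 : D j ≤ ⨆ (j') (_ : j' ≠ j), D j' := by
        rw [hUtop] at hUle
        exact le_trans le_top hUle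
      exact hD0 j ((hind j).eq_bot_of_le h3)
    have horb : MulAction.orbit H (D i₀) = Set.range D := by
      ext W
      constructor
      · rintro ⟨h, rfl⟩
        obtain ⟨j, hj⟩ := he1 h
        exact ⟨j, hj.symm⟩
      · rintro ⟨j, rfl⟩
        obtain ⟨h, hh⟩ := he2 j
        exact ⟨h, hh⟩
    have hcardorb : Nat.card (MulAction.orbit H (D i₀)) = t := by
      rw [horb, Nat.card_range_of_injective hDinj, Nat.card_eq_fintype_card, Fintype.card_fin]
    have hos : t * Nat.card S = Nat.card H := by
      rw [← hcardorb, Nat.card_congr (MulAction.orbitEquivQuotientStabilizer H (D i₀))]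
      exact (Subgroup.card_eq_card_quotient_mul_card_subgroup S).symm
    obtain ⟨k, hk⟩ := IsPGroup.iff_card.1 hq
    have htdvd : t ∣ q ^ k := hk ▸ Dvd.intro _ hos
    obtain ⟨b', -, hb'⟩ := (Nat.dvd_prime_pow Fact.out).1 htdvd
    have hSpos : 0 < Nat.card S := Nat.card_pos
    have hSlt : Nat.card S ≤ n := by
      have h1 : 2 * Nat.card S ≤ t * Nat.card S := Nat.mul_le_mul_right _ ht
      omega
    -- the representation of `S` on `D i₀`
    have hSmap : ∀ h : S, ∀ v ∈ D i₀, ρ h.1 v ∈ D i₀ := by
      intro h v hv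
      have h1 := (hS h.1).1 h.2
      rw [← h1]
      exact Submodule.mem_map_of_mem hv
    let ρS : S →* Module.End K (D i₀) :=
      { toFun := fun h => (ρ h.1).restrict (hSmap h)
        map_one' := by
          apply LinearMap.ext; intro v; apply Subtype.ext
          show ρ (1 : S).1 v.1 = v.1
          rw [Subgroup.coe_one, map_one]; rfl
        map_mul' := by
          intro h k
          apply LinearMap.ext; intro v; apply Subtype.ext
          show ρ (h * k : S).1 v.1 = ρ h.1 (ρ k.1 v.1)
          rw [Subgroup.coe_mul, map_mul]; rfl }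
    haveI : Nontrivial (D i₀) := Module.finrank_pos_iff.1 (hpos i₀)
    have hirrS : ∀ W' : Submodule K (D i₀), (∀ h : S, W'.map (ρS h) ≤ W') →
        W' = ⊥ ∨ W' = ⊤ := by
      intro W' hW'
      by_cases hW0 : W' = ⊥
      · left; exact hW0
      right
      let W : Submodule K V := W'.map (D i₀).subtype
      have hWle : W ≤ D i₀ := by
        rintro _ ⟨w, _, rfl⟩
        exact w.2
      have hWS : ∀ h ∈ S, W.map (ρ h) ≤ W := by
        rintro h hh _ ⟨_, ⟨w, hw, rfl⟩, rfl⟩
        exact ⟨ρS ⟨h, hh⟩ w, hW' ⟨h, hh⟩ ⟨w, hw, rfl⟩, rfl⟩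
      let U : Submodule K V := ⨆ h : H, W.map (ρ h)
      have hUinv : ∀ g : H, U.map (ρ g) ≤ U := by
        intro g
        rw [Submodule.map_iSup]
        apply iSup_le
        intro h
        rw [hmm]
        exact le_iSup (fun h : H => W.map (ρ h)) (g * h)
      have hU0 : U ≠ ⊥ := by
        intro h0
        have h1 : W ≤ U := by
          have h2 := le_iSup (fun h : H => W.map (ρ h)) 1
          rw [hm1] at h2
          exact h2
        rw [h0] at h1
        apply hW0
        rw [eq_bot_iff]
        intro w hw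
        have h2 : (w : V) ∈ W := ⟨w, hw, rfl⟩
        have h3 := h1 h2
        rw [Submodule.mem_bot] at h3 ⊢
        exact Subtype.ext h3
      have hUtop : U = ⊤ := (hirr U hUinv).resolve_left hU0
      have hUle : U ≤ (⨆ (j) (_ : j ≠ i₀), D j) ⊔ W := by
        apply iSup_le
        intro h
        by_cases hh : h ∈ S
        · exact le_trans (hWS h hh) le_sup_right
        · obtain ⟨j, hj⟩ := he1 h
          have hne : j ≠ i₀ := fun heq => hh ((hS h).2 (heq ▸ hj))
          refine le_trans ?_ le_sup_left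
          refine le_trans (Submodule.map_mono hWle) ?_
          rw [hj]
          exact le_iSup₂ (f := fun j (_ : j ≠ i₀) => D j) j hne
      have hDW : D i₀ ≤ W := by
        have h1 : D i₀ ≤ D i₀ ⊓ ((⨆ (j) (_ : j ≠ i₀), D j) ⊔ W) := by
          apply le_inf le_rfl
          rw [hUtop] at hUle
          exact le_trans le_top hUle
        rw [← inf_sup_assoc_of_le _ hWle, (hind i₀).eq_bot, bot_sup_eq] at h1
        exact h1
      rw [eq_top_iff]
      intro w _
      obtain ⟨w', hw', hww⟩ := hDW w.2
      have h1 : w' = w := Subtype.ext hww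
      rw [← h1]; exact hw'
    obtain ⟨a', ha'⟩ := ih ρS hSlt (hq.to_subgroup S) hirrS
    -- dimension count
    have hint := DirectSum.isInternal_submodule_of_iSupIndep_of_iSup_eq_top hind hsup
    have hfin : finrank K V = ∑ i, finrank K (D i) := by
      have e := LinearEquiv.ofBijective (DirectSum.coeLinearMap D) hint
      rw [← e.finrank_eq, Module.finrank_directSum]
    refine ⟨b' + a', ?_⟩
    rw [hfin, Finset.sum_congr rfl (fun i _ => heq i i₀), Finset.sum_const, Finset.card_univ,
      Fintype.card_fin, smul_eq_mul, ha', hb', pow_add]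

end QPow

end Cfsg.Agent.Lib.Helper32
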