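import Mathlib

set_option autoImplicit false

/-!
# Dimension of the commutant of a nilpotent endomorphism

Two elementary (Jordan-form free) facts on a nilpotent endomorphism `a` of a finite-dimensional
space `V`:
* if `a ^ P = 0` then `dim V ≤ P * dim (ker a)`;
* if `a ^ s = 0` then `(dim V) ^ 2 ≤ s * dim (commutant of a)`.
-/

namespace Cfsg.Agent.Lib.Helper32

open Module

universe u v

section CommDim

variable {K : Type v} [Field K]

/-- The commutant of `a` in `End V`, as a subspace. -/
def commSub {V : Type u} [AddCommGroup V] [Module K V] (a : Module.End K V) :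
    Submodule K (Module.End K V) where
  carrier := {φ | a * φ = φ * a}
  add_mem' := by
    intro φ ψ hφ hψ
    show a * (φ + ψ) = (φ + ψ) * a
    rw [mul_add, add_mul, hφ, hψ]
  zero_mem' := by
    show a * 0 = 0 * a
    rw [mul_zero, zero_mul]
  smul_mem' := by
    intro c φ hφ
    show a * (c • φ) = (c • φ) * a
    rw [mul_smul_comm, smul_mul_assoc, hφ]

theorem mem_commSub {V : Type u} [AddCommGroup V] [Module K V] {a φ : Module.End K V} :
    φ ∈ commSub a ↔ a * φ = φ * a := Iff.rfl

theorem subsingleton_of_pow_zero_eq_zero {V : Type u} [AddCommGroup V] [Module K V]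
    (a : Module.End K V) (h : a ^ 0 = 0) : Subsingleton V := by
  refine ⟨fun x y => ?_⟩
  have h1 : (a ^ 0) x = x := by rw [pow_zero]; rfl
  have h2 : (a ^ 0) y = y := by rw [pow_zero]; rfl
  rw [← h1, ← h2, h]; rfl

theorem restrict_range_pow_eq_zero {V : Type u} [AddCommGroup V] [Module K V]
    (a : Module.End K V) (s : ℕ) (h : a ^ (s + 1) = 0)
    (hI : ∀ v ∈ LinearMap.range a, a v ∈ LinearMap.range a) :
    (a.restrict hI) ^ s = 0 := by
  rw [Module.End.pow_restrict]
  ext ⟨w, v, rfl⟩
  simp only [LinearMap.restrict_coe_apply, LinearMap.zero_apply, ZeroMemClass.coe_zero]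
  have h1 : (a ^ s) (a v) = (a ^ (s + 1)) v := by
    rw [pow_succ]; rfl
  rw [h1, h]; rfl

/-- If `a ^ P = 0` then `dim V ≤ P * dim (ker a)`. -/
theorem finrank_le_mul_finrank_ker (P : ℕ) : ∀ {V : Type u} [AddCommGroup V] [Module K V]
    [FiniteDimensional K V] (a : Module.End K V), a ^ P = 0 →
    finrank K V ≤ P * finrank K (LinearMap.ker a) := by
  induction P with
  | zero =>
    intro V _ _ _ a h
    have hsub : Subsingleton V := subsingleton_of_pow_zero_eq_zero a h
    rw [finrank_zero_of_subsingleton]
    exact Nat.zero_le _
  | succ P ih =>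
    intro V _ _ _ a h
    have hI : ∀ v ∈ LinearMap.range a, a v ∈ LinearMap.range a := fun v _ => ⟨v, rfl⟩
    have h' : (a.restrict hI) ^ P = 0 := restrict_range_pow_eq_zero a P h hI
    have h1 := ih (a.restrict hI) h'
    have h2 : finrank K (LinearMap.ker (a.restrict hI)) ≤ finrank K (LinearMap.ker a) := by
      let j : LinearMap.ker (a.restrict hI) →ₗ[K] LinearMap.ker a :=
        { toFun := fun w => ⟨((w : LinearMap.range a) : V), by
            have hw : (a.restrict hI) (w : LinearMap.range a) = 0 := w.2
            have h3 : ((a.restrict hI (w : LinearMap.range a) : LinearMap.range a) : V) = 0 := by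
              rw [hw]; rfl
            rw [LinearMap.mem_ker]
            exact h3⟩
          map_add' := fun x y => rfl
          map_smul' := fun c x => rfl }
      apply LinearMap.finrank_le_finrank_of_injective (f := j)
      intro x y hxy
      have h3 := congrArg (fun z : LinearMap.ker a => (z : V)) hxy
      exact Subtype.ext (Subtype.ext h3)
    have h3 := LinearMap.finrank_range_add_finrank_ker a
    calc finrank K V = finrank K (LinearMap.range a) + finrank K (LinearMap.ker a) := h3.symm
      _ ≤ P * finrank K (LinearMap.ker (a.restrict hI)) + finrank K (LinearMap.ker a) :=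
          Nat.add_le_add_right h1 _
      _ ≤ P * finrank K (LinearMap.ker a) + finrank K (LinearMap.ker a) :=
          Nat.add_le_add_right (Nat.mul_le_mul_left _ h2) _
      _ = (P + 1) * finrank K (LinearMap.ker a) := by ring

/-- If `a ^ s = 0` then `(dim V)^2 ≤ s * dim (commutant of a)`. -/
theorem sq_finrank_le_mul_finrank_commSub (s : ℕ) : ∀ {V : Type u} [AddCommGroup V] [Module K V]
    [FiniteDimensional K V] (a : Module.End K V), a ^ s = 0 →
    finrank K V ^ 2 ≤ s * finrank K (commSub a) := by
  induction s with
  | zero =>
    intro V _ _ _ a h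
    have hsub : Subsingleton V := subsingleton_of_pow_zero_eq_zero a h
    rw [finrank_zero_of_subsingleton]
    simp
  | succ s ih =>
    intro V _ _ _ a h
    have hI : ∀ v ∈ LinearMap.range a, a v ∈ LinearMap.range a := fun v _ => ⟨v, rfl⟩
    have h' : (a.restrict hI) ^ s = 0 := restrict_range_pow_eq_zero a s h hI
    have h1 := ih (a.restrict hI) h'
    have h3 := LinearMap.finrank_range_add_finrank_ker a
    -- the restriction map
    have hres : ∀ φ : commSub a, ∀ v ∈ LinearMap.range a,
        (φ : Module.End K V) v ∈ LinearMap.range a := by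
      rintro ⟨φ, hφ⟩ _ ⟨w, rfl⟩
      refine ⟨φ w, ?_⟩
      have h4 := congrArg (fun f : Module.End K V => f w) hφ
      exact h4
    let res : commSub a →ₗ[K] Module.End K (LinearMap.range a) :=
      { toFun := fun φ => (φ : Module.End K V).restrict (hres φ)
        map_add' := fun φ ψ => by ext x; rfl
        map_smul' := fun c φ => by ext x; rfl }
    have hres_apply : ∀ (φ : commSub a) (w : LinearMap.range a),
        ((res φ w : LinearMap.range a) : V) = (φ : Module.End K V) (w : V) := fun φ w => rfl
    -- surjectivity onto the commutant of the restriction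
    have hsurj : commSub (a.restrict hI) ≤ LinearMap.range res := by
      intro ψ hψ
      obtain ⟨C, hC⟩ := Submodule.exists_isCompl (LinearMap.range a)
      obtain ⟨g, hg⟩ := a.rangeRestrict.exists_rightInverse_of_surjective
        (LinearMap.range_rangeRestrict a)
      have hg' : ∀ w : LinearMap.range a, a (g w) = (w : V) := by
        intro w
        have h5 := congrArg (fun f => ((f w : LinearMap.range a) : V)) hg
        exact h5
      let pI := Submodule.projectionOnto (LinearMap.range a) C hC
      let pC := Submodule.projectionOnto C (LinearMap.range a) hC.symm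
      let φ : Module.End K V := (LinearMap.range a).subtype ∘ₗ ψ ∘ₗ pI +
        g ∘ₗ ψ ∘ₗ a.rangeRestrict ∘ₗ C.subtype ∘ₗ pC
      have hφ_apply : ∀ v : V, φ v = ((ψ (pI v) : LinearMap.range a) : V) +
          g (ψ (a.rangeRestrict ((pC v : C) : V))) := fun v => rfl
      have hψ' : ∀ w : LinearMap.range a, a ((ψ w : LinearMap.range a) : V) =
          ((ψ ((a.restrict hI) w) : LinearMap.range a) : V) := by
        intro w
        have h5 := congrArg (fun f : Module.End K (LinearMap.range a) =>
          ((f w : LinearMap.range a) : V)) hψ
        exact h5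
      have hsum : ∀ v : V, ((pI v : LinearMap.range a) : V) + ((pC v : C) : V) = v := fun v =>
        Submodule.projection_add_projection_eq_self hC v
      have hpI : ∀ w : LinearMap.range a, pI (w : V) = w := fun w =>
        Submodule.projectionOnto_apply_left hC w
      have hpC : ∀ w : LinearMap.range a, pC (w : V) = 0 := fun w =>
        Submodule.projectionOnto_apply_right hC.symm w
      have hφcomm : a * φ = φ * a := by
        apply LinearMap.ext
        intro v
        show a (φ v) = φ (a v)
        rw [hφ_apply, hφ_apply, map_add, hg', hψ']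
        have h6 : pI (a v) = ⟨a v, v, rfl⟩ := hpI ⟨a v, v, rfl⟩
        have h7 : pC (a v) = 0 := hpC ⟨a v, v, rfl⟩
        rw [h6, h7]
        simp only [ZeroMemClass.coe_zero, map_zero, add_zero]
        rw [← Submodule.coe_add, ← map_add]
        congr 2
        apply Subtype.ext
        show a ((pI v : LinearMap.range a) : V) + a ((pC v : C) : V) = a v
        rw [← map_add, hsum]
      refine ⟨⟨φ, hφcomm⟩, ?_⟩
      apply LinearMap.ext
      intro w
      apply Subtype.ext
      rw [hres_apply]
      show φ (w : V) = _
      rw [hφ_apply, hpI, hpC]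
      simp
    -- the kernel is large
    have hker : finrank K (LinearMap.ker a) * finrank K (LinearMap.ker a) ≤
        finrank K (LinearMap.ker res) := by
      have hj1 : ∀ g : (V ⧸ LinearMap.range a) →ₗ[K] LinearMap.ker a,
          a * ((LinearMap.ker a).subtype ∘ₗ g ∘ₗ (LinearMap.range a).mkQ) =
            ((LinearMap.ker a).subtype ∘ₗ g ∘ₗ (LinearMap.range a).mkQ) * a := by
        intro g
        apply LinearMap.ext
        intro v
        show a ((g ((LinearMap.range a).mkQ v) : LinearMap.ker a) : V) =
          ((g ((LinearMap.range a).mkQ (a v)) : LinearMap.ker a) : V)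
        have h5 : (LinearMap.range a).mkQ (a v) = 0 := by
          rw [Submodule.mkQ_apply, Submodule.Quotient.mk_eq_zero]
          exact ⟨v, rfl⟩
        rw [h5, map_zero]
        exact (g ((LinearMap.range a).mkQ v)).2
      have hj2 : ∀ g : (V ⧸ LinearMap.range a) →ₗ[K] LinearMap.ker a,
          res ⟨(LinearMap.ker a).subtype ∘ₗ g ∘ₗ (LinearMap.range a).mkQ, hj1 g⟩ = 0 := by
        intro g
        apply LinearMap.ext
        intro w
        apply Subtype.ext
        rw [hres_apply]
        show ((g ((LinearMap.range a).mkQ (w : V)) : LinearMap.ker a) : V) = 0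
        have h5 : (LinearMap.range a).mkQ (w : V) = 0 := by
          rw [Submodule.mkQ_apply, Submodule.Quotient.mk_eq_zero]
          exact w.2
        rw [h5, map_zero]; rfl
      let j : ((V ⧸ LinearMap.range a) →ₗ[K] LinearMap.ker a) →ₗ[K] LinearMap.ker res :=
        { toFun := fun g => ⟨⟨(LinearMap.ker a).subtype ∘ₗ g ∘ₗ (LinearMap.range a).mkQ, hj1 g⟩,
            hj2 g⟩
          map_add' := fun g g' => by
            apply Subtype.ext; apply Subtype.ext
            apply LinearMap.ext; intro v; rfl
          map_smul' := fun c g => by
            apply Subtype.ext; apply Subtype.ext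
            apply LinearMap.ext; intro v; rfl }
      have hjinj : Function.Injective j := by
        intro g g' hgg
        apply LinearMap.ext
        intro y
        obtain ⟨v, rfl⟩ := Submodule.mkQ_surjective (LinearMap.range a) y
        have h5 := congrArg (fun z : LinearMap.ker res =>
          ((z : commSub a) : Module.End K V) v) hgg
        exact Subtype.ext h5
      have h5 := LinearMap.finrank_le_finrank_of_injective hjinj
      rw [Module.finrank_linearMap] at h5
      have h6 := Submodule.finrank_quotient_add_finrank (LinearMap.range a)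
      have h7 : finrank K (V ⧸ LinearMap.range a) = finrank K (LinearMap.ker a) := by omega
      rw [h7] at h5
      exact h5
    have hrn := LinearMap.finrank_range_add_finrank_ker res
    have hrange : finrank K (commSub (a.restrict hI)) ≤ finrank K (LinearMap.range res) :=
      Submodule.finrank_mono hsurj
    -- arithmetic
    set d := finrank K V
    set e := finrank K (LinearMap.range a)
    set k := finrank K (LinearMap.ker a)
    set c' := finrank K (commSub (a.restrict hI))
    set c := finrank K (commSub a)
    have hc : k * k + c' ≤ c := by omega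
    have hd : d = e + k := h3.symm
    have key : 2 * k * e ≤ s * (k * k) + c' := by
      by_contra hcon
      rw [not_le] at hcon
      have h8 : (s : ℤ) * (s * (k * k) + c') < s * (2 * k * e) ∨ s = 0 := by
        rcases Nat.eq_zero_or_pos s with h0 | hpos
        · right; exact h0
        · left
          have : ((s * (k * k) + c' : ℕ) : ℤ) < ((2 * k * e : ℕ) : ℤ) := by exact_mod_cast hcon
          push_cast at this
          have hs' : (0 : ℤ) < s := by exact_mod_cast hpos
          nlinarith
      rcases h8 with h8 | h8
      · have h9 : ((e ^ 2 : ℕ) : ℤ) ≤ ((s * c' : ℕ) : ℤ) := by exact_mod_cast h1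
        push_cast at h9
        nlinarith [sq_nonneg ((s : ℤ) * k - e)]
      · rw [h8, zero_mul] at h1
        have he : e = 0 := by
          have : e ^ 2 = 0 := Nat.le_zero.1 h1
          exact pow_eq_zero_iff (by norm_num) |>.1 this
        rw [he] at hcon
        simp at hcon
    calc d ^ 2 = (e + k) ^ 2 := by rw [hd]
      _ = e ^ 2 + 2 * k * e + k * k := by ring
      _ ≤ s * c' + (s * (k * k) + c') + k * k := by
          exact Nat.add_le_add_right (Nat.add_le_add h1 key) _
      _ = (s + 1) * (k * k + c') := by ring
      _ ≤ (s + 1) * c := Nat.mul_le_mul_left _ hc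

end CommDim

end Cfsg.Agent.Lib.Helper32
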