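import Mathlib
import Cfsg.Agent.Lib.Helper32.HHComm

set_option autoImplicit false

/-!
# Fixed points in a quotient of a permutation module

Linear algebra behind the Hall–Higman critical case: a module `M` with an operator `T`,
`(T - 1) ^ P = 0`, an equivariant surjection `π : M → E`; fixed vectors of `E` that lift to fixed
vectors of `M` span a space of dimension at most `dim M^T - (dim M - dim E) / P`.
-/

namespace Cfsg.Agent.Lib.Helper32

open Module

section Abstract

variable {K : Type*} [Field K] {M E' : Type*} [AddCommGroup M] [Module K M]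
  [FiniteDimensional K M] [AddCommGroup E'] [Module K E'] [FiniteDimensional K E']

theorem finrank_fixed_bound (P : ℕ) (T : Module.End K M) (π : M →ₗ[K] E')
    (hker : ∀ m, π m = 0 → π (T m) = 0) (hT : (T - 1) ^ P = 0)
    (hsurj : Function.Surjective π) (Cm : Submodule K E')
    (hCm : ∀ φ ∈ Cm, ∃ m, π m = φ ∧ T m = m) :
    P * finrank K Cm + finrank K M ≤ P * finrank K (LinearMap.ker (T - 1)) + finrank K E' := by
  set Fx := LinearMap.ker (T - 1) with hFx
  let π' : Fx →ₗ[K] E' := π.comp Fx.subtype
  have h1 := LinearMap.finrank_range_add_finrank_ker π'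
  have h2 : finrank K Cm ≤ finrank K (LinearMap.range π') := by
    apply Submodule.finrank_mono
    intro φ hφ
    obtain ⟨m, hm1, hm2⟩ := hCm φ hφ
    have hm : m ∈ Fx := by
      rw [hFx, LinearMap.mem_ker, LinearMap.sub_apply, hm2]
      exact sub_self m
    exact ⟨⟨m, hm⟩, hm1⟩
  -- the kernel of π
  have hE : ∀ m ∈ LinearMap.ker π, (T - 1) m ∈ LinearMap.ker π := by
    intro m hm
    rw [LinearMap.mem_ker] at hm ⊢
    rw [LinearMap.sub_apply, map_sub, hker m hm]
    show (0 : E') - π m = 0
    rw [hm, sub_zero]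
  have h3 : ((T - 1).restrict hE) ^ P = 0 := by
    rw [Module.End.pow_restrict]
    ext ⟨w, hw⟩
    simp only [LinearMap.restrict_coe_apply, LinearMap.zero_apply, ZeroMemClass.coe_zero]
    rw [hT]; rfl
  have h4 := finrank_le_mul_finrank_ker P ((T - 1).restrict hE) h3
  have h5 : finrank K (LinearMap.ker ((T - 1).restrict hE)) ≤ finrank K (LinearMap.ker π') := by
    let j : LinearMap.ker ((T - 1).restrict hE) →ₗ[K] LinearMap.ker π' :=
      { toFun := fun w => ⟨⟨((w : LinearMap.ker π) : M), by
            have hw : ((T - 1).restrict hE) (w : LinearMap.ker π) = 0 := w.2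
            have hw' : ((((T - 1).restrict hE) (w : LinearMap.ker π) : LinearMap.ker π) : M) = 0 := by
              rw [hw]; rfl
            rw [hFx, LinearMap.mem_ker]
            exact hw'⟩, by
            rw [LinearMap.mem_ker]
            exact (w : LinearMap.ker π).2⟩
        map_add' := fun a b => rfl
        map_smul' := fun c a => rfl }
    apply LinearMap.finrank_le_finrank_of_injective (f := j)
    intro a b hab
    have h6 := congrArg (fun z : LinearMap.ker π' => ((z : Fx) : M)) hab
    exact Subtype.ext (Subtype.ext h6)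
  have h6 := LinearMap.finrank_range_add_finrank_ker π
  have h7 : finrank K (LinearMap.range π) = finrank K E' := by
    rw [LinearMap.range_eq_top.2 hsurj, finrank_top]
  set c := finrank K Cm
  set r := finrank K (LinearMap.range π')
  set k' := finrank K (LinearMap.ker π')
  set f := finrank K Fx
  set eK := finrank K (LinearMap.ker π)
  set kk := finrank K (LinearMap.ker ((T - 1).restrict hE))
  have h8 : P * c ≤ P * r := Nat.mul_le_mul_left _ h2
  have h9 : P * kk ≤ P * k' := Nat.mul_le_mul_left _ h5
  have h10 : P * r + P * k' = P * f := by rw [← Nat.mul_add, h1]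
  omega

end Abstract

section Perm

variable (K : Type*) [Field K] {Γ Y : Type*} [Group Γ] [MulAction Γ Y]

/-- The translation operator on `K × (Y → K)`. -/
def permT (g : Γ) : Module.End K (K × (Y → K)) :=
  LinearMap.prodMap LinearMap.id (LinearMap.funLeft K K (fun a : Y => g⁻¹ • a))

theorem permT_apply (g : Γ) (m : K × (Y → K)) :
    permT K g m = (m.1, fun a => m.2 (g⁻¹ • a)) := rfl

theorem permT_pow (g : Γ) (k : ℕ) (m : K × (Y → K)) :
    (permT K g ^ k) m = (m.1, fun a => m.2 ((g⁻¹) ^ k • a)) := by
  induction k with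
  | zero =>
    simp only [pow_zero, one_smul]
    rfl
  | succ k ih =>
    rw [pow_succ', Module.End.mul_apply, ih, permT_apply]
    simp only [pow_succ, mul_smul]

theorem permT_sub_one_pow [Finite Γ] (p : ℕ) [Fact p.Prime] [CharP K p] (n : ℕ)
    (hΓ : Nat.card Γ = p ^ n) (g : Γ) :
    (permT K g - 1 : Module.End K (K × (Y → K))) ^ (p ^ n) = 0 := by
  haveI : CharP (Module.End K (K × (Y → K))) p :=
    charP_of_injective_algebraMap (algebraMap K (Module.End K (K × (Y → K)))).injective p
  haveI : ExpChar (Module.End K (K × (Y → K))) p := ExpChar.prime Fact.out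
  rw [sub_pow_expChar_pow_of_commute p n (Commute.one_right _), one_pow, sub_eq_zero]
  apply LinearMap.ext
  intro m
  rw [permT_pow]
  have h1 : (g⁻¹) ^ (p ^ n) = 1 := by
    rw [← hΓ]; exact pow_card_eq_one'
  rw [h1]
  simp only [one_smul]
  rfl

theorem permT_fixed_bound [Finite Γ] [Finite Y]
    (hfree : ∀ (γ : Γ) (a : Y), γ • a = a → γ = 1) (g : Γ)
    (hg : ∀ γ : Γ, γ ∈ Subgroup.zpowers g) :
    Nat.card Γ * finrank K (LinearMap.ker (permT K g - 1 : Module.End K (K × (Y → K)))) ≤
      Nat.card Γ + Nat.card Y := by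
  classical
  let Ω := Quotient (MulAction.orbitRel Γ Y)
  haveI : Fintype Ω := Fintype.ofFinite Ω
  haveI : Fintype Y := Fintype.ofFinite Y
  have hstab : ∀ b : Y, MulAction.stabilizer Γ b = ⊥ := by
    intro b
    rw [eq_bot_iff]
    intro γ hγ
    rw [MulAction.mem_stabilizer_iff] at hγ
    rw [Subgroup.mem_bot]
    exact hfree γ b hγ
  have hcard : Nat.card Y = Nat.card Ω * Nat.card Γ := by
    rw [Nat.card_congr (MulAction.selfEquivOrbitsQuotientProd hstab), Nat.card_prod]
  -- invariance under all of Γ
  have hinv : ∀ m : K × (Y → K), m ∈ LinearMap.ker (permT K g - 1 : Module.End K (K × (Y → K))) →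
      ∀ (γ : Γ) (a : Y), m.2 (γ • a) = m.2 a := by
    intro m hm
    rw [LinearMap.mem_ker, LinearMap.sub_apply, sub_eq_zero, permT_apply] at hm
    have hm2 : ∀ a : Y, m.2 (g⁻¹ • a) = m.2 a := by
      intro a
      have h1 := congrArg (fun z : K × (Y → K) => z.2 a) hm
      exact h1
    let S : Subgroup Γ :=
      { carrier := {γ | ∀ a : Y, m.2 (γ • a) = m.2 a}
        mul_mem' := by
          intro γ γ' hγ hγ' a
          rw [mul_smul, hγ, hγ']
        one_mem' := by
          intro a
          rw [one_smul]
        inv_mem' := by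
          intro γ hγ a
          have h1 := hγ (γ⁻¹ • a)
          rw [smul_inv_smul] at h1
          exact h1.symm }
    have hgS : g ∈ S := by
      have h1 : g⁻¹ ∈ S := hm2
      have h2 := S.inv_mem h1
      rwa [inv_inv] at h2
    intro γ
    exact (Subgroup.zpowers_le.2 hgS) (hg γ)
  let j : LinearMap.ker (permT K g - 1 : Module.End K (K × (Y → K))) →ₗ[K] K × (Ω → K) :=
    { toFun := fun m => ((m : K × (Y → K)).1, fun ω => (m : K × (Y → K)).2 ω.out)
      map_add' := fun a b => rfl
      map_smul' := fun c a => rfl }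
  have hj : Function.Injective j := by
    intro m m' hmm
    apply Subtype.ext
    have h1 : (m : K × (Y → K)).1 = (m' : K × (Y → K)).1 :=
      congrArg (fun z : K × (Ω → K) => z.1) hmm
    have h2 : ∀ ω : Ω, (m : K × (Y → K)).2 ω.out = (m' : K × (Y → K)).2 ω.out := by
      intro ω
      exact congrArg (fun z : K × (Ω → K) => z.2 ω) hmm
    apply Prod.ext h1
    funext a
    have h3 : (Quotient.mk (MulAction.orbitRel Γ Y) a).out ∈ MulAction.orbit Γ a := by
      have h4 := Quotient.mk_out (s := MulAction.orbitRel Γ Y) a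
      exact (MulAction.orbitRel_apply).1 h4
    obtain ⟨γ, hγ⟩ := h3
    have h5 := h2 (Quotient.mk (MulAction.orbitRel Γ Y) a)
    rw [← hγ] at h5
    have h6 : (m : K × (Y → K)).2 (γ • a) = (m : K × (Y → K)).2 a := hinv m.1 m.2 γ a
    have h7 : (m' : K × (Y → K)).2 (γ • a) = (m' : K × (Y → K)).2 a := hinv m'.1 m'.2 γ a
    have h5' : (m : K × (Y → K)).2 (γ • a) = (m' : K × (Y → K)).2 (γ • a) := h5
    rw [← h6, ← h7, h5']
  have h1 := LinearMap.finrank_le_finrank_of_injective hj
  rw [Module.finrank_prod, Module.finrank_self, Module.finrank_fintype_fun_eq_card,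
    Fintype.card_eq_nat_card] at h1
  calc Nat.card Γ * finrank K (LinearMap.ker (permT K g - 1 : Module.End K (K × (Y → K))))
      ≤ Nat.card Γ * (1 + Nat.card Ω) := Nat.mul_le_mul_left _ h1
    _ = Nat.card Γ + Nat.card Y := by rw [hcard]; ring

end Perm

end Cfsg.Agent.Lib.Helper32
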