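import Mathlib
import Cfsg.Agent.Lib.Helper32.HHComm
import Cfsg.Agent.Lib.Helper32.HHFourier
import Cfsg.Agent.Lib.Helper32.HHPerm

set_option autoImplicit false

/-!
# The Hall–Higman critical configuration: the commutant of `ρ x` is small
-/

namespace Cfsg.Agent.Lib.Helper32

open Module

theorem eq_one_of_pow_prime_pow {G : Type*} [Group G] {p q : ℕ} (hp : p.Prime) (hq : q.Prime)
    (hpq : p ≠ q) (u : G) (a b : ℕ) (h1 : u ^ (p ^ a) = 1) (h2 : u ^ (q ^ b) = 1) : u = 1 := by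
  have h3 : u ^ Nat.gcd (p ^ a) (q ^ b) = 1 := pow_gcd_eq_one.2 ⟨h1, h2⟩
  have h4 : Nat.gcd (p ^ a) (q ^ b) = 1 :=
    Nat.Coprime.pow a b ((Nat.coprime_primes hp hq).2 hpq)
  rw [h4, pow_one] at h3
  exact h3

theorem pow_card_sub_eq_one {G : Type*} [Group G] (H : Subgroup G) [Finite H] {u : G}
    (hu : u ∈ H) : u ^ Nat.card H = 1 := by
  have h := pow_card_eq_one' (G := H) (x := ⟨u, hu⟩)
  exact congrArg Subtype.val h

section Crit

set_option linter.unusedSectionVars false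

variable {G : Type*} [Group G] [Finite G] {p q : ℕ} [Fact p.Prime] [Fact q.Prime]
  {K : Type*} [Field K] [IsAlgClosed K] [CharP K p]
  {V : Type*} [AddCommGroup V] [Module K V] [FiniteDimensional K V] [Nontrivial V]
  (ρ : Representation K G V) (Q : Subgroup G)

theorem schur_scalar_sub
    (hirr : ∀ W : Submodule K V, (∀ g ∈ Q, Submodule.map (ρ g) W ≤ W) → W = ⊥ ∨ W = ⊤)
    (φ : Module.End K V) (hφ : ∀ g ∈ Q, φ * ρ g = ρ g * φ) : ∃ c : K, φ = c • 1 :=
  schur_scalar (ρ.comp Q.subtype) (fun W hW => hirr W (fun g hg => hW ⟨g, hg⟩)) φ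
    (fun h => hφ h.1 h.2)

/-- A scalar of `p`-power order in characteristic `p` is trivial. -/
theorem rho_eq_one_of_scalar (y : G) (k : ℕ) (hy : y ^ (p ^ k) = 1) (c : K)
    (hc : ρ y = c • (1 : Module.End K V)) : ρ y = 1 := by
  have h2 : (ρ y) ^ (p ^ k) = 1 := by rw [← map_pow, hy, map_one]
  rw [hc, smul_pow, one_pow] at h2
  have h3 : c ^ (p ^ k) = 1 := by
    have h4 : (c ^ p ^ k - 1) • (1 : Module.End K V) = 0 := by
      rw [sub_smul, h2, one_smul, sub_self]
    rcases smul_eq_zero.1 h4 with h | h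
    · exact sub_eq_zero.1 h
    · exact absurd h one_ne_zero
  have h4 : (c - 1) ^ (p ^ k) = 0 := by rw [sub_pow_char_pow, h3, one_pow, sub_self]
  have h5 : c = 1 := sub_eq_zero.1 (pow_eq_zero_iff
    (pow_ne_zero k (Fact.out : p.Prime).ne_zero) |>.1 h4)
  rw [hc, h5, one_smul]

theorem zpowers_inter_center_eq_one (x : G) (hx : IsPGroup p (Subgroup.zpowers x))
    (hfaith : Function.Injective ρ)
    (hirr : ∀ W : Submodule K V, (∀ g ∈ Q, Submodule.map (ρ g) W ≤ W) → W = ⊥ ∨ W = ⊤)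
    (y : G) (hy : y ∈ Subgroup.zpowers x) (hyc : y ∈ Subgroup.center G) : y = 1 := by
  obtain ⟨c, hc⟩ := schur_scalar_sub ρ Q hirr (ρ y) (fun g _ => by
    rw [← map_mul, ← map_mul, Subgroup.mem_center_iff.1 hyc g])
  obtain ⟨k, hk⟩ := IsPGroup.iff_card.1 hx
  have h1 : y ^ (p ^ k) = 1 := by
    rw [← hk]; exact pow_card_sub_eq_one _ hy
  apply hfaith
  rw [rho_eq_one_of_scalar ρ y k h1 c hc, map_one]

theorem center_le_of_crit (hpq : p ≠ q) [Q.Normal] (hQ : IsPGroup q Q) (x : G)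
    (hx : IsPGroup p (Subgroup.zpowers x)) (hgen : Q ⊔ Subgroup.zpowers x = ⊤)
    (hfaith : Function.Injective ρ)
    (hirr : ∀ W : Submodule K V, (∀ g ∈ Q, Submodule.map (ρ g) W ≤ W) → W = ⊥ ∨ W = ⊤) :
    Subgroup.center G ≤ Q := by
  intro z hz
  have hz' : z ∈ ((Q ⊔ Subgroup.zpowers x : Subgroup G) : Set G) := by
    rw [hgen]; exact Subgroup.mem_top z
  rw [Subgroup.normal_mul] at hz'
  obtain ⟨a, ha, u, hu, rfl⟩ := Set.mem_mul.1 hz'
  obtain ⟨e, he⟩ := IsPGroup.iff_card.1 hQ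
  obtain ⟨k, hk⟩ := IsPGroup.iff_card.1 hx
  have ha1 : a ^ (q ^ e) = 1 := by rw [← he]; exact pow_card_sub_eq_one _ ha
  have hu1 : u ^ (p ^ k) = 1 := by rw [← hk]; exact pow_card_sub_eq_one _ hu
  have hcomm : Commute a⁻¹ (a * u) := (Subgroup.mem_center_iff.1 hz a⁻¹)
  have h1 : u ^ (q ^ e) = (a * u) ^ (q ^ e) := by
    have h0 : u = a⁻¹ * (a * u) := by group
    conv_lhs => rw [h0]
    rw [hcomm.mul_pow, inv_pow, ha1, inv_one, one_mul]
  have h2 : u ^ (q ^ e) = 1 :=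
    zpowers_inter_center_eq_one ρ Q x hx hfaith hirr _ (Subgroup.pow_mem _ hu _)
      (h1 ▸ Subgroup.pow_mem _ hz _)
  have h3 : u = 1 := eq_one_of_pow_prime_pow Fact.out Fact.out hpq u k e hu1 h2
  rw [h3, mul_one]; exact ha

theorem mem_center_of_conj_eq (hpq : p ≠ q) [Q.Normal] (hQ : IsPGroup q Q) (x : G)
    (hx : IsPGroup p (Subgroup.zpowers x)) (hgen : Q ⊔ Subgroup.zpowers x = ⊤)
    (hC : ∀ y ∈ Subgroup.zpowers x, y ≠ 1 →
      Subgroup.centralizer ({y} : Set G) = Subgroup.zpowers x ⊔ Subgroup.center G)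
    (hfaith : Function.Injective ρ)
    (hirr : ∀ W : Submodule K V, (∀ g ∈ Q, Submodule.map (ρ g) W ≤ W) → W = ⊥ ∨ W = ⊤)
    (u : G) (hu : u ∈ Subgroup.zpowers x) (hu1 : u ≠ 1) (a : G) (ha : a ∈ Q)
    (h : u * a * u⁻¹ = a) : a ∈ Subgroup.center G := by
  have hcen := center_le_of_crit ρ Q hpq hQ x hx hgen hfaith hirr
  have h1 : a ∈ Subgroup.centralizer ({u} : Set G) := by
    rw [Subgroup.mem_centralizer_iff]
    intro h' hh'
    rw [Set.mem_singleton_iff] at hh'
    subst hh'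
    calc h' * a = h' * a * h'⁻¹ * h' := by group
      _ = a * h' := by rw [h]
  rw [hC u hu hu1] at h1
  have h1' : a ∈ ((Subgroup.zpowers x ⊔ Subgroup.center G : Subgroup G) : Set G) := h1
  rw [Subgroup.mul_normal] at h1'
  obtain ⟨v, hv, z, hz, rfl⟩ := Set.mem_mul.1 h1'
  have hvQ : v ∈ Q := by
    have h0 : v = (v * z) * z⁻¹ := by group
    rw [h0]; exact Q.mul_mem ha (Q.inv_mem (hcen hz))
  obtain ⟨e, he⟩ := IsPGroup.iff_card.1 hQ
  obtain ⟨k, hk⟩ := IsPGroup.iff_card.1 hx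
  have hv1 : v = 1 := eq_one_of_pow_prime_pow Fact.out Fact.out hpq v k e
    (by rw [← hk]; exact pow_card_sub_eq_one _ hv) (by rw [← he]; exact pow_card_sub_eq_one _ hvQ)
  rw [hv1, one_mul]; exact hz

/-- The non-central elements of `Q`. -/
abbrev critY (Q : Subgroup G) : Type _ := {a : G // a ∈ Q ∧ a ∉ Subgroup.center G}

instance critAct (Q : Subgroup G) [Q.Normal] (x : G) :
    MulAction ↥(Subgroup.zpowers x) (critY Q) where
  smul u a := ⟨(u : G) * a.1 * (u : G)⁻¹, Subgroup.Normal.conj_mem inferInstance a.1 a.2.1 u,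
    fun h => a.2.2 (by
      have h1 := Subgroup.Normal.conj_mem (inferInstance : (Subgroup.center G).Normal) _ h
        (u : G)⁻¹
      simpa [mul_assoc] using h1)⟩
  one_smul a := Subtype.ext (by
    show ((1 : Subgroup.zpowers x) : G) * a.1 * ((1 : Subgroup.zpowers x) : G)⁻¹ = a.1
    simp)
  mul_smul u v a := Subtype.ext (by
    show ((u * v : Subgroup.zpowers x) : G) * a.1 * ((u * v : Subgroup.zpowers x) : G)⁻¹ =
      (u : G) * ((v : G) * a.1 * (v : G)⁻¹) * (u : G)⁻¹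
    simp [mul_assoc])

theorem critAct_val [Q.Normal] (x : G) (u : Subgroup.zpowers x) (a : critY Q) :
    (u • a).1 = (u : G) * a.1 * (u : G)⁻¹ := rfl

/-- The spanning map `K × (Y → K) → End V`. -/
noncomputable def critPi (ρ : Representation K G V) (Q : Subgroup G) [Fintype (critY Q)] :
    K × (critY Q → K) →ₗ[K] Module.End K V where
  toFun m := m.1 • (1 : Module.End K V) + ∑ a : critY Q, m.2 a • ρ a.1
  map_add' m m' := by
    simp only [Prod.fst_add, Prod.snd_add, Pi.add_apply, add_smul, Finset.sum_add_distrib]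
    abel
  map_smul' c m := by
    simp only [Prod.smul_fst, Prod.smul_snd, Pi.smul_apply, smul_eq_mul, mul_smul,
      RingHom.id_apply, smul_add, Finset.smul_sum]

theorem critPi_apply [Fintype (critY Q)] (m : K × (critY Q → K)) :
    critPi ρ Q m = m.1 • (1 : Module.End K V) + ∑ a : critY Q, m.2 a • ρ a.1 := rfl

theorem critPi_permT [Q.Normal] (x : G) [Fintype (critY Q)] (m : K × (critY Q → K)) :
    critPi ρ Q (permT K (⟨x, Subgroup.mem_zpowers x⟩ : Subgroup.zpowers x) m) =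
      ρ x * critPi ρ Q m * ρ x⁻¹ := by
  set x' : Subgroup.zpowers x := ⟨x, Subgroup.mem_zpowers x⟩ with hx'
  rw [critPi_apply, critPi_apply, permT_apply]
  simp only
  rw [← Equiv.sum_comp (MulAction.toPerm x') (fun a => m.2 (x'⁻¹ • a) • ρ a.1)]
  simp only [MulAction.toPerm_apply, inv_smul_smul]
  rw [mul_add, add_mul, Finset.mul_sum, Finset.sum_mul]
  congr 1
  · rw [mul_smul_comm, mul_one, smul_mul_assoc, ← map_mul, mul_inv_cancel, map_one]
  · apply Finset.sum_congr rfl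
    intro a _
    rw [mul_smul_comm, smul_mul_assoc, ← map_mul, ← map_mul]
    rfl

/-- The key bound: `P * dim (commutant of ρ x) + 1 ≤ P + (dim V)^2`. -/
theorem crit_commSub_bound (hpq : p ≠ q) [Q.Normal] (hQ : IsPGroup q Q) (x : G)
    (hx : IsPGroup p (Subgroup.zpowers x)) (hgen : Q ⊔ Subgroup.zpowers x = ⊤)
    (hC : ∀ y ∈ Subgroup.zpowers x, y ≠ 1 →
      Subgroup.centralizer ({y} : Set G) = Subgroup.zpowers x ⊔ Subgroup.center G)
    (hfaith : Function.Injective ρ)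
    (hirr : ∀ W : Submodule K V, (∀ g ∈ Q, Submodule.map (ρ g) W ≤ W) → W = ⊥ ∨ W = ⊤) :
    Nat.card (Subgroup.zpowers x) * finrank K (commSub (ρ x)) + 1 ≤
      Nat.card (Subgroup.zpowers x) + finrank K V ^ 2 := by
  classical
  haveI : Fintype G := Fintype.ofFinite G
  haveI : Fintype (critY Q) := Fintype.ofFinite _
  obtain ⟨n, hn⟩ := IsPGroup.iff_card.1 hx
  obtain ⟨e, he⟩ := IsPGroup.iff_card.1 hQ
  have hcen : Subgroup.center G ≤ Q := center_le_of_crit ρ Q hpq hQ x hx hgen hfaith hirr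
  set x' : Subgroup.zpowers x := ⟨x, Subgroup.mem_zpowers x⟩ with hx'
  have hQK : ((Fintype.card Q : ℕ) : K) ≠ 0 := by
    rw [Fintype.card_eq_nat_card, he]
    push_cast
    apply pow_ne_zero
    intro h0
    have h1 := (CharP.cast_eq_zero_iff K p q).1 h0
    exact hpq ((Nat.prime_dvd_prime_iff_eq Fact.out Fact.out).1 h1)
  have hirr' : ∀ W : Submodule K V, (∀ h : Q, W.map ((ρ.comp Q.subtype) h) ≤ W) →
      W = ⊥ ∨ W = ⊤ := fun W hW => hirr W (fun g hg => hW ⟨g, hg⟩)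
  -- central elements act as scalars
  have hscal : ∀ z ∈ Subgroup.center G, ∀ φ : Module.End K V,
      LinearMap.trace K V (φ * ρ z⁻¹) • ρ z = LinearMap.trace K V φ • (1 : Module.End K V) := by
    intro z hz φ
    obtain ⟨c, hc⟩ := schur_scalar_sub ρ Q hirr (ρ z) (fun g _ => by
      rw [← map_mul, ← map_mul, Subgroup.mem_center_iff.1 hz g])
    have h2 : LinearMap.trace K V (φ * ρ z⁻¹) * c = LinearMap.trace K V φ := by
      have h3 : φ = c • (φ * ρ z⁻¹) := by
        calc φ = φ * (ρ z⁻¹ * ρ z) := by rw [← map_mul, inv_mul_cancel, map_one, mul_one]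
          _ = φ * ρ z⁻¹ * (c • 1) := by rw [mul_assoc, hc]
          _ = c • (φ * ρ z⁻¹) := by rw [mul_smul_comm, mul_one]
      conv_rhs => rw [h3]
      rw [map_smul, smul_eq_mul, mul_comm]
    rw [hc, smul_smul, h2]
  -- the splitting of `Q`
  let fQ : ↥(Subgroup.center G) ⊕ critY Q → ↥Q :=
    Sum.elim (fun z => ⟨z.1, hcen z.2⟩) (fun a => ⟨a.1, a.2.1⟩)
  have hfQ : Function.Bijective fQ := by
    constructor
    · rintro (z | a) (z' | a') h
      · have h1 : z.1 = z'.1 := congrArg (fun w : ↥Q => w.1) h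
        rw [Subtype.ext h1]
      · have h1 : z.1 = a'.1 := congrArg (fun w : ↥Q => w.1) h
        exact absurd (h1 ▸ z.2) a'.2.2
      · have h1 : a.1 = z'.1 := congrArg (fun w : ↥Q => w.1) h
        exact absurd (h1 ▸ z'.2) a.2.2
      · have h1 : a.1 = a'.1 := congrArg (fun w : ↥Q => w.1) h
        rw [Subtype.ext h1]
    · intro h
      by_cases hz : h.1 ∈ Subgroup.center G
      · exact ⟨Sum.inl ⟨h.1, hz⟩, rfl⟩
      · exact ⟨Sum.inr ⟨h.1, h.2, hz⟩, rfl⟩
  let eQ : ↥(Subgroup.center G) ⊕ critY Q ≃ ↥Q := Equiv.ofBijective fQ hfQ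
  have hsec : ∀ φ : Module.End K V, critPi ρ Q (((finrank K V : K) / (Fintype.card Q : K)) •
      (((Fintype.card (Subgroup.center G) : K) * LinearMap.trace K V φ),
        fun a : critY Q => LinearMap.trace K V (φ * ρ a.1⁻¹))) = φ := by
    intro φ
    rw [map_smul]
    have h1 := fourier_inv (ρ.comp Q.subtype) hirr' φ
    have hsplit : ∑ h : Q, LinearMap.trace K V (φ * (ρ.comp Q.subtype) h⁻¹) •
        (ρ.comp Q.subtype) h =
        ((Fintype.card (Subgroup.center G) : K) * LinearMap.trace K V φ) •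
          (1 : Module.End K V) +
        ∑ a : critY Q, LinearMap.trace K V (φ * ρ a.1⁻¹) • ρ a.1 := by
      have h2 : ∑ h : Q, LinearMap.trace K V (φ * (ρ.comp Q.subtype) h⁻¹) •
          (ρ.comp Q.subtype) h =
          ∑ h : Q, (fun g : G => LinearMap.trace K V (φ * ρ g⁻¹) • ρ g) h.1 := rfl
      rw [h2, ← Equiv.sum_comp eQ, Fintype.sum_sum_type]
      congr 1
      have h3 : ∀ z : Subgroup.center G,
          (fun g : G => LinearMap.trace K V (φ * ρ g⁻¹) • ρ g) (eQ (Sum.inl z)).1 =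
          LinearMap.trace K V φ • (1 : Module.End K V) := fun z => hscal z.1 z.2 φ
      rw [Finset.sum_congr rfl (fun z _ => h3 z), Finset.sum_const, Finset.card_univ,
        mul_smul, Nat.cast_smul_eq_nsmul]
    rw [hsplit] at h1
    rw [critPi_apply]
    simp only
    rw [div_eq_inv_mul, mul_smul, h1, smul_smul, inv_mul_cancel₀ hQK, one_smul]
  -- apply the abstract bound
  have hker : ∀ m : K × (critY Q → K), critPi ρ Q m = 0 →
      critPi ρ Q (permT K x' m) = 0 := by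
    intro m hm
    rw [critPi_permT, hm, mul_zero, zero_mul]
  have hT : (permT K x' - 1 : Module.End K (K × (critY Q → K))) ^ (p ^ n) = 0 :=
    permT_sub_one_pow K p n hn x'
  have hsurj : Function.Surjective (critPi ρ Q) := fun φ => ⟨_, hsec φ⟩
  have hCm : ∀ φ ∈ commSub (ρ x), ∃ m : K × (critY Q → K),
      critPi ρ Q m = φ ∧ permT K x' m = m := by
    intro φ hφ
    rw [mem_commSub] at hφ
    refine ⟨_, hsec φ, ?_⟩
    rw [permT_apply]
    refine Prod.ext rfl ?_
    funext a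
    show ((finrank K V : K) / (Fintype.card Q : K)) *
        LinearMap.trace K V (φ * ρ (x'⁻¹ • a).1⁻¹) =
      ((finrank K V : K) / (Fintype.card Q : K)) * LinearMap.trace K V (φ * ρ a.1⁻¹)
    congr 1
    have h1 : (x'⁻¹ • a).1⁻¹ = x⁻¹ * a.1⁻¹ * x := by
      rw [critAct_val]
      show (x⁻¹ * a.1 * x⁻¹⁻¹)⁻¹ = x⁻¹ * a.1⁻¹ * x
      group
    have h2 : φ * (ρ x⁻¹ * ρ a.1⁻¹ * ρ x) = (φ * ρ x⁻¹ * ρ a.1⁻¹) * ρ x := by
      simp only [mul_assoc]
    have h3 : ρ x * (φ * ρ x⁻¹ * ρ a.1⁻¹) = φ * ρ a.1⁻¹ := by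
      rw [← mul_assoc, ← mul_assoc, hφ, mul_assoc φ (ρ x) (ρ x⁻¹), ← map_mul, mul_inv_cancel,
        map_one, mul_one]
    rw [h1, map_mul ρ, map_mul ρ, h2, LinearMap.trace_mul_comm, h3]
  have hmain := finrank_fixed_bound (p ^ n) (permT K x') (critPi ρ Q) hker hT hsurj
    (commSub (ρ x)) hCm
  -- the fixed points of the permutation module
  have hfree : ∀ (γ : Subgroup.zpowers x) (a : critY Q), γ • a = a → γ = 1 := by
    intro γ a hγ
    by_contra hne
    have h1 : (γ : G) ≠ 1 := fun h => hne (Subtype.ext h)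
    have h2 : (γ : G) * a.1 * (γ : G)⁻¹ = a.1 := congrArg Subtype.val hγ
    exact a.2.2 (mem_center_of_conj_eq ρ Q hpq hQ x hx hgen hC hfaith hirr γ.1 γ.2 h1 a.1
      a.2.1 h2)
  have hgen' : ∀ γ : Subgroup.zpowers x, γ ∈ Subgroup.zpowers x' := by
    rintro ⟨g, hg⟩
    obtain ⟨k, hk⟩ := Subgroup.mem_zpowers_iff.1 hg
    refine Subgroup.mem_zpowers_iff.2 ⟨k, Subtype.ext ?_⟩
    rw [Subgroup.coe_zpow]
    exact hk
  have hfix := permT_fixed_bound K hfree x' hgen'
  rw [Module.finrank_prod, Module.finrank_self, Module.finrank_fintype_fun_eq_card,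
    Fintype.card_eq_nat_card, Module.finrank_linearMap] at hmain
  rw [hn] at hfix ⊢
  rw [sq]
  omega

end Crit

end Cfsg.Agent.Lib.Helper32
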