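import Mathlib
import Cfsg.Agent.Lib.Helper32.HHCrit

set_option autoImplicit false

/-!
# Theorem B of Hall–Higman: linear-algebra preliminaries

* `ind_bound`: the Jordan-block bound for an "induced" operator;
* `stabSub`: the stabilizer of a subspace, and invariance lemmas.
-/

namespace Cfsg.Agent.Lib.Helper32

open Module Polynomial

section IndBound

variable {F : Type*} [Field F] (p : ℕ) [Fact p.Prime] [CharP F p]

theorem geom_sum_X_eq (k : ℕ) :
    (∑ i ∈ Finset.range (p ^ k), (X : F[X]) ^ i) = (X - 1) ^ (p ^ k - 1) := by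
  have hpos : 0 < p ^ k := pow_pos (Fact.out : p.Prime).pos k
  have h1 : (X - 1 : F[X]) * ∑ i ∈ Finset.range (p ^ k), (X : F[X]) ^ i = X ^ (p ^ k) - 1 :=
    mul_geom_sum X (p ^ k)
  have h2 : (X - 1 : F[X]) * (X - 1) ^ (p ^ k - 1) = X ^ (p ^ k) - 1 := by
    rw [← pow_succ', Nat.sub_add_cancel hpos, sub_pow_char_pow, one_pow]
  have h3 : (X - 1 : F[X]) ≠ 0 := by
    have := X_sub_C_ne_zero (1 : F)
    rwa [map_one] at this
  exact mul_left_cancel₀ h3 (h1.trans h2.symm)

theorem geom_sum_end_eq {V : Type*} [AddCommGroup V] [Module F V] (Xo : Module.End F V)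
    (k : ℕ) : (∑ i ∈ Finset.range (p ^ k), Xo ^ i) = (Xo - 1) ^ (p ^ k - 1) := by
  have h := congrArg (Polynomial.aeval Xo) (geom_sum_X_eq (F := F) p k)
  simpa using h

theorem sub_one_pow_char_pow_end {V : Type*} [AddCommGroup V] [Module F V] [Nontrivial V]
    (Xo : Module.End F V) (k : ℕ) : (Xo - 1) ^ (p ^ k) = Xo ^ (p ^ k) - 1 := by
  haveI : CharP (Module.End F V) p :=
    charP_of_injective_algebraMap (algebraMap F (Module.End F V)).injective p
  haveI : ExpChar (Module.End F V) p := ExpChar.prime Fact.out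
  rw [sub_pow_expChar_pow_of_commute p k (Commute.one_right _), one_pow]

/-- If `∑_{i < p^k} X^i ((X^{p^k} - 1)^s v) ≠ 0` and `(X - 1)^r = 0` then `p^k (s+1) ≤ r`. -/
theorem ind_bound {V : Type*} [AddCommGroup V] [Module F V] (Xo : Module.End F V)
    (k s r : ℕ) (v : V)
    (hv : ∑ i ∈ Finset.range (p ^ k), (Xo ^ i) (((Xo ^ (p ^ k) - 1) ^ s) v) ≠ 0)
    (hX : (Xo - 1) ^ r = 0) : p ^ k * (s + 1) ≤ r := by
  rcases subsingleton_or_nontrivial V with hV | hV
  · exact absurd (Subsingleton.elim _ _) hv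
  by_contra hlt
  push Not at hlt
  have hpos : 0 < p ^ k := pow_pos (Fact.out : p.Prime).pos k
  have h1 : (Xo - 1) ^ (p ^ k - 1 + p ^ k * s) = 0 := by
    have h2 : p ^ k - 1 + p ^ k * s = r + (p ^ k - 1 + p ^ k * s - r) := by
      have : p ^ k * (s + 1) = p ^ k * s + p ^ k := by ring
      omega
    rw [h2, pow_add, hX, zero_mul]
  have h3 : (Xo - 1) ^ (p ^ k - 1 + p ^ k * s) =
      (∑ i ∈ Finset.range (p ^ k), Xo ^ i) * (Xo ^ (p ^ k) - 1) ^ s := by
    rw [pow_add, pow_mul, sub_one_pow_char_pow_end p Xo k, geom_sum_end_eq p Xo k]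
  rw [h3] at h1
  apply hv
  have h4 := congrArg (fun f : Module.End F V => f v) h1
  simpa [LinearMap.sum_apply] using h4

end IndBound

section Stab

variable {F : Type*} [Field F] {G : Type*} [Group G] {V : Type*} [AddCommGroup V] [Module F V]
  (ρ : Representation F G V)

theorem rep_map_map (g h : G) (U : Submodule F V) :
    (U.map (ρ h)).map (ρ g) = U.map (ρ (g * h)) := by
  rw [map_mul]; exact (Submodule.map_comp (ρ h) (ρ g) U).symm

theorem rep_map_one (U : Submodule F V) : U.map (ρ 1) = U := by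
  rw [map_one]; exact Submodule.map_id U

/-- The stabilizer of a subspace. -/
def stabSub (U : Submodule F V) : Subgroup G where
  carrier := {g | U.map (ρ g) = U}
  mul_mem' := by
    intro g h hg hh
    show U.map (ρ (g * h)) = U
    rw [← rep_map_map, hh, hg]
  one_mem' := rep_map_one ρ U
  inv_mem' := by
    intro g hg
    show U.map (ρ g⁻¹) = U
    have h1 : (U.map (ρ g)).map (ρ g⁻¹) = U := by
      rw [rep_map_map, inv_mul_cancel, rep_map_one]
    rw [hg] at h1
    exact h1

theorem mem_stabSub {U : Submodule F V} {g : G} : g ∈ stabSub ρ U ↔ U.map (ρ g) = U := Iff.rfl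

theorem rep_injective (g : G) : Function.Injective (ρ g) := by
  intro v w hvw
  have h1 : ρ g⁻¹ (ρ g v) = ρ g⁻¹ (ρ g w) := by rw [hvw]
  have h2 : ∀ u : V, ρ g⁻¹ (ρ g u) = u := by
    intro u
    rw [← Module.End.mul_apply, ← map_mul, inv_mul_cancel, map_one]; rfl
  rwa [h2, h2] at h1

theorem mem_stabSub_of_le [FiniteDimensional F V] {U : Submodule F V} {g : G}
    (h : U.map (ρ g) ≤ U) : g ∈ stabSub ρ U := by
  rw [mem_stabSub]
  apply Submodule.eq_of_le_of_finrank_eq h
  exact (Submodule.equivMapOfInjective (ρ g) (rep_injective ρ g) U).finrank_eq.symm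

/-- Invariance under generators implies invariance under the whole group. -/
theorem invariant_of_gen [FiniteDimensional F V] (Q : Subgroup G) (x : G)
    (hgen : Q ⊔ Subgroup.zpowers x = ⊤) (U : Submodule F V)
    (hQ : ∀ a ∈ Q, U.map (ρ a) ≤ U) (hx : U.map (ρ x) ≤ U) (g : G) : U.map (ρ g) ≤ U := by
  have h1 : Q ⊔ Subgroup.zpowers x ≤ stabSub ρ U := by
    apply sup_le
    · intro a ha
      exact mem_stabSub_of_le ρ (hQ a ha)
    · rw [Subgroup.zpowers_le]
      exact mem_stabSub_of_le ρ hx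
  rw [hgen] at h1
  exact le_of_eq (h1 (Subgroup.mem_top g))

end Stab

end Cfsg.Agent.Lib.Helper32
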