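import Mathlib
import Cfsg.Agent.Lib.Helper32.HHqPow
import Cfsg.Agent.Lib.Helper32.TBInd

set_option autoImplicit false

/-!
# Irreducibility of the restriction to `Q` in the "central type" situation
-/

namespace Cfsg.Agent.Lib.Helper32

open Module

section Homog

set_option linter.unusedSectionVars false

variable {F : Type*} [Field F]

theorem trace_eq_sum_coord {W : Type*} [AddCommGroup W] [Module F W] [FiniteDimensional F W]
    (f : Module.End F W) :
    LinearMap.trace F W f = ∑ i, (Module.finBasis F W).coord i (f (Module.finBasis F W i)) := by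
  rw [LinearMap.trace_eq_matrix_trace F (Module.finBasis F W) f, Matrix.trace]
  apply Finset.sum_congr rfl
  intro i _
  rw [Matrix.diag_apply, LinearMap.toMatrix_apply, Module.Basis.coord_apply]

theorem exists_avg_ne_zero {H : Type*} [Group H] [Fintype H] {W : Type*} [AddCommGroup W]
    [Module F W] [FiniteDimensional F W] (ρ₁ ρ₂ : H →* Module.End F W)
    (hne : ∑ h : H, LinearMap.trace F W (ρ₁ h⁻¹) • ρ₂ h ≠ 0) :
    ∃ φ : Module.End F W, ∑ h : H, ρ₂ h * φ * ρ₁ h⁻¹ ≠ 0 := by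
  by_contra hall
  push Not at hall
  apply hne
  apply LinearMap.ext
  intro w₁
  let b := Module.finBasis F W
  have h1 : ∀ i, ∑ h : H, (b.coord i) (ρ₁ h⁻¹ (b i)) • ρ₂ h w₁ = 0 := by
    intro i
    have h2 := congrArg (fun f : Module.End F W => f (b i)) (hall ((b.coord i).smulRight w₁))
    simp only [LinearMap.sum_apply, Module.End.mul_apply, LinearMap.smulRight_apply, map_smul,
      LinearMap.zero_apply] at h2
    exact h2
  rw [LinearMap.sum_apply, LinearMap.zero_apply]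
  have h3 : ∀ h : H, (LinearMap.trace F W (ρ₁ h⁻¹) • ρ₂ h) w₁ =
      ∑ i, (b.coord i) (ρ₁ h⁻¹ (b i)) • ρ₂ h w₁ := by
    intro h
    rw [LinearMap.smul_apply, trace_eq_sum_coord, Finset.sum_smul]
  rw [Finset.sum_congr rfl (fun h _ => h3 h), Finset.sum_comm]
  exact Finset.sum_eq_zero (fun i _ => h1 i)

variable [IsAlgClosed F] {G : Type*} [Group G] [Finite G] {V : Type*} [AddCommGroup V]
  [Module F V] [FiniteDimensional F V] [Nontrivial V] (ρ : Representation F G V)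

/-- A minimal nonzero invariant subspace. -/
theorem exists_min_invariant (A : Subgroup G) :
    ∃ W : Submodule F V, W ≠ ⊥ ∧ (∀ a ∈ A, W.map (ρ a) ≤ W) ∧
      ∀ U : Submodule F V, U ≠ ⊥ → (∀ a ∈ A, U.map (ρ a) ≤ U) → U ≤ W → U = W := by
  have hwf : WellFounded ((· < ·) : Submodule F V → Submodule F V → Prop) := wellFounded_lt
  let s : Set (Submodule F V) := {U | U ≠ ⊥ ∧ ∀ a ∈ A, U.map (ρ a) ≤ U}
  have hs : s.Nonempty := ⟨⊤, top_ne_bot, fun a _ => le_top⟩
  refine ⟨hwf.min s hs, (hwf.min_mem s hs).1, (hwf.min_mem s hs).2, ?_⟩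
  intro U hU0 hUinv hUW
  by_contra hne
  exact hwf.not_lt_min s (show U ∈ s from ⟨hU0, hUinv⟩) (lt_of_le_of_ne hUW hne)

theorem irr_of_central_type (hfaith : Function.Injective ρ) (Q : Subgroup G) [Q.Normal]
    (x : G) (hgen : Q ⊔ Subgroup.zpowers x = ⊤) (q : ℕ) [Fact q.Prime] (hQ : IsPGroup q Q)
    (hqF : (q : F) ≠ 0)
    (hirr : ∀ U : Submodule F V, (∀ g : G, U.map (ρ g) ≤ U) → U = ⊥ ∨ U = ⊤)
    (C : Subgroup G) (hCQ : C ≤ Q)
    (hCscal : ∀ c ∈ C, ∃ μ : F, ρ c = μ • (1 : Module.End F V))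
    (hCnc : ∀ a ∈ Q, a ∉ C → ∃ b ∈ Q, a * b ≠ b * a)
    (hcomm : ∀ a ∈ Q, ∀ b ∈ Q, a * b * a⁻¹ * b⁻¹ ∈ C) :
    ∀ U : Submodule F V, (∀ a ∈ Q, U.map (ρ a) ≤ U) → U = ⊥ ∨ U = ⊤ := by
  classical
  haveI : Fintype Q := Fintype.ofFinite Q
  obtain ⟨W, hW1, hW2, hWmin⟩ := exists_min_invariant ρ Q
  have hle : ∀ a : Q, W ≤ W.comap ((ρ.comp Q.subtype) a) := by
    intro a w hw
    exact hW2 a.1 a.2 (Submodule.mem_map_of_mem hw)
  let ρW : Representation F Q W := Representation.subrepresentation (ρ.comp Q.subtype) W hle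
  have hρW : ∀ (a : Q) (w : W), ((ρW a w : W) : V) = ρ a.1 (w : V) := fun a w => rfl
  haveI : Nontrivial W := Submodule.nontrivial_iff_ne_bot.2 hW1
  have hirrW : ∀ W' : Submodule F W, (∀ a : Q, W'.map (ρW a) ≤ W') → W' = ⊥ ∨ W' = ⊤ := by
    intro W' hW'
    by_cases h0 : W' = ⊥
    · left; exact h0
    right
    have h1 : W'.map W.subtype = W := by
      apply hWmin
      · intro hb
        apply h0
        rw [eq_bot_iff]
        intro w hw
        have h2 : (w : V) ∈ W'.map W.subtype := ⟨w, hw, rfl⟩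
        rw [hb, Submodule.mem_bot] at h2
        rw [Submodule.mem_bot]; exact Subtype.ext h2
      · rintro a ha _ ⟨_, ⟨w, hw, rfl⟩, rfl⟩
        exact ⟨ρW ⟨a, ha⟩ w, hW' ⟨a, ha⟩ ⟨w, hw, rfl⟩, rfl⟩
      · rintro _ ⟨w, _, rfl⟩
        exact w.2
    rw [eq_top_iff]
    intro w _
    have h2 : (w : V) ∈ W'.map W.subtype := by rw [h1]; exact w.2
    obtain ⟨w', hw', hww⟩ := h2
    have h3 : w' = w := Subtype.ext hww
    rw [← h3]; exact hw'
  obtain ⟨e, he⟩ := IsPGroup.iff_card.1 hQ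
  have hQK : ((Fintype.card Q : ℕ) : F) ≠ 0 := by
    rw [Fintype.card_eq_nat_card, he]
    push_cast
    exact pow_ne_zero _ hqF
  have hdW : (finrank F W : F) ≠ 0 := finrank_ne_zero_of_irr ρW hirrW hQK
  -- central elements
  have hCcen : ∀ c ∈ C, ∀ g : G, g * c = c * g := by
    intro c hc g
    obtain ⟨μ, hμ⟩ := hCscal c hc
    apply hfaith
    rw [map_mul, map_mul, hμ, mul_smul_comm, mul_one, smul_mul_assoc, one_mul]
  have hCW : ∀ c : Q, c.1 ∈ C → ∃ μ : F, ρW c = μ • (1 : Module.End F W) ∧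
      ρ c.1 = μ • (1 : Module.End F V) := by
    intro c hc
    obtain ⟨μ, hμ⟩ := hCscal c.1 hc
    refine ⟨μ, ?_, hμ⟩
    apply LinearMap.ext
    intro w
    apply Subtype.ext
    rw [hρW, hμ]
    rfl
  -- the character vanishes off `C`
  have hchar : ∀ a : Q, a.1 ∉ C → LinearMap.trace F W (ρW a) = 0 := by
    intro a ha
    obtain ⟨b, hb, hab⟩ := hCnc a.1 a.2 ha
    have hl : b * a.1 * b⁻¹ * a.1⁻¹ ∈ C := hcomm b hb a.1 a.2
    have hl1 : b * a.1 * b⁻¹ * a.1⁻¹ ≠ 1 := by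
      intro h1
      apply hab
      have h2 : b * a.1 = (b * a.1 * b⁻¹ * a.1⁻¹) * (a.1 * b) := by group
      rw [h1, one_mul] at h2
      exact h2.symm
    set l : Q := ⟨b * a.1 * b⁻¹ * a.1⁻¹, hCQ hl⟩ with hldef
    obtain ⟨μ, hμW, hμ⟩ := hCW l hl
    have hμ1 : μ ≠ 1 := by
      intro h1
      apply hl1
      apply hfaith
      rw [hμ, h1, one_smul, map_one]
    have h3 : (⟨b, hb⟩ : Q) * a * (⟨b, hb⟩ : Q)⁻¹ = l * a := by
      apply Subtype.ext
      show b * a.1 * b⁻¹ = (b * a.1 * b⁻¹ * a.1⁻¹) * a.1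
      group
    have h4 : ρW ⟨b, hb⟩ * ρW a * ρW (⟨b, hb⟩ : Q)⁻¹ = μ • ρW a := by
      rw [← map_mul, ← map_mul, h3, map_mul, hμW, smul_mul_assoc, one_mul]
    have h5 : LinearMap.trace F W (ρW ⟨b, hb⟩ * ρW a * ρW (⟨b, hb⟩ : Q)⁻¹) =
        LinearMap.trace F W (ρW a) := by
      rw [LinearMap.trace_mul_comm, ← mul_assoc, ← map_mul, inv_mul_cancel, map_one, one_mul]
    rw [h4, map_smul, smul_eq_mul] at h5
    have h6 : (μ - 1) * LinearMap.trace F W (ρW a) = 0 := by rw [sub_mul, h5, one_mul, sub_self]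
    rcases mul_eq_zero.1 h6 with h | h
    · exact absurd (sub_eq_zero.1 h) hμ1
    · exact h
  -- the twisted representation
  let cj : Q →* Q := (MulAut.conjNormal x : Q ≃* Q).toMonoidHom
  have hcj : ∀ a : Q, ((cj a : Q) : G) = x * a.1 * x⁻¹ := fun a => MulAut.conjNormal_apply x a
  let ρW' : Q →* Module.End F W := ρW.comp cj
  have hterm : ∀ a : Q, LinearMap.trace F W (ρW a⁻¹) • ρW' a =
      if a.1 ∈ C then (finrank F W : F) • (1 : Module.End F W) else 0 := by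
    intro a
    by_cases ha : a.1 ∈ C
    · rw [if_pos ha]
      obtain ⟨μ, hμW, hμ⟩ := hCW a ha
      have h1 : cj a = a := by
        apply Subtype.ext
        rw [hcj, hCcen a.1 ha x, mul_assoc, mul_inv_cancel, mul_one]
      have h2 : ρW' a = μ • (1 : Module.End F W) := by
        show ρW (cj a) = _
        rw [h1, hμW]
      have h3 : μ • ρW a⁻¹ = 1 := by
        have h4 : ρW a * ρW a⁻¹ = 1 := by rw [← map_mul, mul_inv_cancel, map_one]
        rw [hμW, smul_mul_assoc, one_mul] at h4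
        exact h4
      rw [h2, smul_smul]
      have h5 : LinearMap.trace F W (ρW a⁻¹) * μ = (finrank F W : F) := by
        have h6 := congrArg (LinearMap.trace F W) h3
        rw [map_smul, smul_eq_mul, LinearMap.trace_one] at h6
        rw [mul_comm]; exact h6
      rw [h5]
    · rw [if_neg ha]
      have h1 : (a⁻¹ : Q).1 ∉ C := by
        intro h
        apply ha
        have h2 := C.inv_mem h
        simpa using h2
      rw [hchar a⁻¹ h1, zero_smul]
  have hsumne : ∑ a : Q, LinearMap.trace F W (ρW a⁻¹) • ρW' a ≠ 0 := by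
    rw [Finset.sum_congr rfl (fun a _ => hterm a), Finset.sum_ite, Finset.sum_const,
      Finset.sum_const_zero, add_zero]
    intro h0
    rw [← Nat.cast_smul_eq_nsmul F, smul_smul] at h0
    rcases smul_eq_zero.1 h0 with h | h
    · rcases mul_eq_zero.1 h with h' | h'
      · -- the number of elements of `Q` in `C` is a power of `q`
        have hcard : (Finset.univ.filter (fun a : Q => a.1 ∈ C)).card =
            Nat.card (C.subgroupOf Q) := by
          rw [Nat.card_eq_fintype_card, Fintype.card_subtype]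
          rfl
        have hdvd : Nat.card (C.subgroupOf Q) ∣ q ^ e := by
          rw [← he]; exact Subgroup.card_subgroup_dvd_card _
        obtain ⟨j, -, hj⟩ := (Nat.dvd_prime_pow Fact.out).1 hdvd
        rw [hcard, hj] at h'
        push_cast at h'
        exact pow_ne_zero _ hqF h'
      · exact hdW h'
    · exact one_ne_zero h
  obtain ⟨φ, hφ⟩ := exists_avg_ne_zero ρW ρW' hsumne
  set ψ : Module.End F W := ∑ a : Q, ρW' a * φ * ρW a⁻¹ with hψ
  have hψint : ∀ b : Q, ψ * ρW b = ρW' b * ψ := by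
    intro b
    rw [hψ, Finset.sum_mul, Finset.mul_sum]
    rw [← Equiv.sum_comp (Equiv.mulLeft b) (fun a => ρW' a * φ * ρW a⁻¹ * ρW b)]
    apply Finset.sum_congr rfl
    intro a _
    simp only [Equiv.coe_mulLeft, mul_inv_rev, map_mul]
    have h1 : ρW b⁻¹ * ρW b = 1 := by rw [← map_mul, inv_mul_cancel, map_one]
    simp only [mul_assoc]
    rw [h1, mul_one]
  have hψinj : Function.Injective ψ := by
    rw [← LinearMap.ker_eq_bot]
    have hkinv : ∀ a : Q, (LinearMap.ker ψ).map (ρW a) ≤ LinearMap.ker ψ := by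
      rintro a _ ⟨w, hw, rfl⟩
      rw [SetLike.mem_coe, LinearMap.mem_ker] at hw
      rw [LinearMap.mem_ker]
      have h1 := congrArg (fun f : Module.End F W => f w) (hψint a)
      simp only [Module.End.mul_apply] at h1
      rw [h1, hw, map_zero]
    rcases hirrW _ hkinv with h | h
    · exact h
    · exfalso
      apply hφ
      exact LinearMap.ker_eq_top.1 h
  have hψsurj : Function.Surjective ψ := LinearMap.injective_iff_surjective.1 hψinj
  -- the space of `Q`-homomorphisms `W → V`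
  let M : Submodule F (W →ₗ[F] V) :=
    { carrier := {f | ∀ a : Q, f ∘ₗ ρW a = ρ a.1 ∘ₗ f}
      add_mem' := by
        intro f g hf hg a
        rw [LinearMap.add_comp, LinearMap.comp_add, hf a, hg a]
      zero_mem' := by
        intro a
        rw [LinearMap.zero_comp, LinearMap.comp_zero]
      smul_mem' := by
        intro c f hf a
        rw [LinearMap.smul_comp, LinearMap.comp_smul, hf a] }
  have hMmem : ∀ f : W →ₗ[F] V, f ∈ M ↔ ∀ a : Q, f ∘ₗ ρW a = ρ a.1 ∘ₗ f := fun f => Iff.rfl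
  have hsubM : W.subtype ∈ M := by
    intro a
    apply LinearMap.ext
    intro w
    rfl
  haveI : Nontrivial M := by
    refine ⟨⟨⟨W.subtype, hsubM⟩, 0, ?_⟩⟩
    intro h
    have h1 : W.subtype = 0 := congrArg Subtype.val h
    obtain ⟨w, hw⟩ := exists_ne (0 : W)
    apply hw
    have h2 := congrArg (fun f : W →ₗ[F] V => f w) h1
    exact Subtype.ext h2
  have hTmem : ∀ f ∈ M, ρ x⁻¹ ∘ₗ f ∘ₗ ψ ∈ M := by
    intro f hf a
    have h1 : ψ ∘ₗ ρW a = ρW' a ∘ₗ ψ := hψint a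
    have h2 : f ∘ₗ ρW' a = ρ (cj a).1 ∘ₗ f := hf (cj a)
    have h3 : ρ x⁻¹ ∘ₗ ρ (cj a).1 = ρ a.1 ∘ₗ ρ x⁻¹ := by
      show ρ x⁻¹ * ρ (cj a).1 = ρ a.1 * ρ x⁻¹
      rw [← map_mul, ← map_mul, hcj]
      congr 1
      group
    calc (ρ x⁻¹ ∘ₗ f ∘ₗ ψ) ∘ₗ ρW a = ρ x⁻¹ ∘ₗ f ∘ₗ (ψ ∘ₗ ρW a) := by
          simp only [LinearMap.comp_assoc]
      _ = ρ x⁻¹ ∘ₗ (f ∘ₗ ρW' a) ∘ₗ ψ := by rw [h1]; simp only [LinearMap.comp_assoc]
      _ = (ρ x⁻¹ ∘ₗ ρ (cj a).1) ∘ₗ f ∘ₗ ψ := by rw [h2]; simp only [LinearMap.comp_assoc]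
      _ = ρ a.1 ∘ₗ (ρ x⁻¹ ∘ₗ f ∘ₗ ψ) := by rw [h3]; simp only [LinearMap.comp_assoc]
  let T : Module.End F M :=
    { toFun := fun f => ⟨ρ x⁻¹ ∘ₗ f.1 ∘ₗ ψ, hTmem f.1 f.2⟩
      map_add' := by
        intro f g
        apply Subtype.ext
        show ρ x⁻¹ ∘ₗ (f.1 + g.1) ∘ₗ ψ = ρ x⁻¹ ∘ₗ f.1 ∘ₗ ψ + ρ x⁻¹ ∘ₗ g.1 ∘ₗ ψ
        rw [LinearMap.add_comp, LinearMap.comp_add]
      map_smul' := by
        intro c f
        apply Subtype.ext
        show ρ x⁻¹ ∘ₗ (c • f.1) ∘ₗ ψ = c • (ρ x⁻¹ ∘ₗ f.1 ∘ₗ ψ)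
        rw [LinearMap.smul_comp, LinearMap.comp_smul] }
  obtain ⟨μ₀, hμ₀⟩ := Module.End.exists_eigenvalue T
  obtain ⟨f₀, hf₀⟩ := hμ₀.exists_hasEigenvector
  have hf₀1 : T f₀ = μ₀ • f₀ := Module.End.mem_eigenspace_iff.1 hf₀.1
  have hf₀2 : f₀ ≠ 0 := hf₀.2
  have hf₀3 : ∀ w : W, ρ x⁻¹ (f₀.1 (ψ w)) = μ₀ • f₀.1 w := by
    intro w
    have h1 := congrArg (fun g : M => g.1 w) hf₀1
    exact h1
  -- the range of `f₀` is `G`-invariant
  set R : Submodule F V := LinearMap.range f₀.1 with hR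
  have hRQ : ∀ a ∈ Q, R.map (ρ a) ≤ R := by
    rintro a ha _ ⟨_, ⟨w, rfl⟩, rfl⟩
    have h1 := congrArg (fun g : W →ₗ[F] V => g w) (f₀.2 ⟨a, ha⟩)
    exact ⟨ρW ⟨a, ha⟩ w, h1⟩
  have hRx' : R.map (ρ x⁻¹) ≤ R := by
    rintro _ ⟨_, ⟨w, rfl⟩, rfl⟩
    obtain ⟨w', rfl⟩ := hψsurj w
    rw [hf₀3]
    exact R.smul_mem _ ⟨w', rfl⟩
  have hRx : R.map (ρ x) ≤ R := by
    have h1 : x⁻¹ ∈ stabSub ρ R := mem_stabSub_of_le ρ hRx'
    have h2 := (stabSub ρ R).inv_mem h1
    rw [inv_inv] at h2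
    exact le_of_eq h2
  have hRtop : R = ⊤ := by
    rcases hirr R (invariant_of_gen ρ Q x hgen R hRQ hRx) with h | h
    · exfalso
      apply hf₀2
      apply Subtype.ext
      exact LinearMap.range_eq_bot.1 h
    · exact h
  have hf₀surj : Function.Surjective f₀.1 := LinearMap.range_eq_top.1 hRtop
  -- conclusion
  intro U hU
  have hU' : ∀ a : Q, (U.comap f₀.1).map (ρW a) ≤ U.comap f₀.1 := by
    rintro a _ ⟨w, hw, rfl⟩
    rw [SetLike.mem_coe, Submodule.mem_comap] at hw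
    rw [Submodule.mem_comap]
    have h1 := congrArg (fun g : W →ₗ[F] V => g w) (f₀.2 a)
    have h2 : f₀.1 (ρW a w) = ρ a.1 (f₀.1 w) := h1
    rw [h2]
    exact hU a.1 a.2 (Submodule.mem_map_of_mem hw)
  rcases hirrW _ hU' with h | h
  · left
    rw [eq_bot_iff]
    intro u hu
    obtain ⟨w, rfl⟩ := hf₀surj u
    have h1 : w ∈ U.comap f₀.1 := hu
    rw [h, Submodule.mem_bot] at h1
    rw [h1, map_zero]
    exact Submodule.zero_mem _
  · right
    rw [eq_top_iff]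
    intro u _
    obtain ⟨w, rfl⟩ := hf₀surj u
    have h1 : w ∈ U.comap f₀.1 := by rw [h]; exact Submodule.mem_top
    exact h1

end Homog

end Cfsg.Agent.Lib.Helper32
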