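import Mathlib
import Cfsg.Agent.Lib.Helper32.HHCrit

set_option autoImplicit false

/-!
# The minimal configuration in Theorem B: group-theoretic structure
-/

namespace Cfsg.Agent.Lib.Helper32

open scoped commutatorElement

section Struct

variable {G : Type*} [Group G]

theorem commutator_conj_invariant (H₁ H₂ : Subgroup G) (x : G)
    (h1 : ∀ u ∈ H₁, x * u * x⁻¹ ∈ H₁) (h2 : ∀ a ∈ H₂, x * a * x⁻¹ ∈ H₂) :
    ∀ l ∈ ⁅H₁, H₂⁆, x * l * x⁻¹ ∈ ⁅H₁, H₂⁆ := by
  have h3 : ⁅H₁, H₂⁆ ≤ (⁅H₁, H₂⁆).comap (MulAut.conj x).toMonoidHom := by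
    rw [Subgroup.commutator_le]
    intro u hu a ha
    rw [Subgroup.mem_comap, map_commutatorElement]
    exact Subgroup.commutator_mem_commutator (h1 u hu) (h2 a ha)
  intro l hl
  exact h3 hl

theorem commutator_self_ne {q : ℕ} [Fact q.Prime] [Finite G] (Q : Subgroup G)
    (hQ : IsPGroup q Q) (hne : Q ≠ ⊥) : ⁅Q, Q⁆ ≠ Q := by
  haveI : Nontrivial Q := (Subgroup.nontrivial_iff_ne_bot Q).2 hne
  haveI : Group.IsNilpotent Q := hQ.isNilpotent
  have h1 : commutator Q < ⊤ := IsSolvable.commutator_lt_top_of_nontrivial Q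
  have h2 : (commutator Q).map Q.subtype = ⁅Q, Q⁆ := by
    rw [commutator_def, Subgroup.map_commutator, ← MonoidHom.range_eq_map, Subgroup.range_subtype]
  intro h3
  rw [← h2] at h3
  have h4 : (commutator Q).map Q.subtype = (⊤ : Subgroup Q).map Q.subtype := by
    rw [h3, ← MonoidHom.range_eq_map, Subgroup.range_subtype]
  exact h1.ne (Subgroup.map_injective Q.subtype_injective h4)

theorem crit_struct [Finite G] {p q : ℕ} [Fact p.Prime] [Fact q.Prime] (hpq : p ≠ q)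
    (Q : Subgroup G) [Q.Normal] (hQ : IsPGroup q Q) (x y : G) (hxy : x * y = y * x)
    (hy : y ^ p = 1)
    (hmin : ∀ Q₁ : Subgroup G, Q₁ ≤ Q → (∀ a ∈ Q₁, x * a * x⁻¹ ∈ Q₁) → Q₁ ≠ Q →
      ∀ a ∈ Q₁, y * a = a * y)
    (a₀ : G) (ha₀ : a₀ ∈ Q) (hya₀ : y * a₀ ≠ a₀ * y) :
    (∀ c ∈ Q, y * c = c * y → ∀ a ∈ Q, a * c = c * a) ∧
      (∀ a ∈ Q, ∀ b ∈ Q, y * (a * b * a⁻¹ * b⁻¹) = (a * b * a⁻¹ * b⁻¹) * y) := by
  have hQne : Q ≠ ⊥ := by
    intro h
    rw [h, Subgroup.mem_bot] at ha₀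
    rw [ha₀, mul_one, one_mul] at hya₀
    exact hya₀ rfl
  have hQx : ∀ a ∈ Q, x * a * x⁻¹ ∈ Q := fun a ha => Subgroup.Normal.conj_mem inferInstance a ha x
  obtain ⟨e, he⟩ := IsPGroup.iff_card.1 hQ
  -- the derived subgroup
  have hD : ∀ d ∈ ⁅Q, Q⁆, y * d = d * y :=
    hmin ⁅Q, Q⁆ (Subgroup.commutator_le_left Q Q) (commutator_conj_invariant Q Q x hQx hQx)
      (commutator_self_ne Q hQ hQne)
  have hii : ∀ a ∈ Q, ∀ b ∈ Q, y * (a * b * a⁻¹ * b⁻¹) = (a * b * a⁻¹ * b⁻¹) * y := by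
    intro a ha b hb
    apply hD
    have h1 := Subgroup.commutator_mem_commutator ha hb
    rwa [commutatorElement_def] at h1
  refine ⟨?_, hii⟩
  -- `Y = ⟨y⟩`
  set Y := Subgroup.zpowers y with hY
  have hYx : ∀ u ∈ Y, x * u * x⁻¹ ∈ Y := by
    intro u hu
    have h1 : x * u = u * x := by
      have h2 : y ∈ Subgroup.centralizer ({x} : Set G) := by
        rw [Subgroup.mem_centralizer_iff]
        intro h hh
        rw [Set.mem_singleton_iff] at hh
        rw [hh]; exact hxy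
      have h3 := (Subgroup.zpowers_le.2 h2) hu
      rw [Subgroup.mem_centralizer_iff] at h3
      exact h3 x rfl
    rw [h1, mul_assoc, mul_inv_cancel, mul_one]
    exact hu
  have hcentY : ∀ l : G, y * l = l * y → l ∈ Subgroup.centralizer (Y : Set G) := by
    intro l hl
    rw [Subgroup.mem_centralizer_iff]
    intro u hu
    have h2 : y ∈ Subgroup.centralizer ({l} : Set G) := by
      rw [Subgroup.mem_centralizer_iff]
      intro h hh
      rw [Set.mem_singleton_iff] at hh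
      rw [hh]; exact hl.symm
    have h3 := (Subgroup.zpowers_le.2 h2) hu
    rw [Subgroup.mem_centralizer_iff] at h3
    exact (h3 l rfl).symm
  -- `[Y, Q] = Q`
  have hL : ⁅Y, Q⁆ = Q := by
    by_contra hne
    have hLc := hmin ⁅Y, Q⁆ (Subgroup.commutator_le_right Y Q)
      (commutator_conj_invariant Y Q x hYx hQx) hne
    set l₀ := y * a₀ * y⁻¹ * a₀⁻¹ with hl₀
    have hl₀L : l₀ ∈ ⁅Y, Q⁆ := by
      have h1 := Subgroup.commutator_mem_commutator (Subgroup.mem_zpowers y) ha₀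
      rwa [commutatorElement_def] at h1
    have hl₀y : Commute y l₀ := hLc l₀ hl₀L
    have hk : ∀ k : ℕ, y ^ k * a₀ * y⁻¹ ^ k = l₀ ^ k * a₀ := by
      intro k
      induction k with
      | zero => simp
      | succ k ih =>
        have h1 : y ^ (k + 1) * a₀ * y⁻¹ ^ (k + 1) = y * (y ^ k * a₀ * y⁻¹ ^ k) * y⁻¹ := by
          rw [pow_succ', pow_succ]
          simp only [mul_assoc]
        have h2 : y * a₀ * y⁻¹ = l₀ * a₀ := by
          rw [hl₀]; group
        have h3 : y * l₀ ^ k = l₀ ^ k * y := (hl₀y.pow_right k).eq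
        rw [h1, ih]
        calc y * (l₀ ^ k * a₀) * y⁻¹ = (y * l₀ ^ k) * (a₀ * y⁻¹) := by simp only [mul_assoc]
          _ = l₀ ^ k * (y * a₀ * y⁻¹) := by rw [h3]; simp only [mul_assoc]
          _ = l₀ ^ (k + 1) * a₀ := by rw [h2, pow_succ]; simp only [mul_assoc]
    have h1 := hk p
    rw [hy, inv_pow, hy, inv_one, one_mul, mul_one] at h1
    have h2 : l₀ ^ p = 1 := by
      have h3 : l₀ ^ p * a₀ = 1 * a₀ := by rw [one_mul]; exact h1.symm
      exact mul_right_cancel h3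
    have hl₀Q : l₀ ∈ Q := Subgroup.commutator_le_right Y Q hl₀L
    have h3 : l₀ = 1 := eq_one_of_pow_prime_pow (Fact.out : p.Prime) (Fact.out : q.Prime) hpq l₀ 1 e
      (by rw [pow_one]; exact h2) (by rw [← he]; exact pow_card_sub_eq_one _ hl₀Q)
    apply hya₀
    have h4 : y * a₀ = l₀ * (a₀ * y) := by rw [hl₀]; group
    rw [h4, h3, one_mul]
  -- `C = C_Q(y)`
  set C : Subgroup G := Q ⊓ Subgroup.centralizer ({y} : Set G) with hC
  have hCmem : ∀ c : G, c ∈ C ↔ c ∈ Q ∧ y * c = c * y := by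
    intro c
    rw [hC, Subgroup.mem_inf, Subgroup.mem_centralizer_iff]
    constructor
    · rintro ⟨h1, h2⟩
      exact ⟨h1, h2 y rfl⟩
    · rintro ⟨h1, h2⟩
      refine ⟨h1, fun h hh => ?_⟩
      rw [Set.mem_singleton_iff] at hh
      rw [hh]; exact h2
  have hCx : ∀ c ∈ C, x * c * x⁻¹ ∈ C := by
    intro c hc
    rw [hCmem] at hc ⊢
    refine ⟨hQx c hc.1, ?_⟩
    have h1 : y * x⁻¹ = x⁻¹ * y := by
      have h2 : x⁻¹ * (x * y) * x⁻¹ = x⁻¹ * (y * x) * x⁻¹ := by rw [hxy]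
      have h3 : x⁻¹ * (x * y) * x⁻¹ = y * x⁻¹ := by group
      have h4 : x⁻¹ * (y * x) * x⁻¹ = x⁻¹ * y := by group
      rw [h3, h4] at h2
      exact h2
    calc y * (x * c * x⁻¹) = (y * x) * c * x⁻¹ := by simp only [mul_assoc]
      _ = x * (y * c) * x⁻¹ := by rw [← hxy]; simp only [mul_assoc]
      _ = x * c * (y * x⁻¹) := by rw [hc.2]; simp only [mul_assoc]
      _ = x * c * x⁻¹ * y := by rw [h1]; simp only [mul_assoc]
  have hCle : C ≤ Q := inf_le_left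
  have hQC : ⁅Q, C⁆ ≠ Q := by
    intro h
    have h1 : ⁅Q, C⁆ ≤ ⁅Q, Q⁆ := Subgroup.commutator_mono le_rfl hCle
    rw [h] at h1
    exact commutator_self_ne Q hQ hQne (le_antisymm (Subgroup.commutator_le_left Q Q) h1)
  have hQCc := hmin ⁅Q, C⁆ (Subgroup.commutator_le_left Q C)
    (commutator_conj_invariant Q C x hQx hCx) hQC
  have h1 : ⁅⁅Q, C⁆, Y⁆ = ⊥ := by
    rw [Subgroup.commutator_eq_bot_iff_le_centralizer]
    intro l hl
    exact hcentY l (hQCc l hl)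
  have h2 : ⁅⁅C, Y⁆, Q⁆ = ⊥ := by
    have h3 : ⁅C, Y⁆ = ⊥ := by
      rw [Subgroup.commutator_eq_bot_iff_le_centralizer]
      intro c hc
      exact hcentY c ((hCmem c).1 hc).2
    rw [h3, Subgroup.commutator_bot_left]
  have h3 : ⁅⁅Y, Q⁆, C⁆ = ⊥ := Subgroup.commutator_commutator_eq_bot_of_rotate h1 h2
  rw [hL, Subgroup.commutator_eq_bot_iff_le_centralizer] at h3
  intro c hcQ hcy a ha
  have h4 := h3 ha
  rw [Subgroup.mem_centralizer_iff] at h4
  exact (h4 c ((hCmem c).2 ⟨hcQ, hcy⟩)).symm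

end Struct

end Cfsg.Agent.Lib.Helper32
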