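import Mathlib
import Cfsg.Agent.Lib.Helper32.HHqPow
import Cfsg.Agent.Lib.Helper32.TBInd

set_option autoImplicit false

/-!
# Weight spaces of an abelian normal subgroup (abelian Clifford theory)
-/

namespace Cfsg.Agent.Lib.Helper32

open Module

section Weight

set_option linter.unusedSectionVars false

variable {F : Type*} [Field F] {G : Type*} [Group G] {V : Type*} [AddCommGroup V] [Module F V]
  (ρ : Representation F G V)

/-- The simultaneous eigenspace of `ρ(A)` for the function `lam`. -/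
def wtSpace (A : Subgroup G) (lam : G → F) : Submodule F V where
  carrier := {v | ∀ a ∈ A, ρ a v = lam a • v}
  add_mem' := by
    intro v w hv hw a ha
    rw [map_add, hv a ha, hw a ha, smul_add]
  zero_mem' := by
    intro a _
    rw [map_zero, smul_zero]
  smul_mem' := by
    intro c v hv a ha
    rw [map_smul, hv a ha, smul_comm]

theorem mem_wtSpace {A : Subgroup G} {lam : G → F} {v : V} :
    v ∈ wtSpace ρ A lam ↔ ∀ a ∈ A, ρ a v = lam a • v := Iff.rfl

theorem rep_conj_apply (g a : G) (v : V) : ρ a (ρ g v) = ρ g (ρ (g⁻¹ * a * g) v) := by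
  rw [← Module.End.mul_apply, ← Module.End.mul_apply, ← map_mul, ← map_mul]
  congr 2
  group

theorem map_mem_wtSpace (A : Subgroup G) [A.Normal] (lam : G → F) (g : G) {v : V}
    (hv : v ∈ wtSpace ρ A lam) : ρ g v ∈ wtSpace ρ A (fun a => lam (g⁻¹ * a * g)) := by
  intro a ha
  have h1 : g⁻¹ * a * g ∈ A := by
    have h := Subgroup.Normal.conj_mem (inferInstance : A.Normal) a ha g⁻¹
    simpa using h
  rw [rep_conj_apply, hv _ h1, map_smul]

theorem exists_wtSpace_ne_bot [IsAlgClosed F] [FiniteDimensional F V] [Nontrivial V]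
    (A : Subgroup G) (hA : ∀ a ∈ A, ∀ b ∈ A, a * b = b * a) :
    ∃ lam : G → F, wtSpace ρ A lam ≠ ⊥ := by
  classical
  have hwf : WellFounded ((· < ·) : Submodule F V → Submodule F V → Prop) := wellFounded_lt
  let s : Set (Submodule F V) := {U | U ≠ ⊥ ∧ ∀ a ∈ A, U.map (ρ a) ≤ U}
  have hs : s.Nonempty := ⟨⊤, top_ne_bot, fun a _ => le_top⟩
  set W := hwf.min s hs with hW
  have hW1 : W ≠ ⊥ := (hwf.min_mem s hs).1
  have hW2 : ∀ a ∈ A, W.map (ρ a) ≤ W := (hwf.min_mem s hs).2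
  have hmin : ∀ U : Submodule F V, U ≠ ⊥ → (∀ a ∈ A, U.map (ρ a) ≤ U) → U ≤ W → U = W := by
    intro U hU0 hUinv hUW
    by_contra hne
    exact hwf.not_lt_min s (show U ∈ s from ⟨hU0, hUinv⟩) (lt_of_le_of_ne hUW hne)
  have hle : ∀ a : A, W ≤ W.comap ((ρ.comp A.subtype) a) := by
    intro a w hw
    exact hW2 a.1 a.2 (Submodule.mem_map_of_mem hw)
  let ρW : Representation F A W := Representation.subrepresentation (ρ.comp A.subtype) W hle
  have hρW : ∀ (a : A) (w : W), ((ρW a w : W) : V) = ρ a.1 (w : V) := fun a w => rfl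
  haveI : Nontrivial W := Submodule.nontrivial_iff_ne_bot.2 hW1
  have hirrW : ∀ W' : Submodule F W, (∀ a : A, W'.map (ρW a) ≤ W') → W' = ⊥ ∨ W' = ⊤ := by
    intro W' hW'
    by_cases h0 : W' = ⊥
    · left; exact h0
    right
    have h1 : W'.map W.subtype = W := by
      apply hmin
      · intro hb
        apply h0
        rw [eq_bot_iff]
        intro w hw
        have h2 : (w : V) ∈ W'.map W.subtype := ⟨w, hw, rfl⟩
        rw [hb, Submodule.mem_bot] at h2
        rw [Submodule.mem_bot]; exact Subtype.ext h2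
      · rintro a ha _ ⟨_, ⟨w, hw, rfl⟩, rfl⟩
        exact ⟨ρW ⟨a, ha⟩ w, hW' ⟨a, ha⟩ ⟨w, hw, rfl⟩, rfl⟩
      · rintro _ ⟨w, _, rfl⟩
        exact w.2
    rw [eq_top_iff]
    intro w _
    have h2 : (w : V) ∈ W'.map W.subtype := by rw [h1]; exact w.2
    obtain ⟨w', hw', hww⟩ := h2
    have h3 : w' = w := Subtype.ext hww
    rw [← h3]; exact hw'
  have hcomm : ∀ a b : A, ρW a * ρW b = ρW b * ρW a := by
    intro a b
    rw [← map_mul, ← map_mul]
    congr 1
    exact Subtype.ext (hA a.1 a.2 b.1 b.2)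
  have hfr : finrank F W = 1 := finrank_eq_one_of_comm ρW hirrW hcomm
  obtain ⟨w, hw0⟩ := exists_ne (0 : W)
  have hspan := (finrank_eq_one_iff_of_nonzero' w hw0).1 hfr
  have hex : ∀ a : G, ∃ c : F, a ∈ A → ρ a (w : V) = c • (w : V) := by
    intro a
    by_cases ha : a ∈ A
    · obtain ⟨c, hc⟩ := hspan (ρW ⟨a, ha⟩ w)
      refine ⟨c, fun _ => ?_⟩
      have h1 := congrArg Subtype.val hc
      exact h1.symm
    · exact ⟨0, fun h => absurd h ha⟩
  choose lam hlam using hex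
  refine ⟨lam, ?_⟩
  intro hb
  have hmem : (w : V) ∈ wtSpace ρ A lam := fun a ha => hlam a ha
  rw [hb, Submodule.mem_bot] at hmem
  exact hw0 (Subtype.ext hmem)

theorem wt_indep [Finite G] (A : Subgroup G) [A.Normal] (hAcard : (Nat.card A : F) ≠ 0)
    (lam : G → F) (x : G) (t : ℕ) (ht : 0 < t)
    (hper : ∀ i, 0 < i → i < t → ∃ a ∈ A, lam (x⁻¹ ^ i * a * x ^ i) ≠ lam a)
    (v : V) (hv : v ∈ wtSpace ρ A lam) (hsum : ∑ i ∈ Finset.range t, (ρ x ^ i) v = 0) :
    v = 0 := by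
  classical
  by_contra hv0
  haveI : Fintype A := Fintype.ofFinite A
  have hmul : ∀ a ∈ A, ∀ b ∈ A, lam (a * b) = lam a * lam b := by
    intro a ha b hb
    have h1 := hv (a * b) (A.mul_mem ha hb)
    rw [map_mul, Module.End.mul_apply, hv b hb, map_smul, hv a ha, smul_smul] at h1
    have h2 : (lam b * lam a - lam (a * b)) • v = 0 := by rw [sub_smul, h1, sub_self]
    rcases smul_eq_zero.1 h2 with h3 | h3
    · rw [← sub_eq_zero.1 h3, mul_comm]
    · exact absurd h3 hv0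
  have hone : lam 1 = 1 := by
    have h1 := hv 1 A.one_mem
    rw [map_one, Module.End.one_apply] at h1
    have h2 : (1 - lam 1) • v = 0 := by rw [sub_smul, one_smul, ← h1, sub_self]
    rcases smul_eq_zero.1 h2 with h3 | h3
    · exact (sub_eq_zero.1 h3).symm
    · exact absurd h3 hv0
  have hinv : ∀ a ∈ A, lam a * lam a⁻¹ = 1 := by
    intro a ha
    rw [← hmul a ha a⁻¹ (A.inv_mem ha), mul_inv_cancel, hone]
  have hne : ∀ a ∈ A, lam a ≠ 0 := by
    intro a ha h0
    have h1 := hinv a ha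
    rw [h0, zero_mul] at h1
    exact zero_ne_one h1
  let e : Module.End F V := ∑ a : A, (lam a.1)⁻¹ • ρ a.1
  have hconj : ∀ (i : ℕ) (a : G), a ∈ A → x⁻¹ ^ i * a * x ^ i ∈ A := by
    intro i a ha
    have h := Subgroup.Normal.conj_mem (inferInstance : A.Normal) a ha (x⁻¹ ^ i)
    simpa using h
  have hterm : ∀ i : ℕ, e ((ρ x ^ i) v) =
      (∑ a : A, (lam a.1)⁻¹ * lam (x⁻¹ ^ i * a.1 * x ^ i)) • (ρ x ^ i) v := by
    intro i
    show (∑ a : A, (lam a.1)⁻¹ • ρ a.1) ((ρ x ^ i) v) = _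
    rw [LinearMap.sum_apply, Finset.sum_smul]
    apply Finset.sum_congr rfl
    intro a _
    rw [LinearMap.smul_apply, ← map_pow]
    have h1 : ρ a.1 (ρ (x ^ i) v) = ρ (x ^ i) (ρ (x⁻¹ ^ i * a.1 * x ^ i) v) := by
      rw [rep_conj_apply ρ (x ^ i) a.1 v, inv_pow]
    rw [h1, hv _ (hconj i a.1 a.2), map_smul, smul_smul]
  have hc0 : (∑ a : A, (lam a.1)⁻¹ * lam (x⁻¹ ^ 0 * a.1 * x ^ 0)) = (Nat.card A : F) := by
    simp only [pow_zero, one_mul, mul_one]
    rw [Finset.sum_congr rfl (fun a _ => inv_mul_cancel₀ (hne a.1 a.2)), Finset.sum_const,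
      Finset.card_univ, nsmul_eq_mul, mul_one, Nat.card_eq_fintype_card]
  have hci : ∀ i, 0 < i → i < t →
      (∑ a : A, (lam a.1)⁻¹ * lam (x⁻¹ ^ i * a.1 * x ^ i)) = 0 := by
    intro i hi0 hit
    obtain ⟨b, hb, hbne⟩ := hper i hi0 hit
    set μ : A → F := fun a => (lam a.1)⁻¹ * lam (x⁻¹ ^ i * a.1 * x ^ i) with hμ
    have hμmul : ∀ a c : A, μ (a * c) = μ a * μ c := by
      intro a c
      simp only [hμ, Subgroup.coe_mul]
      have h1 : x⁻¹ ^ i * (a.1 * c.1) * x ^ i =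
          (x⁻¹ ^ i * a.1 * x ^ i) * (x⁻¹ ^ i * c.1 * x ^ i) := by
        rw [inv_pow]; group
      rw [h1, hmul _ (hconj i a.1 a.2) _ (hconj i c.1 c.2), hmul a.1 a.2 c.1 c.2, mul_inv]
      ring
    have hμb : μ ⟨b, hb⟩ ≠ 1 := by
      intro h1
      apply hbne
      simp only [hμ] at h1
      rw [inv_mul_eq_one₀ (hne b hb)] at h1
      exact h1.symm
    have hsum' : μ ⟨b, hb⟩ * ∑ a : A, μ a = ∑ a : A, μ a := by
      rw [Finset.mul_sum, ← Equiv.sum_comp (Equiv.mulLeft (⟨b, hb⟩ : A)) μ]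
      apply Finset.sum_congr rfl
      intro a _
      rw [Equiv.coe_mulLeft, hμmul]
    have h2 : (μ ⟨b, hb⟩ - 1) * ∑ a : A, μ a = 0 := by rw [sub_mul, hsum', one_mul, sub_self]
    rcases mul_eq_zero.1 h2 with h | h
    · exact absurd (sub_eq_zero.1 h) hμb
    · exact h
  have h1 := congrArg e hsum
  rw [map_sum, map_zero] at h1
  rw [Finset.sum_eq_single 0] at h1
  · rw [hterm 0, hc0, pow_zero, Module.End.one_apply] at h1
    rcases smul_eq_zero.1 h1 with h | h
    · exact hAcard h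
    · exact hv0 h
  · intro i hi hi0
    rw [hterm i, hci i (Nat.pos_of_ne_zero hi0) (Finset.mem_range.1 hi), zero_smul]
  · intro h
    exact absurd (Finset.mem_range.2 ht) h

theorem exists_period (A : Subgroup G) [A.Normal] (lam : G → F) (x : G) (p n : ℕ)
    (hp : p.Prime) (hx : x ^ (p ^ n) = 1) :
    ∃ k ≤ n, (∀ a ∈ A, lam (x⁻¹ ^ (p ^ k) * a * x ^ (p ^ k)) = lam a) ∧
      ∀ i, 0 < i → i < p ^ k → ∃ a ∈ A, lam (x⁻¹ ^ i * a * x ^ i) ≠ lam a := by
  classical
  let per : ℕ → Prop := fun j => ∀ a ∈ A, lam (x⁻¹ ^ j * a * x ^ j) = lam a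
  have hconj : ∀ (i : ℕ) (a : G), a ∈ A → x⁻¹ ^ i * a * x ^ i ∈ A := by
    intro i a ha
    have h := Subgroup.Normal.conj_mem (inferInstance : A.Normal) a ha (x⁻¹ ^ i)
    simpa using h
  have hpn : per (p ^ n) := by
    intro a _
    rw [inv_pow, hx, inv_one, one_mul, mul_one]
  have hex : ∃ j, 0 < j ∧ per j := ⟨p ^ n, pow_pos hp.pos n, hpn⟩
  set t := Nat.find hex with ht
  have ht1 : 0 < t := (Nat.find_spec hex).1
  have ht2 : per t := (Nat.find_spec hex).2
  have hsub : ∀ j, per j → t ≤ j → per (j - t) := by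
    intro j hj htj a ha
    have h1 := hj a ha
    have h2 : x⁻¹ ^ j * a * x ^ j = x⁻¹ ^ t * (x⁻¹ ^ (j - t) * a * x ^ (j - t)) * x ^ t := by
      have h3 : j = t + (j - t) := by omega
      conv_lhs => rw [h3]
      rw [pow_add, pow_add]
      have h4 : Commute (x ^ t) (x ^ (j - t)) := (Commute.refl x).pow_pow _ _
      rw [h4.eq]
      group
    rw [h2, ht2 _ (hconj (j - t) a ha)] at h1
    exact h1
  have hmod : ∀ j, per j → per (j % t) := by
    intro j
    induction j using Nat.strong_induction_on with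
    | _ j ih =>
      intro hj
      by_cases hlt : j < t
      · rw [Nat.mod_eq_of_lt hlt]; exact hj
      · push Not at hlt
        have h1 : per (j - t) := hsub j hj hlt
        have h2 := ih (j - t) (by omega) h1
        rwa [← Nat.mod_eq_sub_mod hlt] at h2
  have hdvd : t ∣ p ^ n := by
    rw [Nat.dvd_iff_mod_eq_zero]
    by_contra hne
    have h1 : p ^ n % t < t := Nat.mod_lt _ ht1
    exact Nat.find_min hex h1 ⟨Nat.pos_of_ne_zero hne, hmod _ hpn⟩
  obtain ⟨k, hk, hkt⟩ := (Nat.dvd_prime_pow hp).1 hdvd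
  refine ⟨k, hk, ?_, ?_⟩
  · rw [← hkt]; exact ht2
  · intro i hi0 hit
    rw [← hkt] at hit
    have h1 := Nat.find_min hex hit
    by_contra hcon
    push Not at hcon
    exact h1 ⟨hi0, hcon⟩

end Weight

end Cfsg.Agent.Lib.Helper32
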