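import Mathlib
import Cfsg.Agent.Lib.Helper32.TBInd
import Cfsg.Agent.Lib.Helper32.TBWeight
import Cfsg.Agent.Lib.Helper32.TBHomog
import Cfsg.Agent.Lib.Helper32.TBStruct
import Cfsg.Agent.S4282

set_option autoImplicit false

/-!
# Theorem B of Hall–Higman for `Q ⟨x⟩`: the core induction
-/

namespace Cfsg.Agent.Lib.Helper32

open Module

universe u v w

/-- The conclusion of Theorem B. -/
def TBconcl (p q n r : ℕ) (nonab : Prop) : Prop :=
  p ^ n ≤ r ∨ ∃ n₀ m : ℕ, 1 ≤ n₀ ∧ n₀ ≤ n ∧ 1 ≤ m ∧ p ^ n₀ - 1 = q ^ m ∧ nonab ∧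
    p ^ (n - n₀) * (p ^ n₀ - 1) ≤ r

theorem TBconcl.mono {p q n r : ℕ} {P P' : Prop} (h : P → P') (hc : TBconcl p q n r P) :
    TBconcl p q n r P' := by
  rcases hc with h1 | ⟨n₀, m, h1, h2, h3, h4, h5, h6⟩
  · exact Or.inl h1
  · exact Or.inr ⟨n₀, m, h1, h2, h3, h4, h h5, h6⟩

/-- The flexible statement of Theorem B for a `q`-group `Q` normalized by `x`. -/
def TBFlex (F : Type w) [Field F] (p q : ℕ) (N : ℕ) : Prop :=
  ∀ {G : Type u} [Group G] [Finite G] (Q : Subgroup G) (x : G) {V : Type v} [AddCommGroup V]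
    [Module F V] [FiniteDimensional F V] [Nontrivial V] (ρ : Representation F G V) (n r : ℕ),
    IsPGroup q Q → (∀ a ∈ Q, x * a * x⁻¹ ∈ Q) →
    (∀ a ∈ Q, ρ (x ^ (p ^ n) * a) = ρ (a * x ^ (p ^ n))) →
    (1 ≤ n → ∃ a ∈ Q, ρ (x ^ (p ^ (n - 1)) * a) ≠ ρ (a * x ^ (p ^ (n - 1)))) →
    (ρ x - 1) ^ r = 0 → Nat.card Q + finrank F V ≤ N →
    TBconcl p q n r (∃ a ∈ Q, ∃ b ∈ Q, ρ (a * b) ≠ ρ (b * a))

section Core

variable (F : Type w) [Field F] [IsAlgClosed F] (p q : ℕ) [Fact p.Prime] [Fact q.Prime]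
  [CharP F p]

theorem not_comm_of_ne {G : Type u} [Group G] (Q : Subgroup G) (a b : G) (ha : a ∈ Q)
    (hb : b ∈ Q) (hab : a * b ≠ b * a) : ¬ IsMulCommutative Q := by
  intro hc
  apply hab
  exact congrArg Subtype.val (hc.is_comm.comm ⟨a, ha⟩ ⟨b, hb⟩)

/-- The reducible case. -/
theorem tb_reducible (hpq : p ≠ q) (N : ℕ) (IH : TBFlex.{u, v, w} F p q N)
    {G : Type u} [Group G] [Finite G] (Q : Subgroup G) [Q.Normal] (x : G) {V : Type v}
    [AddCommGroup V] [Module F V] [FiniteDimensional F V] [Nontrivial V]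
    (ρ : Representation F G V) (n r : ℕ) (hQ : IsPGroup q Q) (hfaith : Function.Injective ρ)
    (hxn : ∀ a ∈ Q, x ^ (p ^ n) * a = a * x ^ (p ^ n)) (hnpos : 1 ≤ n)
    (a₀ : G) (ha₀ : a₀ ∈ Q) (hya₀ : x ^ (p ^ (n - 1)) * a₀ ≠ a₀ * x ^ (p ^ (n - 1)))
    (hr : (ρ x - 1) ^ r = 0) (hN : Nat.card Q + finrank F V ≤ N + 1)
    (U : Submodule F V) (hUinv : ∀ g : G, U.map (ρ g) ≤ U) (hU0 : U ≠ ⊥) (hUtop : U ≠ ⊤) :
    TBconcl p q n r (¬ IsMulCommutative Q) := by
  have hQx : ∀ a ∈ Q, x * a * x⁻¹ ∈ Q := fun a ha => Subgroup.Normal.conj_mem inferInstance a ha x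
  have hle : ∀ g, U ≤ U.comap (ρ g) := fun g u hu => hUinv g (Submodule.mem_map_of_mem hu)
  let ρU : Representation F G U := Representation.subrepresentation ρ U hle
  let ρQ : Representation F G (V ⧸ U) := Representation.quotient ρ U hle
  haveI : Nontrivial U := Submodule.nontrivial_iff_ne_bot.2 hU0
  haveI : Nontrivial (V ⧸ U) := Submodule.Quotient.nontrivial_iff.2 hUtop
  have hfU : finrank F U < finrank F V := Submodule.finrank_lt hUtop
  have hfQ : finrank F (V ⧸ U) < finrank F V := by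
    have h1 := Submodule.finrank_quotient_add_finrank U
    have h2 : 0 < finrank F U := Module.finrank_pos
    omega
  have hρU : ∀ (g : G) (u : U), ((ρU g u : U) : V) = ρ g u := fun _ _ => rfl
  have hρQ : ∀ (g : G) (v : V), ρQ g (Submodule.Quotient.mk v) = Submodule.Quotient.mk (ρ g v) :=
    fun _ _ => rfl
  have hpowU : ∀ (k : ℕ) (u : U), ((((ρU x - 1) ^ k) u : U) : V) = ((ρ x - 1) ^ k) u := by
    intro k
    induction k with
    | zero => intro u; rfl
    | succ k ih =>
      intro u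
      rw [pow_succ, pow_succ, Module.End.mul_apply, Module.End.mul_apply, ih]
      rfl
  have hrU : (ρU x - 1) ^ r = 0 := by
    apply LinearMap.ext
    intro u
    apply Subtype.ext
    rw [hpowU, hr]
    rfl
  have hpowQ : ∀ (k : ℕ) (v : V), ((ρQ x - 1) ^ k) (Submodule.Quotient.mk v) =
      Submodule.Quotient.mk (((ρ x - 1) ^ k) v) := by
    intro k
    induction k with
    | zero => intro v; rfl
    | succ k ih =>
      intro v
      rw [pow_succ, pow_succ, Module.End.mul_apply, Module.End.mul_apply]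
      have h1 : (ρQ x - 1) (Submodule.Quotient.mk v) =
          (Submodule.Quotient.mk ((ρ x - 1) v) : V ⧸ U) := rfl
      rw [h1, ih]
  have hrQ : (ρQ x - 1) ^ r = 0 := by
    apply LinearMap.ext
    intro v'
    obtain ⟨v, rfl⟩ := Submodule.Quotient.mk_surjective U v'
    rw [hpowQ, hr]
    rfl
  set y := x ^ (p ^ (n - 1)) with hydef
  have hkey : ρU (y * a₀) ≠ ρU (a₀ * y) ∨ ρQ (y * a₀) ≠ ρQ (a₀ * y) := by
    by_contra hcon
    push Not at hcon
    obtain ⟨h1, h2⟩ := hcon
    set g := (y * a₀) * (a₀ * y)⁻¹ with hg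
    have hgU : ρU g = 1 := by rw [hg, map_mul, h1, ← map_mul, mul_inv_cancel, map_one]
    have hgQ : ρQ g = 1 := by rw [hg, map_mul, h2, ← map_mul, mul_inv_cancel, map_one]
    have hfix : ∀ u ∈ U, ρ g u = u := by
      intro u hu
      have h3 := congrArg (fun f : Module.End F U => ((f ⟨u, hu⟩ : U) : V)) hgU
      exact h3
    have hmod : ∀ v, ρ g v - v ∈ U := by
      intro v
      have h3 := congrArg (fun f : Module.End F (V ⧸ U) => f (Submodule.Quotient.mk v)) hgQ
      have h4 : (Submodule.Quotient.mk (ρ g v) : V ⧸ U) = Submodule.Quotient.mk v := h3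
      exact (Submodule.Quotient.eq U).1 h4
    have hsq : (ρ g - 1) ^ 2 = 0 := by
      apply LinearMap.ext
      intro v
      rw [pow_two, Module.End.mul_apply]
      show ρ g (ρ g v - v) - (ρ g v - v) = 0
      rw [hfix _ (hmod v), sub_self]
    have hp2 : 2 ≤ p := (Fact.out : p.Prime).two_le
    have hpw : (ρ g - 1) ^ p = 0 := by
      have h3 : p = 2 + (p - 2) := by omega
      rw [h3, pow_add, hsq, zero_mul]
    have hgp : ρ (g ^ p) = 1 := by
      rw [map_pow]
      have h3 := sub_one_pow_char_pow_end p (ρ g) 1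
      rw [pow_one, hpw] at h3
      exact (sub_eq_zero.1 h3.symm)
    have hg1 : g ^ p = 1 := hfaith (by rw [hgp, map_one])
    have hgQ' : g ∈ Q := by
      have h3 : g = (y * a₀ * y⁻¹) * a₀⁻¹ := by rw [hg]; group
      rw [h3]
      exact Q.mul_mem (Subgroup.Normal.conj_mem inferInstance a₀ ha₀ y) (Q.inv_mem ha₀)
    obtain ⟨e, he⟩ := IsPGroup.iff_card.1 hQ
    have hg' : g = 1 := eq_one_of_pow_prime_pow (Fact.out : p.Prime) (Fact.out : q.Prime) hpq g 1 e
      (by rw [pow_one]; exact hg1) (by rw [← he]; exact pow_card_sub_eq_one _ hgQ')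
    apply hya₀
    exact mul_inv_eq_one.1 hg'
  rcases hkey with hk | hk
  · have h1 := IH Q x ρU n r hQ hQx (fun a ha => by rw [hxn a ha]) (fun _ => ⟨a₀, ha₀, hk⟩) hrU
      (by omega)
    refine h1.mono ?_
    rintro ⟨a, ha, b, hb, hab⟩
    exact not_comm_of_ne Q a b ha hb (fun h => hab (by rw [h]))
  · have h1 := IH Q x ρQ n r hQ hQx (fun a ha => by rw [hxn a ha]) (fun _ => ⟨a₀, ha₀, hk⟩) hrQ
      (by omega)
    refine h1.mono ?_
    rintro ⟨a, ha, b, hb, hab⟩
    exact not_comm_of_ne Q a b ha hb (fun h => hab (by rw [h]))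

/-- The Clifford step: an abelian normal subgroup `A ≤ Z(Q)` acts by scalars, or we are done
by induction. -/
theorem tb_clifford (hpq : p ≠ q) (N : ℕ) (IH : TBFlex.{u, v, w} F p q N)
    {G : Type u} [Group G] [Finite G] (Q : Subgroup G) [Q.Normal] (x : G) {V : Type v}
    [AddCommGroup V] [Module F V] [FiniteDimensional F V] [Nontrivial V]
    (ρ : Representation F G V) (n r : ℕ) (hQ : IsPGroup q Q)
    (hgen : Q ⊔ Subgroup.zpowers x = ⊤) (hfaith : Function.Injective ρ)
    (hxn : x ^ (p ^ n) = 1)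
    (a₀ : G) (ha₀ : a₀ ∈ Q) (hya₀ : x ^ (p ^ (n - 1)) * a₀ ≠ a₀ * x ^ (p ^ (n - 1)))
    (hr : (ρ x - 1) ^ r = 0) (hN : Nat.card Q + finrank F V ≤ N + 1)
    (hirr : ∀ U : Submodule F V, (∀ g : G, U.map (ρ g) ≤ U) → U = ⊥ ∨ U = ⊤)
    (A : Subgroup G) [A.Normal] (hAQ : A ≤ Q) (hAcen : ∀ a ∈ A, ∀ b ∈ Q, a * b = b * a) :
    (∀ a ∈ A, ∃ c : F, ρ a = c • (1 : Module.End F V)) ∨
      TBconcl p q n r (¬ IsMulCommutative Q) := by
  classical
  have hpp : p.Prime := Fact.out
  obtain ⟨e, he⟩ := IsPGroup.iff_card.1 hQ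
  have hqF : (q : F) ≠ 0 := by
    intro h0
    have h1 := (CharP.cast_eq_zero_iff F p q).1 h0
    exact hpq ((Nat.prime_dvd_prime_iff_eq Fact.out Fact.out).1 h1)
  have hAab : ∀ a ∈ A, ∀ b ∈ A, a * b = b * a := fun a ha b hb => hAcen a ha b (hAQ hb)
  obtain ⟨lam, hlam⟩ := exists_wtSpace_ne_bot ρ A hAab
  obtain ⟨k, hkn, hper, hmin⟩ := exists_period (F := F) A lam x p n hpp hxn
  set V₁ := wtSpace ρ A lam with hV₁
  have hQconj : ∀ (i : ℕ) (a : G), a ∈ Q → x⁻¹ ^ i * a * x ^ i ∈ Q := by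
    intro i a ha
    have h := Subgroup.Normal.conj_mem (inferInstance : Q.Normal) a ha (x⁻¹ ^ i)
    simpa using h
  have hV₁Q : ∀ b ∈ Q, V₁.map (ρ b) ≤ V₁ := by
    rintro b hb _ ⟨v, hv, rfl⟩
    have h1 := map_mem_wtSpace ρ A lam b hv
    intro a ha
    have h2 : ρ a (ρ b v) = lam (b⁻¹ * a * b) • ρ b v := h1 a ha
    have h3 : b⁻¹ * a * b = a := by
      rw [mul_assoc, hAcen a ha b hb, ← mul_assoc, inv_mul_cancel, one_mul]
    rw [h3] at h2
    exact h2
  have hV₁x : V₁.map (ρ (x ^ (p ^ k))) ≤ V₁ := by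
    rintro _ ⟨v, hv, rfl⟩
    have h1 := map_mem_wtSpace ρ A lam (x ^ (p ^ k)) hv
    intro a ha
    have h2 : ρ a (ρ (x ^ (p ^ k)) v) =
        lam ((x ^ (p ^ k))⁻¹ * a * x ^ (p ^ k)) • ρ (x ^ (p ^ k)) v := h1 a ha
    have h3 : lam ((x ^ (p ^ k))⁻¹ * a * x ^ (p ^ k)) = lam a := by
      rw [← inv_pow]; exact hper a ha
    rw [h3] at h2
    exact h2
  rcases Nat.eq_zero_or_pos k with hk0 | hkpos
  · left
    rw [hk0, pow_zero, pow_one] at hV₁x
    have hV₁top : V₁ = ⊤ :=
      (hirr V₁ (invariant_of_gen ρ Q x hgen V₁ hV₁Q hV₁x)).resolve_left hlam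
    intro a ha
    refine ⟨lam a, ?_⟩
    apply LinearMap.ext
    intro v
    have hv : v ∈ V₁ := by rw [hV₁top]; exact Submodule.mem_top
    rw [hv a ha]; rfl
  · right
    have hAcard : (Nat.card A : F) ≠ 0 := by
      have hdvd : Nat.card A ∣ q ^ e := by rw [← he]; exact Subgroup.card_dvd_of_le hAQ
      obtain ⟨j, -, hj⟩ := (Nat.dvd_prime_pow Fact.out).1 hdvd
      rw [hj]; push_cast; exact pow_ne_zero _ hqF
    have hindep : ∀ v ∈ V₁, ∑ i ∈ Finset.range (p ^ k), (ρ x ^ i) v = 0 → v = 0 :=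
      fun v hv hs => wt_indep ρ A hAcard lam x (p ^ k) (pow_pos hpp.pos k) hmin v hv hs
    have hV₁top : V₁ ≠ ⊤ := by
      intro htop
      have h1lt : 1 < p ^ k := Nat.one_lt_pow (by omega) hpp.one_lt
      obtain ⟨a, ha, hane⟩ := hmin 1 Nat.one_pos h1lt
      apply hane
      obtain ⟨v, hv0⟩ := exists_ne (0 : V)
      have hv : v ∈ V₁ := by rw [htop]; exact Submodule.mem_top
      have hxv : ρ x v ∈ V₁ := by rw [htop]; exact Submodule.mem_top
      have hca : x⁻¹ ^ 1 * a * x ^ 1 ∈ A := by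
        have h := Subgroup.Normal.conj_mem (inferInstance : A.Normal) a ha (x⁻¹ ^ 1)
        simpa using h
      have h2 := hv _ hca
      have h3 : ρ (x⁻¹ ^ 1 * a * x ^ 1) v = lam a • v := by
        rw [pow_one, pow_one, map_mul, map_mul, Module.End.mul_apply, Module.End.mul_apply,
          hxv a ha, map_smul, ← Module.End.mul_apply, ← map_mul, inv_mul_cancel, map_one]
        rfl
      rw [h3] at h2
      have h4 : (lam a - lam (x⁻¹ ^ 1 * a * x ^ 1)) • v = 0 := by rw [sub_smul, h2, sub_self]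
      rcases smul_eq_zero.1 h4 with h | h
      · exact (sub_eq_zero.1 h).symm
      · exact absurd h hv0
    have hfV₁ : finrank F V₁ < finrank F V := Submodule.finrank_lt hV₁top
    haveI : Nontrivial V₁ := Submodule.nontrivial_iff_ne_bot.2 hlam
    set t := p ^ k with ht
    set G₁ : Subgroup G := Q ⊔ Subgroup.zpowers (x ^ t) with hG₁
    have hG₁stab : G₁ ≤ stabSub ρ V₁ := by
      apply sup_le
      · intro b hb
        exact mem_stabSub_of_le ρ (hV₁Q b hb)
      · rw [Subgroup.zpowers_le]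
        exact mem_stabSub_of_le ρ hV₁x
    have hle : ∀ g : G₁, V₁ ≤ V₁.comap ((ρ.comp G₁.subtype) g) := by
      intro g v hv
      have h1 := hG₁stab g.2
      rw [mem_stabSub] at h1
      have h2 : ρ g.1 v ∈ V₁.map (ρ g.1) := Submodule.mem_map_of_mem hv
      rw [h1] at h2
      exact h2
    let ρ₁ : Representation F G₁ V₁ :=
      Representation.subrepresentation (ρ.comp G₁.subtype) V₁ hle
    let Q₁ : Subgroup G₁ := Q.subgroupOf G₁
    have hxtG₁ : x ^ t ∈ G₁ :=
      (le_sup_right : Subgroup.zpowers (x ^ t) ≤ G₁) (Subgroup.mem_zpowers (x ^ t))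
    let x₁ : G₁ := ⟨x ^ t, hxtG₁⟩
    have hρ₁ : ∀ (g : G₁) (v : V₁), ((ρ₁ g v : V₁) : V) = ρ g.1 v := fun _ _ => rfl
    have hpow₁ : ∀ (j : ℕ) (v : V₁),
        ((((ρ₁ x₁ - 1) ^ j) v : V₁) : V) = ((ρ x ^ t - 1) ^ j) v := by
      intro j
      induction j with
      | zero => intro v; rfl
      | succ j ih =>
        intro v
        rw [pow_succ, pow_succ, Module.End.mul_apply, Module.End.mul_apply, ih]
        have h1 : (((ρ₁ x₁ - 1) v : V₁) : V) = (ρ x ^ t - 1) (v : V) := by
          show ρ (x ^ t) (v : V) - (v : V) = (ρ x ^ t) (v : V) - (v : V)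
          rw [map_pow]
        rw [h1]
    have hex : ∃ s, (ρ₁ x₁ - 1) ^ s = 0 := by
      refine ⟨r, ?_⟩
      apply LinearMap.ext
      intro v
      apply Subtype.ext
      rw [hpow₁, ← sub_one_pow_char_pow_end p (ρ x) k, ← pow_mul, mul_comm, pow_mul, hr,
        zero_pow (pow_pos hpp.pos k).ne']
      rfl
    set s₁ := Nat.find hex with hs₁
    have hs₁0 : (ρ₁ x₁ - 1) ^ s₁ = 0 := Nat.find_spec hex
    have hs₁pos : 0 < s₁ := by
      by_contra h0
      have h1 : s₁ = 0 := by omega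
      rw [h1, pow_zero] at hs₁0
      exact one_ne_zero hs₁0
    have hs₁min : (ρ₁ x₁ - 1) ^ (s₁ - 1) ≠ 0 := Nat.find_min hex (by omega)
    have hts : t * s₁ ≤ r := by
      obtain ⟨v, hv⟩ : ∃ v : V₁, ((ρ₁ x₁ - 1) ^ (s₁ - 1)) v ≠ 0 := by
        by_contra hcon
        push Not at hcon
        exact hs₁min (LinearMap.ext hcon)
      have h1 : p ^ k * (s₁ - 1 + 1) ≤ r := by
        apply ind_bound p (ρ x) k (s₁ - 1) r (v : V) _ hr
        intro hsum
        apply hv
        apply Subtype.ext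
        rw [hpow₁]
        have hmem : ((ρ x ^ t - 1) ^ (s₁ - 1)) (v : V) ∈ V₁ := by
          rw [← hpow₁]; exact Subtype.coe_prop _
        exact hindep _ hmem hsum
      rw [Nat.sub_add_cancel hs₁pos] at h1
      exact h1
    by_cases hkn' : k = n
    · left
      calc p ^ n = t := by rw [ht, hkn']
        _ ≤ t * s₁ := Nat.le_mul_of_pos_right _ hs₁pos
        _ ≤ r := hts
    · have hklt : k < n := lt_of_le_of_ne hkn hkn'
      have hQ₁ : IsPGroup q Q₁ := hQ.comap_subtype
      have hQ₁x : ∀ a ∈ Q₁, x₁ * a * x₁⁻¹ ∈ Q₁ := by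
        intro a ha
        rw [Subgroup.mem_subgroupOf] at ha ⊢
        exact Subgroup.Normal.conj_mem inferInstance a.1 ha (x ^ t)
      have hx₁pow : ∀ j : ℕ, ((x₁ ^ j : G₁) : G) = x ^ (t * j) := by
        intro j
        rw [Subgroup.coe_pow, ← pow_mul]
      have hx₁n : x₁ ^ (p ^ (n - k)) = 1 := by
        apply Subtype.ext
        rw [hx₁pow, ht, ← pow_add, Nat.add_sub_cancel' hkn, hxn]
        rfl
      have hx₁y : ((x₁ ^ (p ^ (n - k - 1)) : G₁) : G) = x ^ (p ^ (n - 1)) := by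
        rw [hx₁pow, ht, ← pow_add]
        congr 2
        omega
      have h1 : ∀ a ∈ Q₁, ρ₁ (x₁ ^ (p ^ (n - k)) * a) = ρ₁ (a * x₁ ^ (p ^ (n - k))) := by
        intro a _
        rw [hx₁n, one_mul, mul_one]
      set y := x ^ (p ^ (n - 1)) with hydef
      have hyx : ∀ i : ℕ, y * x ^ i = x ^ i * y := by
        intro i
        exact ((Commute.refl x).pow_pow _ _).eq
      have h2 : 1 ≤ n - k → ∃ a ∈ Q₁, ρ₁ (x₁ ^ (p ^ (n - k - 1)) * a) ≠
          ρ₁ (a * x₁ ^ (p ^ (n - k - 1))) := by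
        intro _
        by_contra hcon
        push Not at hcon
        have hcon' : ∀ a ∈ Q, ∀ v ∈ V₁, ρ (y * a) v = ρ (a * y) v := by
          intro a ha v hv
          have haG₁ : a ∈ G₁ := (le_sup_left : Q ≤ G₁) ha
          have h3 := hcon ⟨a, haG₁⟩ (Subgroup.mem_subgroupOf.2 ha)
          have h4 := congrArg (fun f : Module.End F V₁ => ((f ⟨v, hv⟩ : V₁) : V)) h3
          simp only [hρ₁, Subgroup.coe_mul, hx₁y] at h4
          exact h4
        let E : Submodule F V :=
          { carrier := {v | ∀ a ∈ Q, ρ (y * a) v = ρ (a * y) v}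
            add_mem' := by
              intro v w hv hw a ha
              rw [map_add, map_add, hv a ha, hw a ha]
            zero_mem' := by
              intro a _
              rw [map_zero, map_zero]
            smul_mem' := by
              intro c v hv a ha
              rw [map_smul, map_smul, hv a ha] }
        have hEi : ∀ i : ℕ, V₁.map (ρ (x ^ i)) ≤ E := by
          rintro i _ ⟨v, hv, rfl⟩
          intro a ha
          have ha' := hQconj i a ha
          have e1 : y * a * x ^ i = x ^ i * (y * (x⁻¹ ^ i * a * x ^ i)) := by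
            rw [← mul_assoc (x ^ i) y, ← hyx i, inv_pow]
            group
          have e2 : a * y * x ^ i = x ^ i * ((x⁻¹ ^ i * a * x ^ i) * y) := by
            rw [mul_assoc a y, hyx i, inv_pow]
            group
          calc ρ (y * a) (ρ (x ^ i) v) = ρ (y * a * x ^ i) v := by
                rw [map_mul (ρ) (y * a) (x ^ i)]; rfl
            _ = ρ (x ^ i) (ρ (y * (x⁻¹ ^ i * a * x ^ i)) v) := by
                rw [e1, map_mul ρ (x ^ i)]; rfl
            _ = ρ (x ^ i) (ρ ((x⁻¹ ^ i * a * x ^ i) * y) v) := by rw [hcon' _ ha' v hv]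
            _ = ρ (a * y * x ^ i) v := by
                rw [e2, map_mul ρ (x ^ i)]; rfl
            _ = ρ (a * y) (ρ (x ^ i) v) := by
                rw [map_mul (ρ) (a * y) (x ^ i)]; rfl
        let U : Submodule F V := ⨆ i : ℕ, V₁.map (ρ (x ^ i))
        have hUx : U.map (ρ x) ≤ U := by
          rw [Submodule.map_iSup]
          apply iSup_le
          intro i
          rw [rep_map_map, ← pow_succ']
          exact le_iSup (fun i : ℕ => V₁.map (ρ (x ^ i))) (i + 1)
        have hUQ : ∀ b ∈ Q, U.map (ρ b) ≤ U := by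
          intro b hb
          rw [Submodule.map_iSup]
          apply iSup_le
          intro i
          have e3 : b * x ^ i = x ^ i * (x⁻¹ ^ i * b * x ^ i) := by
            rw [inv_pow]; group
          rw [rep_map_map, e3, ← rep_map_map]
          exact le_trans (Submodule.map_mono (hV₁Q _ (hQconj i b hb)))
            (le_iSup (fun i : ℕ => V₁.map (ρ (x ^ i))) i)
        have hU0 : U ≠ ⊥ := by
          intro h0
          have h3 : V₁ ≤ U := by
            have h4 := le_iSup (fun i : ℕ => V₁.map (ρ (x ^ i))) 0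
            rw [pow_zero, rep_map_one] at h4
            exact h4
          rw [h0] at h3
          exact hlam (le_bot_iff.1 h3)
        have hUtop : U = ⊤ :=
          (hirr U (invariant_of_gen ρ Q x hgen U hUQ hUx)).resolve_left hU0
        have hEtop : ∀ v : V, v ∈ E := by
          intro v
          have h3 : U ≤ E := iSup_le hEi
          rw [hUtop] at h3
          exact h3 Submodule.mem_top
        apply hya₀
        apply hfaith
        apply LinearMap.ext
        intro v
        exact hEtop v a₀ ha₀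
      have hcard : Nat.card Q₁ = Nat.card Q :=
        Nat.card_congr (Subgroup.subgroupOfEquivOfLe (le_sup_left : Q ≤ G₁)).toEquiv
      have h3 := IH Q₁ x₁ ρ₁ (n - k) s₁ hQ₁ hQ₁x h1 h2 hs₁0 (by omega)
      rcases h3 with h3 | ⟨n₀, m, h4, h5, h6, h7, h8, h9⟩
      · left
        calc p ^ n = t * p ^ (n - k) := by rw [ht, ← pow_add, Nat.add_sub_cancel' hkn]
          _ ≤ t * s₁ := Nat.mul_le_mul_left _ h3
          _ ≤ r := hts
      · right
        refine ⟨n₀, m, h4, by omega, h6, h7, ?_, ?_⟩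
        · obtain ⟨a, ha, b, hb, hab⟩ := h8
          exact not_comm_of_ne Q a.1 b.1 (Subgroup.mem_subgroupOf.1 ha)
            (Subgroup.mem_subgroupOf.1 hb)
            (fun h => hab (by rw [show a * b = b * a from Subtype.ext h]))
        · calc p ^ (n - n₀) * (p ^ n₀ - 1) = t * (p ^ (n - k - n₀) * (p ^ n₀ - 1)) := by
                rw [ht, ← mul_assoc, ← pow_add]
                congr 2
                omega
            _ ≤ t * s₁ := Nat.mul_le_mul_left _ h9
            _ ≤ r := hts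

/-- The core theorem: faithful representation of `G = Q ⟨x⟩`. -/
theorem tb_core (hpq : p ≠ q) (N : ℕ) (IH : TBFlex.{u, v, w} F p q N)
    {G : Type u} [Group G] [Finite G] (Q : Subgroup G) [Q.Normal] (x : G) {V : Type v}
    [AddCommGroup V] [Module F V] [FiniteDimensional F V] [Nontrivial V]
    (ρ : Representation F G V) (n r : ℕ) (hQ : IsPGroup q Q)
    (hgen : Q ⊔ Subgroup.zpowers x = ⊤) (hfaith : Function.Injective ρ)
    (hxn : ∀ a ∈ Q, x ^ (p ^ n) * a = a * x ^ (p ^ n))
    (hy : 1 ≤ n → ∃ a ∈ Q, x ^ (p ^ (n - 1)) * a ≠ a * x ^ (p ^ (n - 1)))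
    (hr : (ρ x - 1) ^ r = 0) (hN : Nat.card Q + finrank F V ≤ N + 1) :
    TBconcl p q n r (¬ IsMulCommutative Q) := by
  classical
  have hpp : p.Prime := Fact.out
  have hr1 : 1 ≤ r := by
    by_contra h
    have h0 : r = 0 := by omega
    rw [h0, pow_zero] at hr
    exact one_ne_zero hr
  rcases Nat.eq_zero_or_pos n with hn0 | hnpos
  · left
    rw [hn0, pow_zero]
    exact hr1
  obtain ⟨a₀, ha₀, hya₀⟩ := hy hnpos
  have hQx : ∀ a ∈ Q, x * a * x⁻¹ ∈ Q := fun a ha => Subgroup.Normal.conj_mem inferInstance a ha x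
  -- Step 1: reducible representations
  by_cases hirr : ∀ U : Submodule F V, (∀ g : G, U.map (ρ g) ≤ U) → U = ⊥ ∨ U = ⊤
  swap
  · push Not at hirr
    obtain ⟨U, hUinv, hU0, hUtop⟩ := hirr
    exact tb_reducible F p q hpq N IH Q x ρ n r hQ hfaith hxn hnpos a₀ ha₀ hya₀ hr hN U hUinv
      hU0 hUtop
  -- Step 2: `x ^ (p ^ n) = 1`
  have hxpn : x ^ (p ^ n) = 1 := by
    set z := x ^ (p ^ n) with hz
    have hzc : ∀ g : G, ρ z * ρ g = ρ g * ρ z := by
      have hcen : (⊤ : Subgroup G) ≤ Subgroup.centralizer ({z} : Set G) := by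
        rw [← hgen]
        apply sup_le
        · intro a ha
          rw [Subgroup.mem_centralizer_iff]
          intro h hh
          rw [Set.mem_singleton_iff] at hh
          rw [hh]; exact hxn a ha
        · rw [Subgroup.zpowers_le, Subgroup.mem_centralizer_iff]
          intro h hh
          rw [Set.mem_singleton_iff] at hh
          rw [hh, hz]
          exact ((Commute.refl x).pow_left _).eq
      intro g
      have h1 := hcen (Subgroup.mem_top g)
      rw [Subgroup.mem_centralizer_iff] at h1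
      rw [← map_mul, ← map_mul, h1 z rfl]
    obtain ⟨c, hc⟩ := schur_scalar ρ hirr (ρ z) hzc
    have hxr : x ^ (p ^ r) = 1 := by
      apply hfaith
      rw [map_pow, map_one]
      have h1 := sub_one_pow_char_pow_end p (ρ x) r
      have h2 : (ρ x - 1) ^ (p ^ r) = 0 := by
        have h3 : p ^ r = r + (p ^ r - r) := by
          have h4 := Nat.lt_pow_self (n := r) hpp.one_lt
          omega
        rw [h3, pow_add, hr, zero_mul]
      rw [h2] at h1
      exact (sub_eq_zero.1 h1.symm)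
    have hzr : z ^ (p ^ r) = 1 := by rw [hz, ← pow_mul, mul_comm, pow_mul, hxr, one_pow]
    apply hfaith
    rw [rho_eq_one_of_scalar ρ z r hzr c hc, map_one]
  set y := x ^ (p ^ (n - 1)) with hydef
  have hy1 : y ≠ 1 := by
    intro h
    apply hya₀
    rw [h, one_mul, mul_one]
  have hord : orderOf x = p ^ n := by
    have h1 := orderOf_eq_prime_pow (x := x) (n := n - 1) (p := p) hy1
      (by rw [Nat.sub_add_cancel hnpos]; exact hxpn)
    rwa [Nat.sub_add_cancel hnpos] at h1
  have hcardx : Nat.card (Subgroup.zpowers x) = p ^ n := by rw [Nat.card_zpowers, hord]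
  have hxP : IsPGroup p (Subgroup.zpowers x) := IsPGroup.of_card hcardx
  have hyp : y ^ p = 1 := by
    rw [hydef, ← pow_mul, ← pow_succ, Nat.sub_add_cancel hnpos, hxpn]
  have hxy : x * y = y * x := ((Commute.refl x).pow_right _).eq
  -- Step 3: minimality of `Q`
  by_cases hmin : ∀ Q₁ : Subgroup G, Q₁ ≤ Q → (∀ a ∈ Q₁, x * a * x⁻¹ ∈ Q₁) → Q₁ ≠ Q →
      ∀ a ∈ Q₁, y * a = a * y
  swap
  · push Not at hmin
    obtain ⟨Q₁, hQ₁le, hQ₁x, hQ₁ne, a₁, ha₁, hya₁⟩ := hmin
    have hlt : Nat.card Q₁ < Nat.card Q := by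
      by_contra hge
      push Not at hge
      exact hQ₁ne (Subgroup.eq_of_le_of_card_ge hQ₁le hge)
    have h1 := IH Q₁ x ρ n r (hQ.to_le hQ₁le) hQ₁x
      (fun a _ => by rw [hxpn, one_mul, mul_one])
      (fun _ => ⟨a₁, ha₁, fun h => hya₁ (hfaith h)⟩) hr (by omega)
    refine h1.mono ?_
    rintro ⟨a, ha, b, hb, hab⟩
    exact not_comm_of_ne Q a b (hQ₁le ha) (hQ₁le hb) (fun h => hab (by rw [h]))
  -- Step 4: structure
  obtain ⟨hCZ, hcomm⟩ := crit_struct hpq Q hQ x y hxy hyp hmin a₀ ha₀ hya₀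
  -- Step 5: Clifford theory with `A = Z(Q)`
  set A : Subgroup G := Q ⊓ Subgroup.centralizer (Q : Set G) with hA
  have hAQ : A ≤ Q := inf_le_left
  have hAcen : ∀ a ∈ A, ∀ b ∈ Q, a * b = b * a := by
    intro a ha b hb
    have h1 := (Subgroup.mem_inf.1 ha).2
    rw [Subgroup.mem_centralizer_iff] at h1
    exact (h1 b hb).symm
  rcases tb_clifford F p q hpq N IH Q x ρ n r hQ hgen hfaith hxpn a₀ ha₀ hya₀ hr hN hirr A hAQ
    hAcen with hscal | hdone
  swap
  · exact hdone
  have hcenter_of_scal : ∀ a : G, (∃ c : F, ρ a = c • (1 : Module.End F V)) →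
      ∀ g : G, g * a = a * g := by
    rintro a ⟨c, hc⟩ g
    apply hfaith
    rw [map_mul, map_mul, hc, mul_smul_comm, mul_one, smul_mul_assoc, one_mul]
  set C : Subgroup G := Q ⊓ Subgroup.centralizer ({y} : Set G) with hC
  have hCmem : ∀ c : G, c ∈ C ↔ c ∈ Q ∧ y * c = c * y := by
    intro c
    rw [hC, Subgroup.mem_inf, Subgroup.mem_centralizer_iff]
    constructor
    · rintro ⟨h1, h2⟩
      exact ⟨h1, h2 y rfl⟩
    · rintro ⟨h1, h2⟩
      refine ⟨h1, fun h hh => ?_⟩
      rw [Set.mem_singleton_iff] at hh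
      rw [hh]; exact h2
  have hCA : ∀ c ∈ C, c ∈ A := by
    intro c hc
    have hc' := (hCmem c).1 hc
    refine Subgroup.mem_inf.2 ⟨hc'.1, ?_⟩
    rw [Subgroup.mem_centralizer_iff]
    intro b hb
    exact hCZ c hc'.1 hc'.2 b hb
  have hCscal : ∀ c ∈ C, ∃ μ : F, ρ c = μ • (1 : Module.End F V) :=
    fun c hc => hscal c (hCA c hc)
  have hCnc : ∀ a ∈ Q, a ∉ C → ∃ b ∈ Q, a * b ≠ b * a := by
    intro a ha haC
    by_contra hcon
    push Not at hcon
    have haA : a ∈ A := by
      refine Subgroup.mem_inf.2 ⟨ha, ?_⟩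
      rw [Subgroup.mem_centralizer_iff]
      intro b hb
      exact (hcon b hb).symm
    apply haC
    rw [hCmem]
    exact ⟨ha, hcenter_of_scal a (hscal a haA) y⟩
  have hcommC : ∀ a ∈ Q, ∀ b ∈ Q, a * b * a⁻¹ * b⁻¹ ∈ C := by
    intro a ha b hb
    rw [hCmem]
    exact ⟨Q.mul_mem (Q.mul_mem (Q.mul_mem ha hb) (Q.inv_mem ha)) (Q.inv_mem hb),
      hcomm a ha b hb⟩
  have hqF : (q : F) ≠ 0 := by
    intro h0
    have h1 := (CharP.cast_eq_zero_iff F p q).1 h0
    exact hpq ((Nat.prime_dvd_prime_iff_eq Fact.out Fact.out).1 h1)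
  -- Step 6: `V` is irreducible for `Q`
  have hirrQ := irr_of_central_type ρ hfaith Q x hgen q hQ hqF hirr C inf_le_left hCscal hCnc
    hcommC
  -- Step 7: the centralizer condition
  have hCcond : ∀ u ∈ Subgroup.zpowers x, u ≠ 1 →
      Subgroup.centralizer ({u} : Set G) = Subgroup.zpowers x ⊔ Subgroup.center G := by
    intro u hu hu1
    have hux : u * x = x * u := by
      obtain ⟨i, rfl⟩ := Subgroup.mem_zpowers_iff.1 hu
      exact ((Commute.refl x).zpow_left i).eq
    apply le_antisymm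
    · intro g hg
      have hg' : g ∈ ((Q ⊔ Subgroup.zpowers x : Subgroup G) : Set G) := by
        rw [hgen]; exact Subgroup.mem_top g
      rw [Subgroup.normal_mul] at hg'
      obtain ⟨a, ha, w, hw, rfl⟩ := Set.mem_mul.1 hg'
      have huw : u * w = w * u := by
        obtain ⟨i, rfl⟩ := Subgroup.mem_zpowers_iff.1 hu
        obtain ⟨j, rfl⟩ := Subgroup.mem_zpowers_iff.1 hw
        exact ((Commute.refl x).zpow_zpow i j).eq
      rw [Subgroup.mem_centralizer_iff] at hg
      have h1 := hg u rfl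
      have hua : u * a = a * u := by
        have h2 : u * a * w = a * u * w := by
          calc u * a * w = u * (a * w) := by rw [mul_assoc]
            _ = a * w * u := h1
            _ = a * (u * w) := by rw [mul_assoc, huw]
            _ = a * u * w := by rw [mul_assoc]
        exact mul_right_cancel h2
      have haC : a ∈ C := by
        set Cu : Subgroup G := Q ⊓ Subgroup.centralizer ({u} : Set G) with hCu
        have hCumem : ∀ c : G, c ∈ Cu ↔ c ∈ Q ∧ u * c = c * u := by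
          intro c
          rw [hCu, Subgroup.mem_inf, Subgroup.mem_centralizer_iff]
          constructor
          · rintro ⟨h1, h2⟩
            exact ⟨h1, h2 u rfl⟩
          · rintro ⟨h1, h2⟩
            refine ⟨h1, fun h hh => ?_⟩
            rw [Set.mem_singleton_iff] at hh
            rw [hh]; exact h2
        have hCux : ∀ c ∈ Cu, x * c * x⁻¹ ∈ Cu := by
          intro c hc
          rw [hCumem] at hc ⊢
          refine ⟨hQx c hc.1, ?_⟩
          have hux' : u * x⁻¹ = x⁻¹ * u := by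
            have h2 : x⁻¹ * (u * x) * x⁻¹ = x⁻¹ * (x * u) * x⁻¹ := by rw [hux]
            have h3 : x⁻¹ * (u * x) * x⁻¹ = x⁻¹ * u := by group
            have h4 : x⁻¹ * (x * u) * x⁻¹ = u * x⁻¹ := by group
            rw [h3, h4] at h2
            exact h2.symm
          calc u * (x * c * x⁻¹) = (u * x) * c * x⁻¹ := by simp only [mul_assoc]
            _ = x * (u * c) * x⁻¹ := by rw [hux]; simp only [mul_assoc]
            _ = x * c * (u * x⁻¹) := by rw [hc.2]; simp only [mul_assoc]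
            _ = x * c * x⁻¹ * u := by rw [hux']; simp only [mul_assoc]
        by_cases hCuQ : Cu = Q
        · exfalso
          apply hu1
          have hucen : ∀ g : G, ρ u * ρ g = ρ g * ρ u := by
            have hcen : (⊤ : Subgroup G) ≤ Subgroup.centralizer ({u} : Set G) := by
              rw [← hgen]
              apply sup_le
              · intro b hb
                have h2 : b ∈ Cu := by rw [hCuQ]; exact hb
                exact (Subgroup.mem_inf.1 h2).2
              · rw [Subgroup.zpowers_le, Subgroup.mem_centralizer_iff]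
                intro h hh
                rw [Set.mem_singleton_iff] at hh
                rw [hh]; exact hux
            intro g
            have h2 := hcen (Subgroup.mem_top g)
            rw [Subgroup.mem_centralizer_iff] at h2
            rw [← map_mul, ← map_mul, h2 u rfl]
          obtain ⟨c, hc⟩ := schur_scalar ρ hirr (ρ u) hucen
          have hupn : u ^ (p ^ n) = 1 := by
            rw [← hcardx]; exact pow_card_sub_eq_one _ hu
          apply hfaith
          rw [rho_eq_one_of_scalar ρ u n hupn c hc, map_one]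
        · have h2 := hmin Cu inf_le_left hCux hCuQ a ((hCumem a).2 ⟨ha, hua⟩)
          exact (hCmem a).2 ⟨ha, h2⟩
      have hacen : a ∈ Subgroup.center G := by
        rw [Subgroup.mem_center_iff]
        intro g
        exact hcenter_of_scal a (hCscal a haC) g
      exact Subgroup.mul_mem _ (Subgroup.mem_sup_right hacen) (Subgroup.mem_sup_left hw)
    · apply sup_le
      · rw [Subgroup.zpowers_le, Subgroup.mem_centralizer_iff]
        intro h hh
        rw [Set.mem_singleton_iff] at hh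
        rw [hh]; exact hux
      · intro z hz
        rw [Subgroup.mem_centralizer_iff]
        intro h hh
        rw [Set.mem_singleton_iff] at hh
        rw [hh]
        exact (Subgroup.mem_center_iff.1 hz u)
  have hex : ∃ s, (ρ x - 1) ^ s = 0 := ⟨r, hr⟩
  set s := Nat.find hex with hs
  have hs0 : (ρ x - 1) ^ s = 0 := Nat.find_spec hex
  have hsmin : ∀ k < s, (ρ x - 1) ^ k ≠ 0 := fun k hk => Nat.find_min hex hk
  have hsr : s ≤ r := Nat.find_min' hex hr
  obtain ⟨h1, h2, h3⟩ := Cfsg.Agent.S4282.result p q hpq Q hQ x hxP hgen hCcond ρ hfaith hirrQ s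
    hs0 hsmin
  rw [hcardx] at h1 h2 h3
  by_cases hsP : s = p ^ n
  · left
    rw [← hsP]; exact hsr
  · right
    have hs' : s = p ^ n - 1 := by omega
    obtain ⟨⟨b, hb⟩, hnonab⟩ := h3 hs'
    refine ⟨n, b, hnpos, le_rfl, ?_, hb, hnonab, ?_⟩
    · by_contra hb0
      have hb0' : b = 0 := by omega
      rw [hb0', pow_zero] at hb
      have hs1 : s = 1 := by omega
      rw [hs1, pow_one] at hs0
      have hx1 : x = 1 := hfaith (by rw [sub_eq_zero.1 hs0, map_one])
      apply hy1
      rw [hydef, hx1, one_pow]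
    · rw [Nat.sub_self, pow_zero, one_mul, ← hs']
      exact hsr



theorem exists_faithful_quot {F : Type w} [Field F] {G : Type u} [Group G] {V : Type v}
    [AddCommGroup V] [Module F V] (ρ : Representation F G V) :
    ∃ (π : G →* G ⧸ MonoidHom.ker ρ) (ρq : Representation F (G ⧸ MonoidHom.ker ρ) V),
      Function.Surjective π ∧ Function.Injective ρq ∧ ∀ g, ρq (π g) = ρ g := by
  refine ⟨QuotientGroup.mk' (MonoidHom.ker ρ),
    QuotientGroup.lift (MonoidHom.ker ρ) ρ (le_refl _), QuotientGroup.mk'_surjective _, ?_,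
    fun g => rfl⟩
  intro a b hab
  obtain ⟨g, rfl⟩ := QuotientGroup.mk'_surjective (MonoidHom.ker ρ) a
  obtain ⟨h, rfl⟩ := QuotientGroup.mk'_surjective (MonoidHom.ker ρ) b
  have h1 : ρ g = ρ h := hab
  apply QuotientGroup.eq.2
  rw [MonoidHom.mem_ker, map_mul, ← h1, ← map_mul, inv_mul_cancel, map_one]

/-- Passage to the quotient by the kernel of the representation. -/
theorem tb_of_ker (hpq : p ≠ q) (N : ℕ) (IH : TBFlex.{u, v, w} F p q N)
    {G : Type u} [Group G] [Finite G] (Q : Subgroup G) [hQn : Q.Normal] (x : G) {V : Type v}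
    [AddCommGroup V] [Module F V] [FiniteDimensional F V] [Nontrivial V]
    (ρ : Representation F G V) (n r : ℕ) (hQ : IsPGroup q Q)
    (hgen : Q ⊔ Subgroup.zpowers x = ⊤)
    (hxn : ∀ a ∈ Q, ρ (x ^ (p ^ n) * a) = ρ (a * x ^ (p ^ n)))
    (hy : 1 ≤ n → ∃ a ∈ Q, ρ (x ^ (p ^ (n - 1)) * a) ≠ ρ (a * x ^ (p ^ (n - 1))))
    (hr : (ρ x - 1) ^ r = 0) (hN : Nat.card Q + finrank F V ≤ N + 1) :
    TBconcl p q n r (∃ a ∈ Q, ∃ b ∈ Q, ρ (a * b) ≠ ρ (b * a)) := by
  obtain ⟨π, ρq, hπ, hρqinj, hρq⟩ := exists_faithful_quot ρ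
  haveI hQqn : (Q.map π).Normal := hQn.map _ hπ
  have hQq : IsPGroup q (Q.map π) := hQ.map _
  have hgenq : Q.map π ⊔ Subgroup.zpowers (π x) = ⊤ := by
    rw [← MonoidHom.map_zpowers, ← Subgroup.map_sup, hgen, Subgroup.map_top_of_surjective _ hπ]
  have hcardQ : Nat.card (Q.map π) ≤ Nat.card Q :=
    Nat.le_of_dvd Nat.card_pos (Subgroup.card_map_dvd Q _)
  have hxnq : ∀ a ∈ Q.map π, (π x) ^ (p ^ n) * a = a * (π x) ^ (p ^ n) := by
    rintro _ ⟨a, ha, rfl⟩
    apply hρqinj
    rw [← map_pow, ← map_mul, ← map_mul, hρq, hρq]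
    exact hxn a ha
  have hyq : 1 ≤ n → ∃ a ∈ Q.map π, (π x) ^ (p ^ (n - 1)) * a ≠ a * (π x) ^ (p ^ (n - 1)) := by
    intro hn
    obtain ⟨a, ha, hne⟩ := hy hn
    refine ⟨π a, ⟨a, ha, rfl⟩, ?_⟩
    intro heq
    apply hne
    have h1 := congrArg ρq heq
    rw [← map_pow, ← map_mul, ← map_mul, hρq, hρq] at h1
    exact h1
  have hrq : (ρq (π x) - 1) ^ r = 0 := by
    rw [hρq]; exact hr
  have hcore := tb_core F p q hpq N IH (Q.map π) (π x) ρq n r hQq hgenq hρqinj
    hxnq hyq hrq (by omega)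
  refine hcore.mono ?_
  intro hnc
  by_contra hcon
  push Not at hcon
  apply hnc
  refine ⟨⟨?_⟩⟩
  rintro ⟨_, a, ha, rfl⟩ ⟨_, b, hb, rfl⟩
  apply Subtype.ext
  apply hρqinj
  show ρq (π a * π b) = ρq (π b * π a)
  rw [← map_mul, ← map_mul, hρq, hρq]
  exact hcon a ha b hb

theorem tb_flex_succ (hpq : p ≠ q) (N : ℕ) (IH : TBFlex.{u, v, w} F p q N) :
    TBFlex.{u, v, w} F p q (N + 1) := by
  intro G _ _ Q x V _ _ _ _ ρ n r hQ hQx hxn hy hr hN
  classical
  set G' : Subgroup G := Q ⊔ Subgroup.zpowers x with hG'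
  have hQG' : Q ≤ G' := le_sup_left
  have hxG' : x ∈ G' := (le_sup_right : Subgroup.zpowers x ≤ G') (Subgroup.mem_zpowers x)
  have hnorm : G' ≤ Subgroup.normalizer (Q : Set G) := by
    apply sup_le Subgroup.le_normalizer
    rw [Subgroup.zpowers_le]
    exact Subgroup.mem_normalizer_fintype hQx
  haveI hQ'n : (Q.subgroupOf G').Normal :=
    (Subgroup.normal_subgroupOf_iff_le_normalizer hQG').2 hnorm
  have hgen' : Q.subgroupOf G' ⊔ Subgroup.zpowers (⟨x, hxG'⟩ : G') = ⊤ := by
    apply Subgroup.map_injective G'.subtype_injective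
    rw [Subgroup.map_sup, Subgroup.map_subgroupOf_eq_of_le hQG', MonoidHom.map_zpowers,
      ← MonoidHom.range_eq_map, Subgroup.range_subtype]
    rfl
  have hcard : Nat.card (Q.subgroupOf G') = Nat.card Q :=
    Nat.card_congr (Subgroup.subgroupOfEquivOfLe hQG').toEquiv
  have h1 := tb_of_ker F p q hpq N IH (Q.subgroupOf G') (⟨x, hxG'⟩ : G') (ρ.comp G'.subtype) n r
    (hQ.comap_subtype (K := G'))
    hgen' (fun a ha => hxn a.1 (Subgroup.mem_subgroupOf.1 ha))
    (fun hn => by
      obtain ⟨a, ha, hne⟩ := hy hn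
      exact ⟨⟨a, hQG' ha⟩, Subgroup.mem_subgroupOf.2 ha, hne⟩) hr (by omega)
  refine h1.mono ?_
  rintro ⟨a, ha, b, hb, hab⟩
  exact ⟨a.1, Subgroup.mem_subgroupOf.1 ha, b.1, Subgroup.mem_subgroupOf.1 hb, hab⟩

theorem tb_flex (hpq : p ≠ q) : ∀ N : ℕ, TBFlex.{u, v, w} F p q N := by
  intro N
  induction N with
  | zero =>
    intro G _ _ Q x V _ _ _ _ ρ n r hQ hQx hxn hy hr hN
    have h1 : 0 < Nat.card Q := Nat.card_pos
    omega
  | succ N ih => exact tb_flex_succ F p q hpq N ih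

end Core

end Cfsg.Agent.Lib.Helper32

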