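import Mathlib

set_option autoImplicit false

namespace Cfsg.Agent.Lib.Helper32

/-- Membership in a conjugate subgroup written with `MulAut.conj`. -/
theorem mem_map_conj_iff' {G : Type*} [Group G] (H : Subgroup G) (g x : G) :
    x ∈ H.map (MulAut.conj g).toMonoidHom ↔ g⁻¹ * x * g ∈ H := by
  constructor
  · rintro ⟨y, hy, rfl⟩
    have : g⁻¹ * (MulAut.conj g).toMonoidHom y * g = y := by
      simp [MulAut.conj_apply, mul_assoc]
    rw [this]; exact hy
  · intro h
    refine ⟨g⁻¹ * x * g, h, ?_⟩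
    simp [MulAut.conj_apply, mul_assoc]

/-- An involution `a` conjugates `(a*b)^k` to `(b*a)^k`. -/
theorem invol_mul_pow {G : Type*} [Group G] (a b : G) (ha : a * a = 1) (k : ℕ) :
    a * (a * b) ^ k = (b * a) ^ k * a := by
  induction k with
  | zero => simp
  | succ k ih =>
    rw [pow_succ, ← mul_assoc, ih, pow_succ]
    calc (b * a) ^ k * a * (a * b) = (b * a) ^ k * ((a * a) * b) := by simp only [mul_assoc]
      _ = (b * a) ^ k * (b * a) * a := by rw [ha, one_mul]; simp [mul_assoc, ha]

/-- For involutions `a`, `b`, the elements `(a*b)^k * a` are conjugates of `a` or of `b`. -/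
theorem dihedral_reflection_conj {G : Type*} [Group G] (a b : G) (ha : a * a = 1) (hb : b * b = 1) (k : ℕ) :
    (∃ g : G, (a * b) ^ k * a = g * a * g⁻¹) ∨ (∃ g : G, (a * b) ^ k * a = g * b * g⁻¹) := by
  have hab : (a * b)⁻¹ = b * a := by
    rw [inv_eq_iff_mul_eq_one]
    calc a * b * (b * a) = a * (b * b) * a := by simp only [mul_assoc]
      _ = 1 := by rw [hb, mul_one, ha]
  have step : ∀ k : ℕ, (a * b) ^ (k + 2) * a = (a * b) * ((a * b) ^ k * a) * (a * b)⁻¹ := by
    intro k
    rw [hab]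
    have h1 : (a * b) ^ (k + 2) = (a * b) * (a * b) ^ k * (a * b) := by
      rw [pow_succ, pow_succ']
    rw [h1]
    calc a * b * (a * b) ^ k * (a * b) * a = a * b * (a * b) ^ k * (a * (b * a)) := by
          simp only [mul_assoc]
      _ = a * b * ((a * b) ^ k * a) * (b * a) := by simp only [mul_assoc]
  have key : ∀ k : ℕ, ((∃ g : G, (a * b) ^ k * a = g * a * g⁻¹) ∨ (∃ g : G, (a * b) ^ k * a = g * b * g⁻¹)) ∧
      ((∃ g : G, (a * b) ^ (k + 1) * a = g * a * g⁻¹) ∨ (∃ g : G, (a * b) ^ (k + 1) * a = g * b * g⁻¹)) := by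
    intro k
    induction k with
    | zero =>
      refine ⟨Or.inl ⟨1, by simp⟩, Or.inr ⟨a, ?_⟩⟩
      have hainv : a⁻¹ = a := by rw [inv_eq_iff_mul_eq_one]; exact ha
      rw [hainv]; simp
    | succ k ih =>
      refine ⟨ih.2, ?_⟩
      rcases ih.1 with ⟨g, hg⟩ | ⟨g, hg⟩
      · left
        refine ⟨a * b * g, ?_⟩
        rw [step, hg]; simp [mul_assoc]
      · right
        refine ⟨a * b * g, ?_⟩
        rw [step, hg]; simp [mul_assoc]
  exact (key k).1

/-- A fixed-point-free involution on a finite set forces even cardinality. -/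
theorem even_ncard_of_involution {α : Type*} (s : Set α) (hs : s.Finite) (f : α → α)
    (h1 : ∀ a ∈ s, f a ∈ s) (h2 : ∀ a ∈ s, f (f a) = a) (h3 : ∀ a ∈ s, f a ≠ a) : Even s.ncard := by
  classical
  rw [Set.ncard_eq_toFinset_card s hs]
  have h : ((hs.toFinset.card : ℕ) : ZMod 2) = 0 := by
    rw [Finset.card_eq_sum_ones, Nat.cast_sum]
    apply Finset.sum_involution (fun a _ => f a)
    · intro a _
      simp only [Nat.cast_one]
      decide
    · intro a ha _
      exact h3 a (by simpa using ha)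
    · intro a ha
      simpa using h1 a (by simpa using ha)
    · intro a ha
      exact h2 a (by simpa using ha)
  exact (ZMod.natCast_eq_zero_iff_even).mp h

/-- An involution on a finite set with exactly one fixed point forces odd cardinality. -/
theorem odd_ncard_of_involution {α : Type*} (s : Set α) (hs : s.Finite) (f : α → α)
    (h1 : ∀ a ∈ s, f a ∈ s) (h2 : ∀ a ∈ s, f (f a) = a) (a₀ : α) (ha₀ : a₀ ∈ s) (hfix : f a₀ = a₀)
    (h3 : ∀ a ∈ s, f a = a → a = a₀) : Odd s.ncard := by
  have he : Even (s \ {a₀}).ncard := by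
    apply even_ncard_of_involution (s \ {a₀}) (hs.subset Set.sdiff_subset) f
    · rintro a ⟨ha, hne⟩
      refine ⟨h1 a ha, ?_⟩
      intro h
      apply hne
      have h' : f a = a₀ := h
      have : f (f a) = a₀ := by rw [h', hfix]
      rw [h2 a ha] at this
      exact this
    · rintro a ⟨ha, -⟩
      exact h2 a ha
    · rintro a ⟨ha, hne⟩ h
      exact hne (h3 a ha h)
  rw [← Set.ncard_sdiff_singleton_add_one ha₀ hs]
  exact he.add_one

/-- The conjugacy class of `z` has as many elements as the index of the centralizer of `z`. -/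
theorem ncard_conj_eq_index {G : Type*} [Group G] (z : G) :
    {t : G | IsConj z t}.ncard = (Subgroup.centralizer ({z} : Set G)).index := by
  rw [← Nat.card_coe_set_eq, Subgroup.index]
  symm
  let f : G ⧸ Subgroup.centralizer ({z} : Set G) → {t : G | IsConj z t} :=
    fun q => Quotient.liftOn' q (fun g => (⟨g * z * g⁻¹, isConj_iff.mpr ⟨g, rfl⟩⟩ : {t : G | IsConj z t}))
      (by
        intro a b hab
        rw [QuotientGroup.leftRel_apply, Subgroup.mem_centralizer_singleton_iff] at hab
        apply Subtype.ext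
        show a * z * a⁻¹ = b * z * b⁻¹
        have : b = a * (a⁻¹ * b) := by simp
        rw [this]
        calc a * z * a⁻¹ = a * (z * (a⁻¹ * b)) * (a⁻¹ * b)⁻¹ * a⁻¹ := by simp [mul_assoc]
          _ = a * ((a⁻¹ * b) * z) * (a⁻¹ * b)⁻¹ * a⁻¹ := by rw [hab]
          _ = a * (a⁻¹ * b) * z * (a * (a⁻¹ * b))⁻¹ := by simp [mul_assoc])
  apply Nat.card_eq_of_bijective f
  constructor
  · intro q₁ q₂
    refine Quotient.inductionOn₂' q₁ q₂ ?_
    intro a b hab
    have hab' : a * z * a⁻¹ = b * z * b⁻¹ := congrArg Subtype.val hab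
    apply Quotient.sound'
    rw [QuotientGroup.leftRel_apply, Subgroup.mem_centralizer_singleton_iff]
    calc a⁻¹ * b * z = a⁻¹ * (b * z * b⁻¹) * b := by simp [mul_assoc]
      _ = a⁻¹ * (a * z * a⁻¹) * b := by rw [hab']
      _ = z * (a⁻¹ * b) := by simp [mul_assoc]
  · rintro ⟨t, ht⟩
    obtain ⟨c, hc⟩ := isConj_iff.mp ht
    exact ⟨(c : G ⧸ Subgroup.centralizer ({z} : Set G)), Subtype.ext hc⟩

end Cfsg.Agent.Lib.Helper32
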