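import Mathlib
import Cfsg.Agent.Lib.Helper32.SylowConj
import Cfsg.Agent.Lib.Helper32.Invol

set_option autoImplicit false

namespace Cfsg.Agent.Lib.Helper32

/-- `x * x = 1` from `orderOf x = 2`. -/
theorem mul_self_of_orderOf_two {G : Type*} [Group G] {x : G} (hx : orderOf x = 2) : x * x = 1 := by
  rw [← pow_two, ← hx]; exact pow_orderOf_eq_one x

/-- `orderOf x = 2` from `x * x = 1` and `x ≠ 1`. -/
theorem orderOf_two_of_mul_self {G : Type*} [Group G] {x : G} (hx : x * x = 1) (hx1 : x ≠ 1) :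
    orderOf x = 2 := by
  apply orderOf_eq_prime
  · rw [pow_two]; exact hx
  · exact hx1

/-- A conjugate of an element of order two has order two. -/
theorem orderOf_conj_two {G : Type*} [Group G] {x : G} (hx : orderOf x = 2) (g : G) :
    orderOf (g * x * g⁻¹) = 2 := by
  have e : g * x * g⁻¹ = MulAut.conj g x := by simp [MulAut.conj_apply]
  rw [e, MulEquiv.orderOf_eq]; exact hx

/-- In the dihedral group generated by involutions `a`, `b` with `(a*b)^(2k+1) = 1`, the element
`i = (a*b)^k * a` is an involution conjugating `a` to `b`. -/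
theorem dihedral_conj_elt {G : Type*} [Group G] (a b : G) (ha2 : a * a = 1) (hb2 : b * b = 1) (k : ℕ)
    (hpow : (a * b) ^ (2 * k + 1) = 1) :
    ((a * b) ^ k * a) * a = b * ((a * b) ^ k * a) ∧ ((a * b) ^ k * a) * ((a * b) ^ k * a) = 1 := by
  have hba : b * a = (a * b)⁻¹ := by
    rw [eq_inv_iff_mul_eq_one]
    calc b * a * (a * b) = b * (a * a) * b := by simp only [mul_assoc]
      _ = 1 := by rw [ha2, mul_one, hb2]
  have hkey : (a * b) ^ k = (b * a) ^ (k + 1) := by
    rw [hba, inv_pow, eq_inv_iff_mul_eq_one, ← pow_add]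
    have : k + (k + 1) = 2 * k + 1 := by ring
    rw [this]
    exact hpow
  have hsemi : a * (b * a) ^ k = (a * b) ^ k * a :=
    (SemiconjBy.pow_right (show SemiconjBy a (b * a) (a * b) from (mul_assoc a b a).symm) k).eq
  refine ⟨?_, ?_⟩
  · calc (a * b) ^ k * a * a = (a * b) ^ k := by rw [mul_assoc, ha2, mul_one]
      _ = (b * a) ^ (k + 1) := hkey
      _ = b * (a * (b * a) ^ k) := by rw [pow_succ', mul_assoc]
      _ = b * ((a * b) ^ k * a) := by rw [hsemi]
  · calc (a * b) ^ k * a * ((a * b) ^ k * a) = (a * b) ^ k * (a * (a * b) ^ k) * a := by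
          simp only [mul_assoc]
      _ = (a * b) ^ k * ((b * a) ^ k * a) * a := by rw [invol_mul_pow a b ha2 k]
      _ = ((a * b) ^ k * (b * a) ^ k) * (a * a) := by simp only [mul_assoc]
      _ = 1 := by rw [ha2, mul_one, hba, inv_pow, mul_inv_cancel]

/-- For two involutions of a finite group, the product has odd order or some involution commutes with both. -/
theorem invol_odd_or_commuting {G : Type*} [Group G] [Finite G] {x y : G} (hx2 : x * x = 1) (hy2 : y * y = 1) :
    Odd (orderOf (x * y)) ∨ ∃ k : G, orderOf k = 2 ∧ k * x = x * k ∧ k * y = y * k := by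
  rcases Nat.even_or_odd (orderOf (x * y)) with hev | hodd
  · right
    obtain ⟨k, hk⟩ := hev
    have hpos : 0 < orderOf (x * y) := orderOf_pos _
    have hk0 : k ≠ 0 := by omega
    have hklt : k < orderOf (x * y) := by omega
    obtain ⟨w, hw⟩ : ∃ w : G, w = (x * y) ^ k := ⟨_, rfl⟩
    have hw1 : w ≠ 1 := by rw [hw]; exact pow_ne_one_of_lt_orderOf hk0 hklt
    have hww : w * w = 1 := by rw [hw, ← pow_add, ← hk, pow_orderOf_eq_one]
    have hwinv : w⁻¹ = w := inv_eq_of_mul_eq_one_left hww
    have hyx : (y * x) ^ k = w := by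
      have h : y * x = (x * y)⁻¹ := by
        rw [eq_inv_iff_mul_eq_one]
        calc y * x * (x * y) = y * (x * x) * y := by simp only [mul_assoc]
          _ = 1 := by rw [hx2, mul_one, hy2]
      rw [h, inv_pow, ← hw, hwinv]
    refine ⟨w, orderOf_two_of_mul_self hww hw1, ?_, ?_⟩
    · have := invol_mul_pow x y hx2 k
      rw [hyx, ← hw] at this
      exact this.symm
    · have := invol_mul_pow y x hy2 k
      rw [hyx, ← hw] at this
      exact this.symm
  · exact Or.inl hodd

/-- Two involutions whose product has odd order are conjugate. -/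
theorem isConj_of_odd_orderOf_mul {G : Type*} [Group G] {x y : G} (hx2 : x * x = 1) (hy2 : y * y = 1)
    (hodd : Odd (orderOf (x * y))) : IsConj x y := by
  obtain ⟨k, hk⟩ := hodd
  have hpow : (x * y) ^ (2 * k + 1) = 1 := by rw [← hk]; exact pow_orderOf_eq_one _
  obtain ⟨h1, -⟩ := dihedral_conj_elt x y hx2 hy2 k hpow
  refine isConj_iff.mpr ⟨(x * y) ^ k * x, ?_⟩
  rw [h1, mul_assoc, mul_inv_cancel, mul_one]

/-- Two involutions of a finite group are conjugate, or some involution commutes with both. -/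
theorem invol_dichotomy {G : Type*} [Group G] [Finite G] {x y : G} (hx : orderOf x = 2) (hy : orderOf y = 2) :
    IsConj x y ∨ ∃ k : G, orderOf k = 2 ∧ k * x = x * k ∧ k * y = y * k := by
  have hx2 := mul_self_of_orderOf_two hx
  have hy2 := mul_self_of_orderOf_two hy
  rcases invol_odd_or_commuting hx2 hy2 with h | h
  · exact Or.inl (isConj_of_odd_orderOf_mul hx2 hy2 h)
  · exact Or.inr h

/-- In a finite group, an element conjugating a subgroup into itself normalizes it. -/
theorem mem_normalizer_of_conj_mem {G : Type*} [Group G] [Finite G] (K : Subgroup G) (n : G)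
    (h : ∀ s ∈ K, n * s * n⁻¹ ∈ K) : n ∈ Subgroup.normalizer (K : Set G) := by
  have hinj : Function.Injective (fun s : K => (⟨n * s.1 * n⁻¹, h s.1 s.2⟩ : K)) := by
    intro s s' hss
    have : n * s.1 * n⁻¹ = n * s'.1 * n⁻¹ := congrArg Subtype.val hss
    apply Subtype.ext
    simpa using this
  have hsurj := Finite.surjective_of_injective hinj
  rw [Subgroup.mem_normalizer_iff]
  intro x
  constructor
  · exact h x
  · intro hx
    obtain ⟨s, hs⟩ := hsurj ⟨n * x * n⁻¹, hx⟩
    have : n * s.1 * n⁻¹ = n * x * n⁻¹ := congrArg Subtype.val hs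
    have hsx : s.1 = x := by simpa using this
    rw [← hsx]; exact s.2

/-- Sylow conjugacy inside a subgroup `M`, relative to a Sylow subgroup of `M`, in ambient terms. -/
theorem exists_conj_mem_map_sylow_of_le {G : Type*} [Group G] [Finite G] {p : ℕ} [Fact p.Prime]
    (M : Subgroup G) (X : Sylow p M) (Q : Subgroup G) (hQ : IsPGroup p Q) (hQM : Q ≤ M) :
    ∃ h ∈ M, ∀ y ∈ Q, h * y * h⁻¹ ∈ (X : Subgroup M).map M.subtype := by
  obtain ⟨h, -, hh⟩ := exists_conj_mem_sylow_of_le (G := M) ⊤ X le_top (Q.subgroupOf M)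
    hQ.comap_subtype le_top
  refine ⟨h, h.2, fun y hy => ?_⟩
  have := hh ⟨y, hQM hy⟩ (Subgroup.mem_subgroupOf.mpr hy)
  exact ⟨_, this, by simp⟩

/-- A `p`-element of `M` is `M`-conjugate into a given Sylow subgroup of `M`, in ambient terms. -/
theorem exists_conj_mem_map_sylow_of_mem {G : Type*} [Group G] [Finite G] {p : ℕ} [Fact p.Prime]
    (M : Subgroup G) (X : Sylow p M) (x : G) (hx : x ∈ M) (hxp : ∃ k : ℕ, x ^ p ^ k = 1) :
    ∃ h ∈ M, h * x * h⁻¹ ∈ (X : Subgroup M).map M.subtype := by
  obtain ⟨k, hk⟩ := hxp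
  obtain ⟨h, -, hh⟩ := exists_conj_mem_sylow_of_mem (G := M) ⊤ X le_top ⟨x, hx⟩ trivial
    ⟨k, Subtype.ext (by simpa using hk)⟩
  exact ⟨h, h.2, ⟨_, hh, by simp⟩⟩

end Cfsg.Agent.Lib.Helper32
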