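import Mathlib
import Cfsg.Agent.Lib.Helper32.Invol
import Cfsg.Agent.Lib.Helper32.Invol2
import Cfsg.Agent.Lib.Helper10.Card
import Cfsg.Agent.Lib.Helper90.IndexAux

set_option autoImplicit false

open scoped Pointwise

namespace Cfsg.Agent.Lib.Helper32

/-- `|T| [X : T] = |X|` for `T ≤ X`. -/
theorem card_mul_relIndex_of_le {G : Type*} [Group G] {T X : Subgroup G} (h : T ≤ X) :
    Nat.card T * T.relIndex X = Nat.card X := by
  have := Subgroup.relIndex_mul_relIndex (⊥ : Subgroup G) T X bot_le h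
  rwa [Subgroup.relIndex_bot_left, Subgroup.relIndex_bot_left] at this

/-- A `p`-subgroup of `X` has order dividing that of a `p`-subgroup of `X` of index prime to `p`. -/
theorem card_dvd_of_sylowLike {G : Type*} [Group G] [Finite G] {p : ℕ} [Fact p.Prime]
    {T T' X : Subgroup G} (hTX : T ≤ X) (hTsyl : ¬ p ∣ T.relIndex X) (hT'X : T' ≤ X)
    (hT' : IsPGroup p T') : Nat.card T' ∣ Nat.card T := by
  obtain ⟨k, hk⟩ := (IsPGroup.iff_card).mp hT'
  have h1 : Nat.card T' ∣ Nat.card X := Subgroup.card_dvd_of_le hT'X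
  rw [← card_mul_relIndex_of_le hTX, hk] at h1
  rw [hk]
  have hcop : (p ^ k).Coprime (T.relIndex X) :=
    Nat.Coprime.pow_left k ((Nat.Prime.coprime_iff_not_dvd Fact.out).mpr hTsyl)
  exact hcop.dvd_of_dvd_mul_right h1

/-- A `p`-subgroup of `X` of index prime to `p` is a maximal `p`-subgroup of `X`. -/
theorem eq_of_sylowLike_le {G : Type*} [Group G] [Finite G] {p : ℕ} [Fact p.Prime]
    {T T' X : Subgroup G} (hTX : T ≤ X) (hTsyl : ¬ p ∣ T.relIndex X) (hT'X : T' ≤ X)
    (hT' : IsPGroup p T') (hTT' : T ≤ T') : T' = T :=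
  (Subgroup.eq_of_le_of_card_ge hTT'
    (Nat.le_of_dvd Nat.card_pos (card_dvd_of_sylowLike hTX hTsyl hT'X hT'))).symm

/-- Every `p`-subgroup of `X` lies in a `p`-subgroup of `X` of index prime to `p`. -/
theorem exists_sylowLike_ge {G : Type*} [Group G] [Finite G] {p : ℕ} [Fact p.Prime]
    {T₀ X : Subgroup G} (h : T₀ ≤ X) (hp : IsPGroup p T₀) :
    ∃ T : Subgroup G, T₀ ≤ T ∧ T ≤ X ∧ IsPGroup p T ∧ ¬ p ∣ T.relIndex X := by
  obtain ⟨P, hP⟩ := (hp.comap_subtype (K := X)).exists_le_sylow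
  refine ⟨(P : Subgroup X).map X.subtype, ?_, ?_, ?_, ?_⟩
  · intro x hx
    exact ⟨⟨x, h hx⟩, hP (Subgroup.mem_subgroupOf.mpr hx), rfl⟩
  · rintro _ ⟨y, -, rfl⟩
    exact y.2
  · exact P.2.map _
  · have h1 : ((P : Subgroup X).map X.subtype).relIndex X = (P : Subgroup X).index := by
      unfold Subgroup.relIndex Subgroup.subgroupOf
      rw [Subgroup.comap_map_eq_self_of_injective X.subtype_injective]
    rw [h1]
    exact P.not_dvd_index

/-- If `T` normalises `A` and `A ⊓ T = ⊥`, then `|A ⊔ T| = |A| |T|`. -/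
theorem card_sup_of_le_normalizer {G : Type*} [Group G] [Finite G] {A T : Subgroup G}
    (hn : T ≤ Subgroup.normalizer (A : Set G)) (hAT : A ⊓ T = ⊥) :
    Nat.card (A ⊔ T : Subgroup G) = Nat.card A * Nat.card T := by
  have h1 := Cfsg.Agent.Lib.Helper10.card_mul_card_inf A T
  rw [hAT, Subgroup.card_bot, mul_one] at h1
  rw [← h1]
  exact Nat.card_congr (Equiv.setCongr (Subgroup.coe_mul_of_right_le_normalizer_left A T hn))

/-- Elements of `A ⊔ T` are products when `T` normalises `A`. -/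
theorem exists_mul_of_mem_sup_of_le_normalizer {G : Type*} [Group G] {A T : Subgroup G}
    (hn : T ≤ Subgroup.normalizer (A : Set G)) {x : G} (hx : x ∈ A ⊔ T) :
    ∃ a ∈ A, ∃ t ∈ T, x = a * t := by
  have h1 : x ∈ ((A ⊔ T : Subgroup G) : Set G) := hx
  rw [Subgroup.coe_mul_of_right_le_normalizer_left A T hn] at h1
  obtain ⟨a, ha, b, hb, rfl⟩ := Set.mem_mul.mp h1
  exact ⟨a, ha, b, hb, rfl⟩

/-- The property "`B ∩ B^x` has no nontrivial `2`-elements for `x ∉ N(B)`". -/
def TI2 {G : Type*} [Group G] (B : Subgroup G) : Prop :=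
  ∀ x : G, x ∉ Subgroup.normalizer (B : Set G) → ∀ y ∈ B, x * y * x⁻¹ ∈ B →
    (∃ k : ℕ, y ^ 2 ^ k = 1) → y = 1

/-- A `2`-element of a subgroup of odd order is trivial. -/
theorem eq_one_of_two_pow_of_odd {G : Type*} [Group G] [Finite G] (M : Subgroup G)
    (hM : Odd (Nat.card M)) {y : G} (hy : y ∈ M) (h2 : ∃ k : ℕ, y ^ 2 ^ k = 1) : y = 1 := by
  obtain ⟨k, hk⟩ := h2
  have h1 : orderOf y ∣ 2 ^ k := orderOf_dvd_of_pow_eq_one hk
  have h2 : orderOf y ∣ Nat.card M := by
    have : orderOf (⟨y, hy⟩ : M) ∣ Nat.card M := orderOf_dvd_natCard _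
    rwa [Subgroup.orderOf_mk] at this
  have hcop : (2 ^ k).Coprime (Nat.card M) := Nat.Coprime.pow_left k (Nat.coprime_two_left.mpr hM)
  have h3 : orderOf y = 1 := Nat.eq_one_of_dvd_coprimes hcop h1 h2
  exact orderOf_eq_one_iff.mp h3

/-- Conjugating a normalising element. -/
theorem conj_mem_normalizer_map_conj {G : Type*} [Group G] [Finite G] (B : Subgroup G) (g n : G)
    (hn : n ∈ Subgroup.normalizer (B : Set G)) :
    g * n * g⁻¹ ∈ Subgroup.normalizer ((B.map (MulAut.conj g).toMonoidHom : Subgroup G) : Set G) := by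
  apply mem_normalizer_of_conj_mem
  intro s hs
  rw [mem_map_conj_iff'] at hs ⊢
  have h1 := (Subgroup.mem_normalizer_iff.mp hn (g⁻¹ * s * g)).mp hs
  have h2 : g⁻¹ * (g * n * g⁻¹ * s * (g * n * g⁻¹)⁻¹) * g = n * (g⁻¹ * s * g) * n⁻¹ := by
    simp [mul_assoc]
  rw [h2]
  exact h1

/-- `TI2` passes to conjugates. -/
theorem TI2.map_conj {G : Type*} [Group G] [Finite G] {B : Subgroup G} (hB : TI2 B) (g : G) :
    TI2 (B.map (MulAut.conj g).toMonoidHom) := by
  intro x hx y hy hxy h2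
  have hx' : g⁻¹ * x * g ∉ Subgroup.normalizer (B : Set G) := by
    intro h
    apply hx
    have h1 := conj_mem_normalizer_map_conj B g _ h
    have h2 : g * (g⁻¹ * x * g) * g⁻¹ = x := by simp [mul_assoc]
    rwa [h2] at h1
  rw [mem_map_conj_iff'] at hy hxy
  have h3 : (g⁻¹ * x * g) * (g⁻¹ * y * g) * (g⁻¹ * x * g)⁻¹ = g⁻¹ * (x * y * x⁻¹) * g := by
    simp [mul_assoc]
  have h4 : ∃ k : ℕ, (g⁻¹ * y * g) ^ 2 ^ k = 1 := by
    obtain ⟨k, hk⟩ := h2
    refine ⟨k, ?_⟩
    have := conj_pow (a := g⁻¹) (b := y) (i := 2 ^ k)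
    rw [inv_inv] at this
    rw [this, hk]; simp
  have h5 := hB _ hx' _ hy (by rw [h3]; exact hxy) h4
  have h6 : y = g * (g⁻¹ * y * g) * g⁻¹ := by simp [mul_assoc]
  rw [h6, h5]; simp

/-- Uniqueness of the decomposition in a product of two subgroups meeting trivially. -/
theorem eq_of_mul_eq_mul_of_inf_eq_bot {G : Type*} [Group G] {T R : Subgroup G} (h : T ⊓ R = ⊥)
    {t₁ t₂ r₁ r₂ : G} (ht₁ : t₁ ∈ T) (ht₂ : t₂ ∈ T) (hr₁ : r₁ ∈ R) (hr₂ : r₂ ∈ R)
    (he : t₁ * r₁ = t₂ * r₂) : r₁ = r₂ := by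
  have h1 : t₂⁻¹ * t₁ = r₂ * r₁⁻¹ := by
    calc t₂⁻¹ * t₁ = t₂⁻¹ * (t₁ * r₁) * r₁⁻¹ := by simp [mul_assoc]
      _ = r₂ * r₁⁻¹ := by rw [he]; simp
  have h2 : r₂ * r₁⁻¹ ∈ T ⊓ R :=
    Subgroup.mem_inf.mpr ⟨h1 ▸ T.mul_mem (T.inv_mem ht₂) ht₁, R.mul_mem hr₂ (R.inv_mem hr₁)⟩
  rw [h, Subgroup.mem_bot] at h2
  have h3 : r₂ = r₁ := by
    calc r₂ = r₂ * r₁⁻¹ * r₁ := by simp
      _ = r₁ := by rw [h2, one_mul]
  exact h3.symm

/-- The key lemma on tightly embedded subgroups, in a form symmetric in `A` and its conjugate `B`. -/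
theorem tight_key {G : Type*} [Group G] [Finite G] (A B : Subgroup G) (g : G)
    (hBg : B = A.map (MulAut.conj g).toMonoidHom)
    (hAB : ∀ x ∈ A, x ∈ B → (∃ k : ℕ, x ^ 2 ^ k = 1) → x = 1)
    (hB : TI2 B)
    (T : Subgroup G) (hT1 : T ≠ ⊥) (hT : T ≤ B ⊓ Subgroup.normalizer (A : Set G))
    (hT2 : IsPGroup 2 T)
    (hTmax : ∀ T' : Subgroup G, T' ≤ B ⊓ Subgroup.normalizer (A : Set G) → IsPGroup 2 T' →
      T ≤ T' → T' = T)
    (S : Subgroup G) (hTS : T ≤ S) (hS : S ≤ A ⊔ T) (hS2 : IsPGroup 2 S)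
    (hSsyl : ¬ 2 ∣ S.relIndex (A ⊔ T)) :
    T ⊓ A = ⊥ ∧
    (∀ t ∈ T, ∀ r ∈ S ⊓ Subgroup.normalizer (T : Set G) ⊓ A, t * r = r * t) ∧
    T ⊔ (S ⊓ Subgroup.normalizer (T : Set G) ⊓ A) = S ⊓ Subgroup.normalizer (T : Set G) ∧
    (∀ r ∈ S ⊓ Subgroup.normalizer (T : Set G) ⊓ A, r ∈ Subgroup.normalizer (B : Set G)) ∧
    Nat.card T ≤ Nat.card ↥(S ⊓ Subgroup.normalizer (T : Set G) ⊓ A) ∧
    (Nat.card T = Nat.card ↥(S ⊓ Subgroup.normalizer (T : Set G) ⊓ A) →
      Nonempty (↥(S ⊓ Subgroup.normalizer (T : Set G) ⊓ A) ≃* T)) := by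
  classical
  have : Fact (Nat.Prime 2) := ⟨Nat.prime_two⟩
  have hTB : T ≤ B := hT.trans inf_le_left
  have hTNA : T ≤ Subgroup.normalizer (A : Set G) := hT.trans inf_le_right
  have htwo : ∀ {K : Subgroup G}, IsPGroup 2 K → ∀ x ∈ K, ∃ k : ℕ, x ^ 2 ^ k = 1 := by
    intro K hK x hx
    obtain ⟨k, hk⟩ := hK ⟨x, hx⟩
    exact ⟨k, by simpa using congrArg Subtype.val hk⟩
  -- f2
  have f2 : T ⊓ A = ⊥ := by
    rw [eq_bot_iff]
    intro x hx
    rw [Subgroup.mem_inf] at hx
    rw [Subgroup.mem_bot]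
    exact hAB x hx.2 (hTB hx.1) (htwo hT2 x hx.1)
  set R : Subgroup G := S ⊓ Subgroup.normalizer (T : Set G) ⊓ A with hRdef
  have hRS : R ≤ S := inf_le_left.trans inf_le_left
  have hRN : R ≤ Subgroup.normalizer (T : Set G) := inf_le_left.trans inf_le_right
  have hRA : R ≤ A := inf_le_right
  have hR2 : IsPGroup 2 R := hS2.to_le hRS
  have hTR : T ⊓ R = ⊥ := by
    rw [eq_bot_iff, ← f2]
    exact inf_le_inf_left T hRA
  -- f4
  have f4 : ∀ t ∈ T, ∀ r ∈ R, t * r = r * t := by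
    intro t ht r hr
    have h1 : t * r * t⁻¹ * r⁻¹ ∈ T := by
      have h2 : r * t⁻¹ * r⁻¹ ∈ T := (Subgroup.mem_normalizer_iff.mp (hRN hr) t⁻¹).mp (T.inv_mem ht)
      have h3 : t * r * t⁻¹ * r⁻¹ = t * (r * t⁻¹ * r⁻¹) := by simp [mul_assoc]
      rw [h3]; exact T.mul_mem ht h2
    have h2 : t * r * t⁻¹ * r⁻¹ ∈ A := by
      have h3 : t * r * t⁻¹ ∈ A := (Subgroup.mem_normalizer_iff.mp (hTNA ht) r).mp (hRA hr)
      exact A.mul_mem h3 (A.inv_mem (hRA hr))
    have h3 : t * r * t⁻¹ * r⁻¹ ∈ T ⊓ A := Subgroup.mem_inf.mpr ⟨h1, h2⟩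
    rw [f2, Subgroup.mem_bot] at h3
    calc t * r = (t * r * t⁻¹ * r⁻¹) * (r * t) := by simp [mul_assoc]
      _ = r * t := by rw [h3, one_mul]
  -- f5
  have f5 : T ⊔ R = S ⊓ Subgroup.normalizer (T : Set G) := by
    apply le_antisymm
    · exact sup_le (le_inf hTS Subgroup.le_normalizer) inf_le_left
    · intro x hx
      rw [Subgroup.mem_inf] at hx
      obtain ⟨a, ha, t, ht, rfl⟩ := exists_mul_of_mem_sup_of_le_normalizer hTNA (hS hx.1)
      have haS : a ∈ S := by
        have : a = (a * t) * t⁻¹ := by simp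
        rw [this]; exact S.mul_mem hx.1 (S.inv_mem (hTS ht))
      have haN : a ∈ Subgroup.normalizer (T : Set G) := by
        have : a = (a * t) * t⁻¹ := by simp
        rw [this]
        exact Subgroup.mul_mem _ hx.2 (Subgroup.inv_mem _ (Subgroup.le_normalizer ht))
      exact Subgroup.mul_mem _ (Subgroup.mem_sup_right (Subgroup.mem_inf.mpr ⟨Subgroup.mem_inf.mpr ⟨haS, haN⟩, ha⟩))
        (Subgroup.mem_sup_left ht)
  -- an involution of T
  have hinv : ∃ t ∈ T, orderOf t = 2 := by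
    have h2 : 2 ∣ Nat.card T := by
      rcases hT2.card_eq_or_dvd with h | h
      · exact absurd (Subgroup.card_eq_one.mp h) hT1
      · exact h
    obtain ⟨t, ht⟩ := exists_prime_orderOf_dvd_card' 2 h2
    exact ⟨t.1, t.2, by rw [← ht, Subgroup.orderOf_coe]⟩
  -- f6
  have f6 : ∀ r ∈ R, r ∈ Subgroup.normalizer (B : Set G) := by
    intro r hr
    obtain ⟨t, ht, hto⟩ := hinv
    by_contra hrB
    have h1 : r * t * r⁻¹ = t := by
      rw [← f4 t ht r hr]; simp
    have h2 := hB r hrB t (hTB ht) (by rw [h1]; exact hTB ht)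
      ⟨1, by rw [pow_one, ← hto]; exact pow_orderOf_eq_one t⟩
    rw [h2, orderOf_one] at hto
    exact absurd hto (by norm_num)
  refine ⟨f2, f4, f5, f6, ?_⟩
  by_cases hU : S ≤ Subgroup.normalizer (T : Set G)
  · -- Case 1: T is normal in S
    have hSeq : T ⊔ R = S := by rw [f5]; exact inf_eq_left.mpr hU
    have hTnR : T ≤ Subgroup.normalizer (R : Set G) := by
      intro t ht
      apply mem_normalizer_of_conj_mem
      intro r hr
      have : t * r * t⁻¹ = r := by rw [f4 t ht r hr]; simp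
      rw [this]; exact hr
    have c1 : Nat.card (A ⊔ T : Subgroup G) = Nat.card A * Nat.card T :=
      card_sup_of_le_normalizer hTNA (by rw [inf_comm]; exact f2)
    have c2 : Nat.card S = Nat.card R * Nat.card T := by
      rw [← hSeq, sup_comm]
      exact card_sup_of_le_normalizer hTnR (by rw [inf_comm]; exact hTR)
    have c3 := card_mul_relIndex_of_le hS
    have c4 : Nat.card R * S.relIndex (A ⊔ T) = Nat.card A := by
      have hpos : 0 < Nat.card T := Nat.card_pos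
      have : Nat.card R * S.relIndex (A ⊔ T) * Nat.card T = Nat.card A * Nat.card T := by
        rw [← c1, ← c3, c2]; ring
      exact Nat.eq_of_mul_eq_mul_right hpos this
    have hRsyl : ¬ 2 ∣ R.relIndex A := by
      have h1 := card_mul_relIndex_of_le hRA
      have hpos : 0 < Nat.card R := Nat.card_pos
      have h2 : R.relIndex A = S.relIndex (A ⊔ T) :=
        Nat.eq_of_mul_eq_mul_left hpos (h1.trans c4.symm)
      rw [h2]; exact hSsyl
    -- T₀ := g⁻¹ T g ≤ A
    have hT₀A : T.map (MulAut.conj g⁻¹).toMonoidHom ≤ A := by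
      rintro _ ⟨t, ht, rfl⟩
      have h1 := hTB ht
      rw [hBg, mem_map_conj_iff'] at h1
      simpa [MulAut.conj_apply] using h1
    have hT₀2 : IsPGroup 2 (T.map (MulAut.conj g⁻¹).toMonoidHom) := hT2.map _
    have hT₀card : Nat.card (T.map (MulAut.conj g⁻¹).toMonoidHom) = Nat.card T :=
      (Nat.card_congr (T.equivMapOfInjective (MulAut.conj g⁻¹).toMonoidHom
        (MulAut.conj g⁻¹).injective).toEquiv).symm
    have hdvd : Nat.card (T.map (MulAut.conj g⁻¹).toMonoidHom) ∣ Nat.card R :=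
      card_dvd_of_sylowLike hRA hRsyl hT₀A hT₀2
    refine ⟨?_, ?_⟩
    · rw [← hT₀card]; exact Nat.le_of_dvd Nat.card_pos hdvd
    · intro hcard
      obtain ⟨P₁, hP₁⟩ := (hR2.comap_subtype (K := A)).exists_le_sylow
      obtain ⟨P₂, hP₂⟩ := (hT₀2.comap_subtype (K := A)).exists_le_sylow
      have hcP : ∀ P : Sylow 2 A, Nat.card P ≤ Nat.card R := by
        intro P
        have h1 : Nat.card ((P : Subgroup A).map A.subtype) ∣ Nat.card R :=
          card_dvd_of_sylowLike hRA hRsyl (by rintro _ ⟨y, -, rfl⟩; exact y.2) (P.2.map _)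
        have h2 : Nat.card ((P : Subgroup A).map A.subtype) = Nat.card P :=
          (Nat.card_congr ((P : Subgroup A).equivMapOfInjective A.subtype
            A.subtype_injective).toEquiv).symm
        rw [h2] at h1
        exact Nat.le_of_dvd Nat.card_pos h1
      have hcR : Nat.card (R.subgroupOf A) = Nat.card R :=
        Nat.card_congr (Subgroup.subgroupOfEquivOfLe hRA).toEquiv
      have hcT₀ : Nat.card ((T.map (MulAut.conj g⁻¹).toMonoidHom).subgroupOf A) = Nat.card R := by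
        rw [Nat.card_congr (Subgroup.subgroupOfEquivOfLe hT₀A).toEquiv, hT₀card, hcard]
      have e1 : R.subgroupOf A = (P₁ : Subgroup A) :=
        Subgroup.eq_of_le_of_card_ge hP₁ (by rw [hcR]; exact hcP P₁)
      have e2 : (T.map (MulAut.conj g⁻¹).toMonoidHom).subgroupOf A = (P₂ : Subgroup A) :=
        Subgroup.eq_of_le_of_card_ge hP₂ (by rw [hcT₀]; exact hcP P₂)
      exact ⟨(Subgroup.subgroupOfEquivOfLe hRA).symm.trans ((MulEquiv.subgroupCongr e1).trans
        ((Sylow.equiv P₁ P₂).trans ((MulEquiv.subgroupCongr e2.symm).trans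
          ((Subgroup.subgroupOfEquivOfLe hT₀A).trans
            (T.equivMapOfInjective (MulAut.conj g⁻¹).toMonoidHom
              (MulAut.conj g⁻¹).injective).symm))))⟩
  · -- Case 2: N_S(T) < S
    have hne : S ⊓ Subgroup.normalizer (T : Set G) ≠ S := fun h => hU (inf_eq_left.mp h)
    obtain ⟨x, hxS, hxU, hxN⟩ := Cfsg.Agent.Lib.Helper90.exists_normalizing_not_mem 2 S
      (S ⊓ Subgroup.normalizer (T : Set G)) hS2 inf_le_left hne
    have hxT : x ∉ Subgroup.normalizer (T : Set G) := fun h => hxU (Subgroup.mem_inf.mpr ⟨hxS, h⟩)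
    have hconjU : ∀ t ∈ T, x * t * x⁻¹ ∈ T ⊔ R := by
      intro t ht
      rw [f5]
      exact (Subgroup.mem_normalizer_iff.mp hxN t).mp (Subgroup.mem_inf.mpr ⟨hTS ht, Subgroup.le_normalizer ht⟩)
    have hxNA : x ∈ Subgroup.normalizer (A : Set G) :=
      (sup_le Subgroup.le_normalizer hTNA) (hS hxS)
    have hTx : ∀ t ∈ T, x * t * x⁻¹ ∈ T → t = 1 := by
      intro t ht hxt
      by_cases hxB : x ∈ Subgroup.normalizer (B : Set G)
      · exfalso
        apply hxT
        apply mem_normalizer_of_conj_mem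
        have hle : T.map (MulAut.conj x).toMonoidHom ≤ S ⊓ Subgroup.normalizer (T : Set G) := by
          rintro _ ⟨s, hs, rfl⟩
          have := hconjU s hs
          rw [f5] at this
          simpa [MulAut.conj_apply] using this
        have h1 : T ⊔ T.map (MulAut.conj x).toMonoidHom ≤ B ⊓ Subgroup.normalizer (A : Set G) := by
          apply sup_le hT
          rintro _ ⟨s, hs, rfl⟩
          rw [Subgroup.mem_inf]
          constructor
          · have := (Subgroup.mem_normalizer_iff.mp hxB s).mp (hTB hs)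
            simpa [MulAut.conj_apply] using this
          · have : x * s * x⁻¹ ∈ Subgroup.normalizer (A : Set G) :=
              Subgroup.mul_mem _ (Subgroup.mul_mem _ hxNA (hTNA hs)) (Subgroup.inv_mem _ hxNA)
            simpa [MulAut.conj_apply] using this
        have h2 : IsPGroup 2 (T ⊔ T.map (MulAut.conj x).toMonoidHom : Subgroup G) :=
          hS2.to_le (sup_le hTS (hle.trans inf_le_left))
        have h3 := hTmax _ h1 h2 le_sup_left
        intro s hs
        have h4 : x * s * x⁻¹ ∈ T ⊔ T.map (MulAut.conj x).toMonoidHom :=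
          Subgroup.mem_sup_right ⟨s, hs, by simp [MulAut.conj_apply]⟩
        rw [h3] at h4
        exact h4
      · exact hB x hxB t (hTB ht) (hTB hxt) (htwo hT2 t ht)
    have hcomm : ∀ a ∈ T, ∀ b ∈ R, a * b = b * a := f4
    have hdec : ∀ t : T, ∃ r : R, ∃ t' ∈ T, x * (t : G) * x⁻¹ = t' * (r : G) := by
      intro t
      have h1 := hconjU t.1 t.2
      have hn : R ≤ Subgroup.normalizer (T : Set G) := hRN
      obtain ⟨t', ht', r, hr, he⟩ := exists_mul_of_mem_sup_of_le_normalizer hn h1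
      exact ⟨⟨r, hr⟩, t', ht', he⟩
    let ψf : T → R := fun t => Classical.choose (hdec t)
    have hψ : ∀ t : T, ∃ t' ∈ T, x * (t : G) * x⁻¹ = t' * ((ψf t : R) : G) :=
      fun t => Classical.choose_spec (hdec t)
    have hmul : ∀ a b : T, ψf (a * b) = ψf a * ψf b := by
      intro a b
      obtain ⟨ta, hta, hea⟩ := hψ a
      obtain ⟨tb, htb, heb⟩ := hψ b
      obtain ⟨tc, htc, hec⟩ := hψ (a * b)
      apply Subtype.ext
      have h1 : x * ((a * b : T) : G) * x⁻¹ = (ta * tb) * (((ψf a : R) : G) * ((ψf b : R) : G)) := by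
        have h2 : x * ((a * b : T) : G) * x⁻¹ = (x * (a : G) * x⁻¹) * (x * (b : G) * x⁻¹) := by
          simp [mul_assoc]
        rw [h2, hea, heb]
        have h3 := hcomm tb htb _ (ψf a).2
        calc ta * ((ψf a : R) : G) * (tb * ((ψf b : R) : G))
            = ta * (((ψf a : R) : G) * tb) * ((ψf b : R) : G) := by simp only [mul_assoc]
          _ = ta * (tb * ((ψf a : R) : G)) * ((ψf b : R) : G) := by rw [h3]
          _ = ta * tb * (((ψf a : R) : G) * ((ψf b : R) : G)) := by simp only [mul_assoc]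
      rw [hec] at h1
      exact eq_of_mul_eq_mul_of_inf_eq_bot hTR htc (T.mul_mem hta htb) (ψf (a * b)).2
        (R.mul_mem (ψf a).2 (ψf b).2) h1
    let ψ : T →* R := MonoidHom.mk' ψf hmul
    have hinj : Function.Injective ψ := by
      rw [injective_iff_map_eq_one]
      intro a ha
      obtain ⟨ta, hta, hea⟩ := hψ a
      have h1 : ((ψf a : R) : G) = 1 := by
        have : ψf a = 1 := ha
        rw [this]; rfl
      rw [h1, mul_one] at hea
      have h2 := hTx a.1 a.2 (by rw [hea]; exact hta)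
      exact Subtype.ext h2
    refine ⟨Nat.card_le_card_of_injective ψ hinj, ?_⟩
    intro hcard
    have hbij : Function.Bijective ψ :=
      (Nat.bijective_iff_injective_and_card ψ).mpr ⟨hinj, hcard⟩
    exact ⟨(MulEquiv.ofBijective ψ hbij).symm⟩

end Cfsg.Agent.Lib.Helper32
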