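import Mathlib
import Cfsg.Agent.Lib.Helper32.TBCore

/-!
# A free Jordan block from Theorem B, for non-Fermat-type primes (helper32)

* `free_block_of_nonfermat`: let `p` be an odd prime with `p - 1` not a power of `2`, let `x`
  normalize a `q`-subgroup `Q` (`q ≠ p`) of `K`, and let `ρ₀` be a representation of `K` over
  `𝔽_p` in which `x ^ p` centralizes the image of `Q` but `x` does not. Then the norm
  `1 + x + ⋯ + x^(p-1)` does not vanish on the module.
-/

set_option autoImplicit false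

namespace Cfsg.Agent.Lib.Helper32

open Module

theorem free_block_of_nonfermat {p q : ℕ} [Fact p.Prime] [Fact q.Prime] (hpq : p ≠ q)
    (hp2 : p ≠ 2) (hnf : ¬ ∃ k : ℕ, p = 2 ^ k + 1)
    {K : Type*} [Group K] [Finite K] {V : Type*} [AddCommGroup V] [Module (ZMod p) V]
    [Module.Finite (ZMod p) V]
    (ρ₀ : Representation (ZMod p) K V) (Q : Subgroup K) (x : K) (hQ : IsPGroup q Q)
    (hQx : ∀ a ∈ Q, x * a * x⁻¹ ∈ Q)
    (hxp : ∀ a ∈ Q, ρ₀ (x ^ p * a) = ρ₀ (a * x ^ p))
    (hx1 : ∃ a ∈ Q, ρ₀ (x * a) ≠ ρ₀ (a * x)) :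
    ∃ w : V, ∑ i ∈ Finset.range p, ((ρ₀ x) ^ i) w ≠ 0 := by
  classical
  have hpp : p.Prime := Fact.out
  have hqq : q.Prime := Fact.out
  by_contra hcon
  push Not at hcon
  have hsum0 : ∑ i ∈ Finset.range p, (ρ₀ x) ^ i = 0 := by
    apply LinearMap.ext
    intro w
    rw [LinearMap.sum_apply]
    exact hcon w
  rcases subsingleton_or_nontrivial V with hV | hV
  · obtain ⟨a, _, hne⟩ := hx1
    apply hne
    apply LinearMap.ext
    intro w
    exact Subsingleton.elim _ _
  have hbc : Function.Injective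
      (Module.End.baseChangeHom (ZMod p) (AlgebraicClosure (ZMod p)) V) :=
    LinearMap.baseChangeHom_injective (ZMod p) V (AlgebraicClosure (ZMod p))
  let ρ : Representation (AlgebraicClosure (ZMod p)) K
      (TensorProduct (ZMod p) (AlgebraicClosure (ZMod p)) V) :=
    ((Module.End.baseChangeHom (ZMod p) (AlgebraicClosure (ZMod p)) V :
      Module.End (ZMod p) V →ₐ[ZMod p] _) : Module.End (ZMod p) V →* _).comp ρ₀
  have hρapp : ∀ g : K, ρ g =
      Module.End.baseChangeHom (ZMod p) (AlgebraicClosure (ZMod p)) V (ρ₀ g) := fun g => rfl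
  have hfpos : 0 < finrank (AlgebraicClosure (ZMod p))
      (TensorProduct (ZMod p) (AlgebraicClosure (ZMod p)) V) := by
    rw [Module.finrank_baseChange]
    exact Module.finrank_pos
  haveI : Nontrivial (TensorProduct (ZMod p) (AlgebraicClosure (ZMod p)) V) :=
    Module.finrank_pos_iff.1 hfpos
  have hρr : (ρ x - 1) ^ (p - 1) = 0 := by
    have h1 := geom_sum_end_eq (F := AlgebraicClosure (ZMod p)) p (ρ x) 1
    rw [pow_one] at h1
    rw [← h1, hρapp]
    have h2 : ∑ i ∈ Finset.range p,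
        (Module.End.baseChangeHom (ZMod p) (AlgebraicClosure (ZMod p)) V (ρ₀ x)) ^ i =
        Module.End.baseChangeHom (ZMod p) (AlgebraicClosure (ZMod p)) V
          (∑ i ∈ Finset.range p, (ρ₀ x) ^ i) := by
      rw [map_sum]
      apply Finset.sum_congr rfl
      intro i _
      rw [map_pow]
    rw [h2, hsum0, map_zero]
  have key := tb_flex (AlgebraicClosure (ZMod p)) p q hpq
    (Nat.card Q + finrank (AlgebraicClosure (ZMod p))
      (TensorProduct (ZMod p) (AlgebraicClosure (ZMod p)) V))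
    Q x ρ 1 (p - 1) hQ hQx
    (fun a ha => by
      rw [pow_one, hρapp, hρapp, hxp a ha])
    (fun _ => by
      obtain ⟨a, ha, hne⟩ := hx1
      refine ⟨a, ha, ?_⟩
      rw [Nat.sub_self, pow_zero, pow_one]
      intro h
      exact hne (hbc h))
    hρr le_rfl
  have hp1 : 1 < p := hpp.one_lt
  rcases key with h1 | ⟨n₀, m, h1, h2, h3, h4, _, _⟩
  · rw [pow_one] at h1
    omega
  · have hn₀ : n₀ = 1 := by omega
    subst hn₀
    rw [pow_one] at h4
    apply hnf
    have hodd : ¬ 2 ∣ p := by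
      intro h
      have := (Nat.prime_dvd_prime_iff_eq Nat.prime_two hpp).1 h
      exact hp2 this.symm
    have h2q : 2 ∣ q ^ m := by
      rw [← h4]
      omega
    have hq2 : q = 2 := by
      have := Nat.Prime.dvd_of_dvd_pow Nat.prime_two h2q
      exact ((Nat.prime_dvd_prime_iff_eq Nat.prime_two hqq).1 this).symm
    refine ⟨m, ?_⟩
    rw [hq2] at h4
    omega

end Cfsg.Agent.Lib.Helper32
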