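import Mathlib
import Cfsg.Agent.Lib.Helper32.PL1Free
import Cfsg.Agent.Lib.Helper50.FrattiniRep
import Cfsg.Agent.Lib.Helper87.PGroupFrattini

/-!
# The action on the Frattini quotient of a normal `p`-subgroup, and a non-vanishing norm
(helper32)

* `exists_norm_not_mem_of_nonfermat`: let `R` be a normal `p`-subgroup of `H` (`p` odd, `p - 1`
  not a power of `2`), `x ∈ H` with `x ^ p ∈ R`, normalizing a `q`-subgroup `Q` (`q ≠ p`), and
  `s ∈ Q` with `[x, s]` acting non-trivially on `R / Φ(R)`. Then, after replacing `x` by `u * x`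
  for a suitable `u ∈ R`, some `v ∈ R` has "norm" `(v * x) ^ p * (x ^ p)⁻¹` outside
  `Φ(R) ⟨x ^ p⟩`.
-/

set_option autoImplicit false

namespace Cfsg.Agent.Lib.Helper32

/-- An automorphism of a commutative group as an endomorphism of its additive version. -/
def mulAutToEnd (p : ℕ) (Q : Type*) [CommGroup Q] [Module (ZMod p) (Additive Q)] :
    MulAut Q →* Module.End (ZMod p) (Additive Q) where
  toFun e := (MonoidHom.toAdditive e.toMonoidHom).toZModLinearMap p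
  map_one' := by
    apply LinearMap.ext
    intro v
    rfl
  map_mul' := by
    intro e f
    apply LinearMap.ext
    intro v
    rfl

theorem mulAutToEnd_apply (p : ℕ) (Q : Type*) [CommGroup Q] [Module (ZMod p) (Additive Q)]
    (e : MulAut Q) (a : Q) :
    mulAutToEnd p Q e (Additive.ofMul a) = Additive.ofMul (e a) := rfl

theorem mulAutToEnd_eq_one (p : ℕ) (Q : Type*) [CommGroup Q] [Module (ZMod p) (Additive Q)]
    (e : MulAut Q) (h : mulAutToEnd p Q e = 1) : e = 1 := by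
  apply MulEquiv.ext
  intro a
  have h1 := congrArg (fun f : Module.End (ZMod p) (Additive Q) => f (Additive.ofMul a)) h
  exact Additive.ofMul.injective h1

theorem frat_isMulCommutative {p : ℕ} [Fact p.Prime] {R : Type*} [Group R] [Finite R]
    (hR : IsPGroup p R) : IsMulCommutative (R ⧸ frattini R) := ⟨⟨by
  intro a b
  induction a using QuotientGroup.induction_on with
  | H a =>
    induction b using QuotientGroup.induction_on with
    | H b =>
      rw [← QuotientGroup.mk_mul, ← QuotientGroup.mk_mul, QuotientGroup.eq]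
      have h1 := Cfsg.Agent.Lib.Helper87.comm_mem_frattini hR b⁻¹ a⁻¹
      have h2 : (a * b)⁻¹ * (b * a) = b⁻¹ * a⁻¹ * b⁻¹⁻¹ * a⁻¹⁻¹ := by group
      rw [h2]
      exact h1⟩⟩

/-- The commutative group structure on the Frattini quotient of a finite `p`-group. -/
@[reducible] def fratCommGroup {p : ℕ} [Fact p.Prime] {R : Type*} [Group R] [Finite R]
    (hR : IsPGroup p R) : CommGroup (R ⧸ frattini R) :=
  { (inferInstance : Group (R ⧸ frattini R)) with
    mul_comm := (frat_isMulCommutative hR).is_comm.comm }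

theorem frat_pow {p : ℕ} [Fact p.Prime] {R : Type*} [Group R] [Finite R]
    (hR : IsPGroup p R) (a : R ⧸ frattini R) : a ^ p = 1 := by
  induction a using QuotientGroup.induction_on with
  | H a =>
    rw [← QuotientGroup.mk_pow, QuotientGroup.eq_one_iff]
    exact Cfsg.Agent.Lib.Helper87.pow_p_mem_frattini hR a

theorem exists_norm_not_mem_of_nonfermat {p q : ℕ} [Fact p.Prime] [Fact q.Prime] (hpq : p ≠ q)
    (hp2 : p ≠ 2) (hnf : ¬ ∃ k : ℕ, p = 2 ^ k + 1)
    {H : Type*} [Group H] [Finite H] (R : Subgroup H) [hRn : R.Normal] (hRp : IsPGroup p R)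
    (Q : Subgroup H) (hQ : IsPGroup q Q) (x : H) (hxp : x ^ p ∈ R)
    (hQx : ∀ a ∈ Q, x * a * x⁻¹ ∈ Q) (s : H) (hs : s ∈ Q)
    (hact : ¬ ∀ k ∈ R, (x * s * x⁻¹ * s⁻¹) * k * (x * s * x⁻¹ * s⁻¹)⁻¹ * k⁻¹ ∈
      (frattini ↥R).map R.subtype) :
    ∃ u ∈ R, ∃ v ∈ R, (v * (u * x)) ^ p * ((u * x) ^ p)⁻¹ ∉
      (frattini ↥R).map R.subtype ⊔ Subgroup.zpowers ((u * x) ^ p) := by
  classical
  have hp : p.Prime := Fact.out
  have hne : NeZero p := ⟨hp.ne_zero⟩
  letI cg : CommGroup (↥R ⧸ frattini ↥R) := fratCommGroup hRp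
  have hexpV : ∀ v : Additive (↥R ⧸ frattini ↥R), p • v = 0 := by
    intro v
    show Additive.ofMul ((Additive.toMul v) ^ p) = 0
    rw [frat_pow hRp]
    rfl
  letI hmod : Module (ZMod p) (Additive (↥R ⧸ frattini ↥R)) :=
    AddCommGroup.zmodModule (n := p) hexpV
  have hΦn : ((frattini ↥R).map R.subtype).Normal := ConjAct.normal_of_characteristic_of_normal
  let act : H →* MulAut (↥R ⧸ frattini ↥R) :=
    (Cfsg.Agent.Lib.Helper50.fr_autQuot (frattini ↥R)).comp (MulAut.conjNormal (H := R))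
  let ρ₀ : H →* Module.End (ZMod p) (Additive (↥R ⧸ frattini ↥R)) :=
    (mulAutToEnd p (↥R ⧸ frattini ↥R)).comp act
  have hρ₀mk : ∀ (g : H) (r : ↥R), ρ₀ g (Additive.ofMul (QuotientGroup.mk r)) =
      Additive.ofMul (QuotientGroup.mk (MulAut.conjNormal g r)) := fun _ _ => rfl
  have hρ₀one : ∀ g : H, (∀ k ∈ R, g * k * g⁻¹ * k⁻¹ ∈ (frattini ↥R).map R.subtype) ↔
      ρ₀ g = 1 := by
    intro g
    rw [← Cfsg.Agent.Lib.Helper50.fr_mem_ker_iff]
    constructor
    · intro h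
      show mulAutToEnd p (↥R ⧸ frattini ↥R) (act g) = 1
      have h' : act g = 1 := h
      rw [h', map_one]
    · intro h
      exact mulAutToEnd_eq_one p _ _ h
  have hR1 : ∀ r ∈ R, ρ₀ r = 1 := by
    intro r hr
    rw [← hρ₀one]
    intro k hk
    have h1 := Cfsg.Agent.Lib.Helper87.comm_mem_frattini hRp (⟨r, hr⟩ : ↥R) ⟨k, hk⟩
    have h2 := Subgroup.mem_map_of_mem R.subtype h1
    exact h2
  have hmem : ∀ P : ↥R, (P : H) ∈ (frattini ↥R).map R.subtype ↔
      Additive.ofMul (QuotientGroup.mk P : ↥R ⧸ frattini ↥R) = 0 := by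
    intro P
    have h1 : (P : H) ∈ (frattini ↥R).map R.subtype ↔ P ∈ frattini ↥R :=
      Subgroup.mem_map_iff_mem R.subtype_injective (x := P)
    rw [h1, ← QuotientGroup.eq_one_iff]
    rfl
  -- the norm formula
  have hnp : ∀ (g : H) (u : ↥R) (m : ℕ), ∃ P : ↥R, ((u : H) * g) ^ m = (P : H) * g ^ m ∧
      Additive.ofMul (QuotientGroup.mk P : ↥R ⧸ frattini ↥R) =
        ∑ i ∈ Finset.range m, ((ρ₀ g) ^ i) (Additive.ofMul (QuotientGroup.mk u)) := by
    intro g u m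
    induction m with
    | zero =>
      refine ⟨1, by simp, ?_⟩
      rw [Finset.sum_range_zero]
      rfl
    | succ m ih =>
      obtain ⟨P, h1, h2⟩ := ih
      refine ⟨P * MulAut.conjNormal (g ^ m) u, ?_, ?_⟩
      · rw [pow_succ, h1, Subgroup.coe_mul, MulAut.conjNormal_apply, pow_succ]
        group
      · rw [Finset.sum_range_succ, ← h2, ← map_pow, hρ₀mk]
        rfl
  -- apply Theorem B
  have hxp' : ∀ a ∈ Q, ρ₀ (x ^ p * a) = ρ₀ (a * x ^ p) := by
    intro a _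
    rw [map_mul, map_mul, hR1 _ hxp, one_mul, mul_one]
  have hx1 : ∃ a ∈ Q, ρ₀ (x * a) ≠ ρ₀ (a * x) := by
    refine ⟨s, hs, ?_⟩
    intro h
    apply hact
    rw [hρ₀one]
    have h1 : x * s * x⁻¹ * s⁻¹ = (x * s) * (s * x)⁻¹ := by group
    rw [h1, map_mul, h, ← map_mul, mul_inv_cancel, map_one]
  obtain ⟨w, hw⟩ := free_block_of_nonfermat hpq hp2 hnf ρ₀ Q x hQ hQx hxp' hx1
  obtain ⟨v, hv⟩ := QuotientGroup.mk_surjective (Additive.toMul w)
  have hwv : w = Additive.ofMul (QuotientGroup.mk v : ↥R ⧸ frattini ↥R) := by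
    rw [hv]; rfl
  rw [hwv] at hw
  obtain ⟨P, hP1, hP2⟩ := hnp x v p
  have hPne : Additive.ofMul (QuotientGroup.mk P : ↥R ⧸ frattini ↥R) ≠ 0 := by
    rw [hP2]; exact hw
  have hPeq : ((v : H) * x) ^ p * (x ^ p)⁻¹ = (P : H) := by
    rw [hP1, mul_inv_cancel_right]
  by_cases hcase : ((v : H) * x) ^ p * (x ^ p)⁻¹ ∈
      (frattini ↥R).map R.subtype ⊔ Subgroup.zpowers (x ^ p)
  swap
  · refine ⟨1, R.one_mem, v, v.2, ?_⟩
    rw [one_mul]
    exact hcase
  -- the case where the norm is a power of `x ^ p` modulo the Frattini subgroup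
  rw [hPeq] at hcase
  obtain ⟨y, hy, z, hz, hyz⟩ := Subgroup.mem_sup_of_normal_left.1 hcase
  obtain ⟨j, rfl⟩ := Subgroup.mem_zpowers_iff.1 hz
  have hyR : y ∈ R := Subgroup.map_subtype_le _ hy
  set c : ↥R := ⟨x ^ p, hxp⟩ with hc
  have hPc : P = ⟨y, hyR⟩ * c ^ j := by
    apply Subtype.ext
    rw [Subgroup.coe_mul, Subgroup.coe_zpow]
    exact hyz.symm
  have hy0 : Additive.ofMul (QuotientGroup.mk (⟨y, hyR⟩ : ↥R) : ↥R ⧸ frattini ↥R) = 0 :=
    (hmem ⟨y, hyR⟩).1 hy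
  set cb : Additive (↥R ⧸ frattini ↥R) := Additive.ofMul (QuotientGroup.mk c) with hcb
  have hPj : Additive.ofMul (QuotientGroup.mk P : ↥R ⧸ frattini ↥R) = ((j : ℤ) : ZMod p) • cb := by
    rw [Int.cast_smul_eq_zsmul, hPc]
    have h1 : Additive.ofMul (QuotientGroup.mk ((⟨y, hyR⟩ : ↥R) * c ^ j) : ↥R ⧸ frattini ↥R) =
        Additive.ofMul (QuotientGroup.mk (⟨y, hyR⟩ : ↥R) : ↥R ⧸ frattini ↥R) + j • cb := rfl
    rw [h1, hy0, zero_add]
  have ha0 : ((j : ℤ) : ZMod p) ≠ 0 := by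
    intro h0
    apply hPne
    rw [hPj, h0, zero_smul]
  -- the modified element
  set a : ZMod p := ((j : ℤ) : ZMod p) with ha
  set k : ℕ := (-a⁻¹).val with hk
  have hkcast : ((k : ℕ) : ZMod p) = -a⁻¹ := ZMod.natCast_zmod_val _
  obtain ⟨Pu, hPu1, hPu2⟩ := hnp x (v ^ k) p
  have hPu : Additive.ofMul (QuotientGroup.mk Pu : ↥R ⧸ frattini ↥R) = -cb := by
    rw [hPu2]
    have h1 : Additive.ofMul (QuotientGroup.mk (v ^ k) : ↥R ⧸ frattini ↥R) =
        k • Additive.ofMul (QuotientGroup.mk v : ↥R ⧸ frattini ↥R) := rfl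
    have h2 : ∑ i ∈ Finset.range p, ((ρ₀ x) ^ i)
        (k • Additive.ofMul (QuotientGroup.mk v : ↥R ⧸ frattini ↥R)) =
        k • ∑ i ∈ Finset.range p, ((ρ₀ x) ^ i)
          (Additive.ofMul (QuotientGroup.mk v : ↥R ⧸ frattini ↥R)) := by
      rw [Finset.smul_sum]
      apply Finset.sum_congr rfl
      intro i _
      rw [map_nsmul]
    rw [h1, h2, ← hP2, hPj, ← Nat.cast_smul_eq_nsmul (ZMod p), hkcast, smul_smul,
      neg_mul, inv_mul_cancel₀ ha0, neg_smul, one_smul]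
  have hx1p : ((v ^ k : ↥R) : H) * x = ((v ^ k : ↥R) : H) * x := rfl
  have hx₁Φ : (((v ^ k : ↥R) : H) * x) ^ p ∈ (frattini ↥R).map R.subtype := by
    rw [hPu1]
    have h1 : (Pu : H) * x ^ p = ((Pu * c : ↥R) : H) := rfl
    rw [h1, hmem]
    have h2 : Additive.ofMul (QuotientGroup.mk (Pu * c) : ↥R ⧸ frattini ↥R) =
        Additive.ofMul (QuotientGroup.mk Pu : ↥R ⧸ frattini ↥R) + cb := rfl
    rw [h2, hPu, neg_add_cancel]
  have hρx₁ : ρ₀ (((v ^ k : ↥R) : H) * x) = ρ₀ x := by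
    rw [map_mul, hR1 _ (v ^ k).2, one_mul]
  obtain ⟨P₁, hP₁1, hP₁2⟩ := hnp (((v ^ k : ↥R) : H) * x) v p
  refine ⟨((v ^ k : ↥R) : H), (v ^ k).2, v, v.2, ?_⟩
  rw [sup_eq_left.2 ((Subgroup.zpowers_le).2 hx₁Φ), hP₁1, mul_inv_cancel_right, hmem, hP₁2,
    hρx₁]
  exact hw

end Cfsg.Agent.Lib.Helper32
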