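import Mathlib
import Cfsg.Agent.Lib.Helper32.SqfMin
import Cfsg.Agent.Lib.Helper1.FittingPrimary

/-!
# Squarefree class sizes: the quotient by the Fitting subgroup

* `coprime_centralizes_or_comm`: a `q'`-element centralizes `O_q(G)` unless `O_q(G)` is abelian.
* `mem_fitting_of_centralizes`: an `r`-element centralizing all `O_q(G)`, `q ≠ r`, lies in `F(G)`
  (when `G' ≤ F(G)`).
* `exists_reg_vector`: a "regular vector" in an abelian `O_q(G)`.
* `sf_index_fitting_squarefree`, `sf_quotient_fitting_cyclic`.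
-/

set_option autoImplicit false

namespace Cfsg.Agent.Lib.Helper32.Sqf

open scoped commutatorElement

universe u

theorem mem_zpowers_pow_coprime {A : Type*} [Group A] [Finite A] (x : A) (m : ℕ)
    (h : (orderOf x).Coprime m) : x ∈ Subgroup.zpowers (x ^ m) := by
  have h1 : Subgroup.zpowers (x ^ m) = Subgroup.zpowers x := by
    apply Subgroup.eq_of_le_of_card_ge
    · rw [Subgroup.zpowers_le]
      exact Subgroup.pow_mem _ (Subgroup.mem_zpowers _) _
    · rw [Nat.card_zpowers, Nat.card_zpowers, Nat.Coprime.orderOf_pow h]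
  rw [h1]
  exact Subgroup.mem_zpowers _

/-- An element commuting with a product of commuting elements of coprime orders commutes with
both factors. -/
theorem commute_of_commute_mul {G : Type*} [Group G] [Finite G] (g y z : G)
    (hgy : g * y = y * g) (hcop : (orderOf g).Coprime (orderOf y))
    (hz : z * (g * y) = (g * y) * z) : z * g = g * z ∧ z * y = y * z := by
  have hc : Commute g y := hgy
  have hzc : Commute z (g * y) := hz
  constructor
  · have h1 : (g * y) ^ orderOf y = g ^ orderOf y := by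
      rw [hc.mul_pow, pow_orderOf_eq_one, mul_one]
    have h2 : Commute z (g ^ orderOf y) := h1 ▸ hzc.pow_right _
    obtain ⟨k, hk⟩ := Subgroup.mem_zpowers_iff.1 (mem_zpowers_pow_coprime g _ hcop)
    have h3 : Commute z g := hk ▸ h2.zpow_right k
    exact h3
  · have h1 : (g * y) ^ orderOf g = y ^ orderOf g := by
      rw [hc.mul_pow, pow_orderOf_eq_one, one_mul]
    have h2 : Commute z (y ^ orderOf g) := h1 ▸ hzc.pow_right _
    obtain ⟨k, hk⟩ := Subgroup.mem_zpowers_iff.1 (mem_zpowers_pow_coprime y _ hcop.symm)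
    have h3 : Commute z y := hk ▸ h2.zpow_right k
    exact h3

theorem comm_mem_commutator {G : Type*} [Group G] (x y : G) : ⁅x, y⁆ ∈ commutator G := by
  rw [commutator_def]
  exact Subgroup.commutator_mem_commutator (Subgroup.mem_top x) (Subgroup.mem_top y)

theorem pCore_commute_of_ne {G : Type*} [Group G] {q r : ℕ} [Fact q.Prime] [Fact r.Prime]
    (hqr : q ≠ r) (a b : G) (ha : a ∈ Cfsg.pCore q G) (hb : b ∈ Cfsg.pCore r G) :
    a * b = b * a :=
  Subgroup.commute_of_normal_of_disjoint _ _ inferInstance inferInstance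
    (IsPGroup.disjoint_of_ne q r hqr _ _ (Cfsg.Agent.Lib.Helper55.pCore_isPGroup q G)
      (Cfsg.Agent.Lib.Helper55.pCore_isPGroup r G)) a b ha hb

theorem pCore_le_fitting {G : Type*} [Group G] [Finite G] (q : ℕ) [Fact q.Prime] :
    Cfsg.pCore q G ≤ Cfsg.fittingSubgroup G :=
  Cfsg.Agent.Lib.Helper71.le_fittingSubgroup _
    (Cfsg.Agent.Lib.Helper55.pCore_isPGroup q G).isNilpotent

theorem pCore_pow_eq_one {G : Type*} [Group G] (q : ℕ) [Fact q.Prime] (a : G)
    (ha : a ∈ Cfsg.pCore q G) : ∃ k : ℕ, a ^ q ^ k = 1 := by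
  obtain ⟨k, hk⟩ := (Cfsg.Agent.Lib.Helper55.pCore_isPGroup q G) ⟨a, ha⟩
  exact ⟨k, by simpa using congrArg Subtype.val hk⟩

theorem pCore_card {G : Type*} [Group G] [Finite G] (q : ℕ) [Fact q.Prime] :
    ∃ k, Nat.card (Cfsg.pCore q G) = q ^ k :=
  IsPGroup.iff_card.1 (Cfsg.Agent.Lib.Helper55.pCore_isPGroup q G)

/-- An `r`-element centralizing every `O_q(G)`, `q ≠ r`, lies in `F(G)` when `G' ≤ F(G)`. -/
theorem mem_fitting_of_centralizes {G : Type*} [Group G] [Finite G]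
    (hGF : commutator G ≤ Cfsg.fittingSubgroup G) {r : ℕ} [Fact r.Prime] (c : G) (b : ℕ)
    (hc : c ^ r ^ b = 1)
    (hcent : ∀ q : ℕ, q.Prime → q ≠ r → c ∈ Subgroup.centralizer (Cfsg.pCore q G : Set G)) :
    c ∈ Cfsg.fittingSubgroup G := by
  have hcomm : ∀ x : G, ⁅x, c⁆ ∈ Cfsg.pCore r G := fun x =>
    Cfsg.Agent.Lib.Helper1.commutator_mem_pCore_of_fitting x c b hc hcent
      (hGF (comm_mem_commutator x c))
  obtain ⟨π, hπ⟩ : ∃ π : G →* G ⧸ Cfsg.pCore r G, π = QuotientGroup.mk' _ := ⟨_, rfl⟩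
  have hπs : Function.Surjective π := by rw [hπ]; exact QuotientGroup.mk'_surjective _
  have hcen : π c ∈ Subgroup.center (G ⧸ Cfsg.pCore r G) := by
    rw [Subgroup.mem_center_iff]
    intro y
    obtain ⟨x, rfl⟩ := hπs y
    have h1 : π ⁅x, c⁆ = 1 := by
      rw [hπ]; exact (QuotientGroup.eq_one_iff _).2 (hcomm x)
    rw [map_commutatorElement, commutatorElement_eq_one_iff_mul_comm] at h1
    exact h1
  have hn : (Subgroup.zpowers (π c)).Normal :=
    Cfsg.Agent.Lib.Helper9.normal_zpowers_of_mem_center hcen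
  have hN : ((Subgroup.zpowers (π c)).comap π).Normal := hn.comap π
  have hp : IsPGroup r ((Subgroup.zpowers (π c)).comap π) := by
    apply IsPGroup.comap_of_ker_isPGroup
    · rintro ⟨y, hy⟩
      refine ⟨b, ?_⟩
      obtain ⟨k, rfl⟩ := Subgroup.mem_zpowers_iff.1 hy
      apply Subtype.ext
      show (π c ^ k) ^ r ^ b = 1
      rw [← zpow_natCast, ← zpow_mul, mul_comm, zpow_mul, zpow_natCast, ← map_pow, hc, map_one,
        one_zpow]
    · rw [hπ, QuotientGroup.ker_mk']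
      exact Cfsg.Agent.Lib.Helper55.pCore_isPGroup r G
  have h1 : c ∈ (Subgroup.zpowers (π c)).comap π := Subgroup.mem_zpowers _
  exact pCore_le_fitting r (Cfsg.Agent.Lib.Helper55.le_pCore hN hp h1)

/-- A `q'`-element centralizes `O_q(G)` unless `O_q(G)` is abelian. -/
theorem coprime_centralizes_or_comm {G : Type*} [Group G] [Finite G] (hG : SF G) (q : ℕ)
    [Fact q.Prime] (g : G) (hg : (orderOf g).Coprime q) :
    g ∈ Subgroup.centralizer (Cfsg.pCore q G : Set G) ∨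
      (∀ a ∈ Cfsg.pCore q G, ∀ b ∈ Cfsg.pCore q G, a * b = b * a) := by
  have hq : q.Prime := Fact.out
  obtain ⟨Q, hQ⟩ : ∃ Q : Subgroup G, Q = Cfsg.pCore q G := ⟨_, rfl⟩
  rw [← hQ]
  have hQn : Q.Normal := by rw [hQ]; infer_instance
  obtain ⟨k, hk⟩ : ∃ k, Nat.card Q = q ^ k := by rw [hQ]; exact pCore_card q
  have hQpow : ∀ a ∈ Q, ∃ k : ℕ, a ^ q ^ k = 1 := by
    intro a ha; rw [hQ] at ha; exact pCore_pow_eq_one q a ha
  obtain P : Sylow q G := default
  have hQP : Q ≤ (P : Subgroup G) := by rw [hQ]; exact Cfsg.Agent.Lib.Helper55.pCore_le_sylow P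
  have hcen : ∀ a ∈ Q, ∀ e ∈ Q, ⁅a, e⁆ ∈ Subgroup.center G := fun a ha e he =>
    sf_comm_mem_center hG P a e (hQP ha) (hQP he)
  by_contra hcon
  obtain ⟨hgQ, hnab⟩ := not_or.1 hcon
  obtain ⟨C, hC⟩ : ∃ C : Subgroup G, C = Subgroup.centralizer ({g} : Set G) := ⟨_, rfl⟩
  have hCmem : ∀ z : G, z ∈ C ↔ z * g = g * z := by
    intro z; rw [hC, Subgroup.mem_centralizer_singleton_iff]
  have hrel : ∀ x : G, (Subgroup.centralizer ({x} : Set G)).relIndex Q ∣ q := fun x =>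
    dvd_prime_of_squarefree_of_dvd_pow hq (sf_relIndex hG Q x)
      (hk ▸ Subgroup.relIndex_dvd_card _ _)
  have hCrel : C.relIndex Q = q := by
    rcases (Nat.dvd_prime hq).1 (hC ▸ hrel g) with h | h
    · exfalso
      apply hgQ
      rw [Subgroup.relIndex_eq_one] at h
      rw [Subgroup.mem_centralizer_iff]
      intro a ha
      exact (hCmem a).1 (h ha)
    · exact h
  have hEcard : Nat.card Q = Nat.card (C ⊓ Q : Subgroup G) * q := by
    have := Cfsg.Agent.Lib.Helper1.card_eq_card_mul_relIndex (inf_le_right : C ⊓ Q ≤ Q)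
    rw [Subgroup.inf_relIndex_right, hCrel] at this
    exact this
  -- (i) `E = C ⊓ Q` is abelian
  have hEab : ∀ y ∈ C ⊓ Q, ∀ e ∈ C ⊓ Q, e * y = y * e := by
    intro y hy e he
    have hyg : y * g = g * y := (hCmem y).1 (Subgroup.mem_inf.1 hy).1
    have hyQ : y ∈ Q := (Subgroup.mem_inf.1 hy).2
    obtain ⟨j, hj⟩ := hQpow y hyQ
    have hcop : (orderOf g).Coprime (orderOf y) :=
      Nat.Coprime.coprime_dvd_right (orderOf_dvd_of_pow_eq_one hj) (Nat.Coprime.pow_right j hg)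
    obtain ⟨C', hC'⟩ : ∃ C' : Subgroup G, C' = Subgroup.centralizer ({g * y} : Set G) :=
      ⟨_, rfl⟩
    have hC'mem : ∀ z : G, z ∈ C' ↔ z * (g * y) = (g * y) * z := by
      intro z; rw [hC', Subgroup.mem_centralizer_singleton_iff]
    have hle : C' ⊓ Q ≤ C ⊓ Q := by
      intro z hz
      have hz1 := (hC'mem z).1 (Subgroup.mem_inf.1 hz).1
      have := (commute_of_commute_mul g y z hyg.symm hcop hz1).1
      exact Subgroup.mem_inf.2 ⟨(hCmem z).2 this, (Subgroup.mem_inf.1 hz).2⟩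
    have hcard : Nat.card (C ⊓ Q : Subgroup G) ≤ Nat.card (C' ⊓ Q : Subgroup G) := by
      have h1 := Cfsg.Agent.Lib.Helper1.card_eq_card_mul_relIndex (inf_le_right : C' ⊓ Q ≤ Q)
      rw [Subgroup.inf_relIndex_right] at h1
      have h2 : C'.relIndex Q ≤ q := Nat.le_of_dvd hq.pos (hC' ▸ hrel _)
      have h3 : Nat.card (C ⊓ Q : Subgroup G) * q ≤ Nat.card (C' ⊓ Q : Subgroup G) * q := by
        rw [← hEcard, h1]
        exact Nat.mul_le_mul_left _ h2
      exact Nat.le_of_mul_le_mul_right h3 hq.pos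
    have heq : C' ⊓ Q = C ⊓ Q := Subgroup.eq_of_le_of_card_ge hle hcard
    have he' : e ∈ C' ⊓ Q := heq ▸ he
    have he1 := (hC'mem e).1 (Subgroup.mem_inf.1 he').1
    exact (commute_of_commute_mul g y e hyg.symm hcop he1).2
  -- (iii) the elements `a⁻¹ * (g⁻¹ * a * g)` commute with `E`
  have hca : ∀ a ∈ Q, ∀ e ∈ C ⊓ Q,
      e * (a⁻¹ * (g⁻¹ * a * g)) = (a⁻¹ * (g⁻¹ * a * g)) * e := by
    intro a ha e he
    have heg : e * g = g * e := (hCmem e).1 (Subgroup.mem_inf.1 he).1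
    have heQ : e ∈ Q := (Subgroup.mem_inf.1 he).2
    have ht := hcen a⁻¹ (Q.inv_mem ha) e⁻¹ (Q.inv_mem heQ)
    rw [Subgroup.mem_center_iff] at ht
    obtain ⟨t, htdef⟩ : ∃ t : G, t = ⁅a⁻¹, e⁻¹⁆ := ⟨_, rfl⟩
    rw [← htdef] at ht
    have h1 : e⁻¹ * a * e = a * t := by rw [htdef, commutatorElement_def]; group
    have h2 : e⁻¹ * g * e = g := by
      calc e⁻¹ * g * e = e⁻¹ * (g * e) := by group
        _ = e⁻¹ * (e * g) := by rw [heg]
        _ = g := by group
    have h3 : e⁻¹ * (a⁻¹ * (g⁻¹ * a * g)) * e = a⁻¹ * (g⁻¹ * a * g) := by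
      calc e⁻¹ * (a⁻¹ * (g⁻¹ * a * g)) * e
          = (e⁻¹ * a * e)⁻¹ * ((e⁻¹ * g * e)⁻¹ * (e⁻¹ * a * e) * (e⁻¹ * g * e)) := by group
        _ = (a * t)⁻¹ * (g⁻¹ * (a * t) * g) := by rw [h1, h2]
        _ = t⁻¹ * ((a⁻¹ * g⁻¹ * a) * (t * g)) := by group
        _ = t⁻¹ * ((a⁻¹ * g⁻¹ * a) * (g * t)) := by rw [← ht g]
        _ = t⁻¹ * ((a⁻¹ * g⁻¹ * a * g) * t) := by group
        _ = t⁻¹ * (t * (a⁻¹ * g⁻¹ * a * g)) := by rw [ht (a⁻¹ * g⁻¹ * a * g)]
        _ = a⁻¹ * (g⁻¹ * a * g) := by group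
    calc e * (a⁻¹ * (g⁻¹ * a * g)) = e * (e⁻¹ * (a⁻¹ * (g⁻¹ * a * g)) * e) := by rw [h3]
      _ = (a⁻¹ * (g⁻¹ * a * g)) * e := by group
  have hcQ' : ∀ a ∈ Q, a⁻¹ * (g⁻¹ * a * g) ∈ Q := by
    intro a ha
    refine Q.mul_mem (Q.inv_mem ha) ?_
    have := hQn.conj_mem a ha g⁻¹
    simpa using this
  by_cases hex : ∃ a ∈ Q, (a⁻¹ * (g⁻¹ * a * g)) ∉ C
  · obtain ⟨a, ha, hc⟩ := hex
    obtain ⟨c, hcdef⟩ : ∃ c : G, c = a⁻¹ * (g⁻¹ * a * g) := ⟨_, rfl⟩
    rw [← hcdef] at hc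
    have hcQ : c ∈ Q := hcdef ▸ hcQ' a ha
    have hcE : ∀ e ∈ C ⊓ Q, e * c = c * e := fun e he => hcdef ▸ hca a ha e he
    obtain ⟨K, hK⟩ : ∃ K : Subgroup G, K = (C ⊓ Q) ⊔ Subgroup.zpowers c := ⟨_, rfl⟩
    have hKQ : K ≤ Q := hK ▸ sup_le inf_le_right (Subgroup.zpowers_le.2 hcQ)
    have hEK : C ⊓ Q ≤ K := hK ▸ le_sup_left
    have hcK : c ∈ K := by
      rw [hK]
      exact (le_sup_right : Subgroup.zpowers c ≤ _) (Subgroup.mem_zpowers c)
    have hQK : Q ≤ K := by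
      have h1 := Subgroup.relIndex_mul_relIndex (C ⊓ Q) K Q hEK hKQ
      have h2 : (C ⊓ Q).relIndex Q = q := by rw [Subgroup.inf_relIndex_right, hCrel]
      rw [h2] at h1
      rcases (Nat.dvd_prime hq).1 (Dvd.intro _ h1) with h3 | h3
      · exfalso
        apply hc
        have : K ≤ C ⊓ Q := Subgroup.relIndex_eq_one.1 h3
        exact (Subgroup.mem_inf.1 (this hcK)).1
      · rw [h3] at h1
        have h4 : K.relIndex Q = 1 :=
          Nat.eq_of_mul_eq_mul_left hq.pos (h1.trans (mul_one q).symm)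
        exact Subgroup.relIndex_eq_one.1 h4
    have hKcen : K ≤ Subgroup.centralizer (Q : Set G) := by
      rw [hK]
      apply sup_le
      · intro e he
        have hle : K ≤ Subgroup.centralizer ({e} : Set G) := by
          rw [hK]
          apply sup_le
          · intro y hy
            rw [Subgroup.mem_centralizer_singleton_iff]
            exact hEab e he y hy
          · rw [Subgroup.zpowers_le, Subgroup.mem_centralizer_singleton_iff]
            exact (hcE e he).symm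
        rw [Subgroup.mem_centralizer_iff]
        intro x hx
        have := hle (hQK hx)
        rwa [Subgroup.mem_centralizer_singleton_iff] at this
      · rw [Subgroup.zpowers_le]
        have hle : K ≤ Subgroup.centralizer ({c} : Set G) := by
          rw [hK]
          apply sup_le
          · intro e he
            rw [Subgroup.mem_centralizer_singleton_iff]
            exact hcE e he
          · rw [Subgroup.zpowers_le, Subgroup.mem_centralizer_singleton_iff]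
        rw [Subgroup.mem_centralizer_iff]
        intro x hx
        have := hle (hQK hx)
        rwa [Subgroup.mem_centralizer_singleton_iff] at this
    apply hnab
    intro x hx y hy
    have := hKcen (hQK hy)
    rw [Subgroup.mem_centralizer_iff] at this
    exact this x hx
  · push Not at hex
    apply hgQ
    rw [Subgroup.mem_centralizer_iff]
    intro a ha
    obtain ⟨c, hcdef⟩ : ∃ c : G, c = a⁻¹ * (g⁻¹ * a * g) := ⟨_, rfl⟩
    have hcg : c * g = g * c := (hCmem c).1 (hcdef ▸ hex a ha)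
    have hcQ : c ∈ Q := hcdef ▸ hcQ' a ha
    have hga : g⁻¹ * a * g = a * c := by rw [hcdef]; group
    have hpow : ∀ j : ℕ, (g ^ j)⁻¹ * a * g ^ j = a * c ^ j := by
      intro j
      induction j with
      | zero => simp
      | succ j ih =>
        have hcgj : c ^ j * g = g * c ^ j := Commute.pow_left (show Commute c g from hcg) j
        calc (g ^ (j + 1))⁻¹ * a * g ^ (j + 1) = g⁻¹ * ((g ^ j)⁻¹ * a * g ^ j) * g := by
              rw [pow_succ]; group
          _ = g⁻¹ * (a * c ^ j) * g := by rw [ih]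
          _ = (g⁻¹ * a * g) * (g⁻¹ * (c ^ j * g)) := by group
          _ = (g⁻¹ * a * g) * (g⁻¹ * (g * c ^ j)) := by rw [hcgj]
          _ = a * c * c ^ j := by rw [hga]; group
          _ = a * c ^ (j + 1) := by rw [pow_succ', mul_assoc]
    have h1 := hpow (orderOf g)
    rw [pow_orderOf_eq_one] at h1
    have h2 : c ^ orderOf g = 1 := by
      have : a * c ^ orderOf g = a * 1 := by rw [← h1]; group
      exact mul_left_cancel this
    obtain ⟨j, hj⟩ := hQpow c hcQ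
    have h3 : c = 1 := (pow_eq_one_iff_of_coprime (Nat.Coprime.pow_right j hg)).1 ⟨h2, hj⟩
    rw [h3, mul_one] at hga
    calc a * g = g * (g⁻¹ * a * g) := by group
      _ = g * a := by rw [hga]

theorem fitting_le_centralizer_pCore {G : Type*} [Group G] [Finite G] (q : ℕ) [Fact q.Prime]
    (hab : ∀ a ∈ Cfsg.pCore q G, ∀ b ∈ Cfsg.pCore q G, a * b = b * a) :
    Cfsg.fittingSubgroup G ≤ Subgroup.centralizer (Cfsg.pCore q G : Set G) := by
  apply Cfsg.Agent.Lib.Helper1.fitting_le_of_pCore_le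
  intro r hr
  haveI : Fact r.Prime := ⟨hr⟩
  intro b hb
  rw [Subgroup.mem_centralizer_iff]
  intro a ha
  by_cases hqr : q = r
  · subst hqr; exact hab a ha b hb
  · exact pCore_commute_of_ne hqr a b ha hb

/-- A "regular vector" in an abelian `O_q(G)`. -/
theorem exists_reg_vector {G : Type*} [Group G] [Finite G] (hG : SF G)
    (hGF : commutator G ≤ Cfsg.fittingSubgroup G) (q : ℕ) [Fact q.Prime]
    (hab : ∀ a ∈ Cfsg.pCore q G, ∀ b ∈ Cfsg.pCore q G, a * b = b * a)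
    (c : G) (hc : (orderOf c).Coprime q)
    (hcQ : c ∉ Subgroup.centralizer (Cfsg.pCore q G : Set G)) :
    ∃ ℓ ∈ Cfsg.pCore q G, orderOf ℓ = q ∧ ℓ * c ≠ c * ℓ ∧
      ∀ d : G, (orderOf d).Coprime q → d * ℓ = ℓ * d →
        d ∈ Subgroup.centralizer (Cfsg.pCore q G : Set G) := by
  have hq : q.Prime := Fact.out
  obtain ⟨k, hk⟩ := pCore_card (G := G) q
  have hcomm : ∀ a b : Cfsg.pCore q G, a * b = b * a :=
    fun a b => Subtype.ext (hab a a.2 b b.2)
  have hFC := fitting_le_centralizer_pCore q hab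
  have hcop : ∀ d : G, (orderOf d).Coprime q →
      (orderOf (MulAut.conjNormal d : MulAut (Cfsg.pCore q G))).Coprime q := by
    intro d hd
    apply Nat.Coprime.coprime_dvd_left _ hd
    apply orderOf_dvd_of_pow_eq_one
    rw [← map_pow, pow_orderOf_eq_one, map_one]
  have hidx : ∀ d : G, d ∉ Subgroup.centralizer (Cfsg.pCore q G : Set G) →
      (fixSub (MulAut.conjNormal d : MulAut (Cfsg.pCore q G))).index = q :=
    fun d hd => index_fixSub_eq hG hq _ hk d hd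
  have hcard : Nat.card (delta hcomm (MulAut.conjNormal c : MulAut (Cfsg.pCore q G))).range
      = q := by
    rw [card_range_delta, hidx c hcQ]
  obtain ⟨ℓ, hℓ, hℓ1⟩ : ∃ ℓ ∈ (delta hcomm (MulAut.conjNormal c :
      MulAut (Cfsg.pCore q G))).range, ℓ ≠ 1 := by
    by_contra hcon
    push Not at hcon
    have : (delta hcomm (MulAut.conjNormal c : MulAut (Cfsg.pCore q G))).range = ⊥ := by
      rw [eq_bot_iff]; intro x hx; rw [Subgroup.mem_bot]; exact hcon x hx
    rw [this, Subgroup.card_bot] at hcard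
    exact hq.one_lt.ne hcard
  refine ⟨(ℓ : G), ℓ.2, ?_, ?_, ?_⟩
  · have h1 : orderOf ℓ ∣ q := by
      have := orderOf_dvd_natCard (⟨ℓ, hℓ⟩ :
        (delta hcomm (MulAut.conjNormal c : MulAut (Cfsg.pCore q G))).range)
      rw [hcard] at this
      rwa [Subgroup.orderOf_mk] at this
    rcases (Nat.dvd_prime hq).1 h1 with h | h
    · exact absurd (orderOf_eq_one_iff.1 h) hℓ1
    · rw [Subgroup.orderOf_coe]; exact h
  · intro hcomm'
    apply hℓ1
    apply refl_fpf hcomm q _ (hcop c hc) (hidx c hcQ) ℓ hℓ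
    apply Subtype.ext
    rw [MulAut.conjNormal_apply, ← hcomm']; group
  · intro d hd hdℓ
    by_contra hdQ
    have hr : (delta hcomm (MulAut.conjNormal c : MulAut (Cfsg.pCore q G))).range
        = (delta hcomm (MulAut.conjNormal d : MulAut (Cfsg.pCore q G))).range := by
      apply refl_range_eq hcomm q _ _ _ (hcop c hc) (hcop d hd) (hidx c hcQ) (hidx d hdQ)
      · rw [← map_mul]; exact index_fixSub_dvd hG hq _ hk _
      · rw [← map_mul, ← map_mul]
        have e : c * d = d * c * ⁅c⁻¹, d⁻¹⁆ := by rw [commutatorElement_def]; group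
        rw [e, map_mul (MulAut.conjNormal (H := Cfsg.pCore q G))]
        rw [conjNormal_eq_one _ _ (hFC (hGF (comm_mem_commutator _ _))), mul_one]
    apply hℓ1
    apply refl_fpf hcomm q _ (hcop d hd) (hidx d hdQ) ℓ (hr ▸ hℓ)
    apply Subtype.ext
    rw [MulAut.conjNormal_apply, hdℓ]; group

theorem sf_index_fitting_squarefree {G : Type u} [Group G] [Finite G] (hG : SF G)
    (hsolv : Group.IsSolvable G) : Squarefree (Cfsg.fittingSubgroup G).index := by
  obtain ⟨F, hF⟩ : ∃ F : Subgroup G, F = Cfsg.fittingSubgroup G := ⟨_, rfl⟩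
  rw [← hF]
  have hGF : commutator G ≤ F := hF ▸ sf_commutator_le_fitting hG hsolv
  have hGF' : commutator G ≤ Cfsg.fittingSubgroup G := sf_commutator_le_fitting hG hsolv
  rw [Nat.squarefree_iff_prime_squarefree]
  intro r hr' hrr
  have hr : r.Prime := hr'
  haveI : Fact r.Prime := ⟨hr⟩
  have key : ∀ c : G, (∃ b : ℕ, c ^ r ^ b = 1) → c ∉ F →
      ∃ q : ℕ, q.Prime ∧ q ≠ r ∧ ∃ ℓ ∈ Cfsg.pCore q G, orderOf ℓ = q ∧ ℓ * c ≠ c * ℓ ∧
        F ≤ Subgroup.centralizer ({ℓ} : Set G) ∧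
        ∀ d : G, (orderOf d).Coprime q → d * ℓ = ℓ * d →
          d ∈ Subgroup.centralizer (Cfsg.pCore q G : Set G) := by
    rintro c ⟨b, hb⟩ hcF
    have h1 : ¬ ∀ q : ℕ, q.Prime → q ≠ r →
        c ∈ Subgroup.centralizer (Cfsg.pCore q G : Set G) :=
      fun h => hcF (hF ▸ mem_fitting_of_centralizes hGF' c b hb h)
    push Not at h1
    obtain ⟨q, hq, hqr, hcq⟩ := h1
    haveI : Fact q.Prime := ⟨hq⟩
    have hcop : (orderOf c).Coprime q :=
      Nat.Coprime.coprime_dvd_left (orderOf_dvd_of_pow_eq_one hb)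
        (Nat.Coprime.pow_left b ((Nat.coprime_primes hr hq).2 (Ne.symm hqr)))
    have hab := (coprime_centralizes_or_comm hG q c hcop).resolve_left hcq
    obtain ⟨ℓ, hℓQ, hℓo, hℓc, hℓd⟩ := exists_reg_vector hG hGF' q hab c hcop hcq
    refine ⟨q, hq, hqr, ℓ, hℓQ, hℓo, hℓc, ?_, hℓd⟩
    intro f hf
    have := fitting_le_centralizer_pCore q hab (hF ▸ hf)
    rw [Subgroup.mem_centralizer_iff] at this
    rw [Subgroup.mem_centralizer_singleton_iff]
    exact (this ℓ hℓQ).symm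
  have hrcop : ∀ (c : G) (b : ℕ) (n : ℕ), c ^ r ^ b = 1 → ¬ r ∣ n → (orderOf c).Coprime n := by
    intro c b n hb hn
    exact Nat.Coprime.coprime_dvd_left (orderOf_dvd_of_pow_eq_one hb)
      (Nat.Coprime.pow_left b ((Nat.Prime.coprime_iff_not_dvd hr).2 hn))
  -- first element
  obtain ⟨c₁, ⟨b₁, hb₁⟩, hc₁F⟩ : ∃ c : G, (∃ b : ℕ, c ^ r ^ b = 1) ∧ c ∉ F := by
    by_contra hcon
    push Not at hcon
    obtain P : Sylow r G := default
    have hPF : (P : Subgroup G) ≤ F := by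
      intro x hx
      obtain ⟨b, hb⟩ := P.2 ⟨x, hx⟩
      exact hcon x ⟨b, by simpa using congrArg Subtype.val hb⟩
    have h1 : r ∣ F.index := (dvd_mul_right r r).trans hrr
    exact P.not_dvd_index (h1.trans (Subgroup.index_dvd_of_le hPF))
  obtain ⟨q₁, hq₁, hq₁r, ℓ₁, hℓ₁Q, hℓ₁o, hℓ₁c, hFK₁, hℓ₁d⟩ := key c₁ ⟨b₁, hb₁⟩ hc₁F
  obtain ⟨K₁, hK₁⟩ : ∃ K : Subgroup G, K = Subgroup.centralizer ({ℓ₁} : Set G) := ⟨_, rfl⟩
  rw [← hK₁] at hFK₁
  have hK₁mem : ∀ z : G, z ∈ K₁ ↔ z * ℓ₁ = ℓ₁ * z := by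
    intro z; rw [hK₁, Subgroup.mem_centralizer_singleton_iff]
  have hK₁n : K₁.Normal :=
    Cfsg.Agent.Lib.Helper1.normal_of_commutator_le K₁ (hGF.trans hFK₁)
  have hc₁K : c₁ ∉ K₁ := fun h => hℓ₁c ((hK₁mem c₁).1 h).symm
  have hrK₁ : r ∣ K₁.index := by
    by_contra hnd
    exact hc₁K (Cfsg.Agent.Lib.Helper1.mem_of_coprime_index K₁ c₁ (hrcop c₁ b₁ _ hb₁ hnd))
  have hrel : r ∣ F.relIndex K₁ := by
    by_contra hnd
    have h1 : F.relIndex K₁ * K₁.index = F.index := Subgroup.relIndex_mul_index hFK₁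
    rw [← h1] at hrr
    have h2 : (r * r).Coprime (F.relIndex K₁) :=
      Nat.Coprime.mul_left ((Nat.Prime.coprime_iff_not_dvd hr).2 hnd)
        ((Nat.Prime.coprime_iff_not_dvd hr).2 hnd)
    have h3 : r * r ∣ K₁.index := h2.dvd_of_dvd_mul_left hrr
    exact hr.not_isUnit ((hK₁ ▸ hG ℓ₁) r h3)
  -- second element
  obtain ⟨c₂, hc₂K, ⟨b₂, hb₂⟩, hc₂F⟩ : ∃ c ∈ K₁, (∃ b : ℕ, c ^ r ^ b = 1) ∧ c ∉ F := by
    by_contra hcon
    push Not at hcon
    obtain P : Sylow r K₁ := default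
    have hPF : (P : Subgroup K₁) ≤ F.subgroupOf K₁ := by
      intro x hx
      rw [Subgroup.mem_subgroupOf]
      obtain ⟨b, hb⟩ := P.2 ⟨x, hx⟩
      refine hcon x x.2 ⟨b, ?_⟩
      have := congrArg (fun y : (P : Subgroup K₁) => ((y : K₁) : G)) hb
      simpa using this
    exact P.not_dvd_index (hrel.trans (Subgroup.index_dvd_of_le hPF))
  obtain ⟨q₂, hq₂, hq₂r, ℓ₂, hℓ₂Q, hℓ₂o, hℓ₂c, hFK₂, hℓ₂d⟩ := key c₂ ⟨b₂, hb₂⟩ hc₂F
  have hq₁₂ : q₁ ≠ q₂ := by
    rintro rfl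
    have hcop : (orderOf c₂).Coprime q₁ := hrcop c₂ b₂ _ hb₂ (fun h =>
      hq₁r ((Nat.prime_dvd_prime_iff_eq hr hq₁).1 h).symm)
    have h2 := hℓ₁d c₂ hcop ((hK₁mem c₂).1 hc₂K)
    rw [Subgroup.mem_centralizer_iff] at h2
    exact hℓ₂c (h2 ℓ₂ hℓ₂Q)
  obtain ⟨K₂, hK₂⟩ : ∃ K : Subgroup G, K = Subgroup.centralizer ({ℓ₂} : Set G) := ⟨_, rfl⟩
  rw [← hK₂] at hFK₂
  have hK₂mem : ∀ z : G, z ∈ K₂ ↔ z * ℓ₂ = ℓ₂ * z := by
    intro z; rw [hK₂, Subgroup.mem_centralizer_singleton_iff]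
  have hK₂n : K₂.Normal :=
    Cfsg.Agent.Lib.Helper1.normal_of_commutator_le K₂ (hGF.trans hFK₂)
  have hc₂K₂ : c₂ ∉ K₂ := fun h => hℓ₂c ((hK₂mem c₂).1 h).symm
  have hℓcomm : ℓ₁ * ℓ₂ = ℓ₂ * ℓ₁ := by
    haveI : Fact q₁.Prime := ⟨hq₁⟩
    haveI : Fact q₂.Prime := ⟨hq₂⟩
    exact pCore_commute_of_ne hq₁₂ ℓ₁ ℓ₂ hℓ₁Q hℓ₂Q
  have hcop12 : (orderOf ℓ₁).Coprime (orderOf ℓ₂) := by
    rw [hℓ₁o, hℓ₂o]; exact (Nat.coprime_primes hq₁ hq₂).2 hq₁₂
  have hle : Subgroup.centralizer ({ℓ₁ * ℓ₂} : Set G) ≤ K₁ ⊓ K₂ := by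
    intro z hz
    rw [Subgroup.mem_centralizer_singleton_iff] at hz
    have := commute_of_commute_mul ℓ₁ ℓ₂ z hℓcomm hcop12 hz
    exact Subgroup.mem_inf.2 ⟨(hK₁mem z).2 this.1, (hK₂mem z).2 this.2⟩
  have hsq : Squarefree (K₁ ⊓ K₂).index :=
    (hG (ℓ₁ * ℓ₂)).squarefree_of_dvd (Subgroup.index_dvd_of_le hle)
  have h1 : (K₁ ⊓ K₂).relIndex K₁ * K₁.index = (K₁ ⊓ K₂).index :=
    Subgroup.relIndex_mul_index inf_le_left
  have h2 : r ∣ (K₁ ⊓ K₂).relIndex K₁ := by
    rw [Subgroup.inf_relIndex_left]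
    by_contra hnd
    apply hc₂K₂
    have hn : (K₂.subgroupOf K₁).Normal := inferInstance
    have h3 : (⟨c₂, hc₂K⟩ : K₁) ∈ K₂.subgroupOf K₁ := by
      apply Cfsg.Agent.Lib.Helper1.mem_of_coprime_index
      have h4 : orderOf (⟨c₂, hc₂K⟩ : K₁) = orderOf c₂ := Subgroup.orderOf_mk _ _
      rw [h4]
      exact hrcop c₂ b₂ _ hb₂ hnd
    exact Subgroup.mem_subgroupOf.1 h3
  have h3 : r * r ∣ (K₁ ⊓ K₂).index := by rw [← h1]; exact mul_dvd_mul h2 hrK₁
  exact hr.not_isUnit (hsq r h3)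

theorem sf_quotient_fitting_cyclic {G : Type u} [Group G] [Finite G] (hG : SF G)
    (hsolv : Group.IsSolvable G) : IsCyclic (G ⧸ Cfsg.fittingSubgroup G) := by
  have hGF := sf_commutator_le_fitting hG hsolv
  have hcomm : IsMulCommutative (G ⧸ Cfsg.fittingSubgroup G) :=
    Subgroup.Normal.quotient_commutative_iff_commutator_le.2 hGF
  have hnil : Group.IsNilpotent (G ⧸ Cfsg.fittingSubgroup G) := by
    letI : CommGroup (G ⧸ Cfsg.fittingSubgroup G) :=
      { (inferInstance : Group (G ⧸ Cfsg.fittingSubgroup G)) with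
        mul_comm := fun a b => hcomm.is_comm.comm a b }
    exact CommGroup.isNilpotent
  have hz : IsZGroup (G ⧸ Cfsg.fittingSubgroup G) :=
    IsZGroup.of_squarefree (sf_index_fitting_squarefree hG hsolv)
  infer_instance

end Cfsg.Agent.Lib.Helper32.Sqf
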