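import Mathlib
import Cfsg.Agent.Lib.Helper32.SqfFit

/-!
# Squarefree class sizes: the derived subgroup

* `knoche_aux`: a `q`-subgroup with central commutators and class sizes `≤ q` has derived
  subgroup of order `≤ q`.
* `qElement_comm_mem`, `all_comm_mem_of_nonabelian`: `G` acts trivially on `O_q(G)/O_q(G)'` when
  `O_q(G)` is nonabelian.
* `sf_card_commutator_squarefree`, `sf_commutator_cyclic`.
-/

set_option autoImplicit false

namespace Cfsg.Agent.Lib.Helper32.Sqf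

open scoped commutatorElement

universe u

section Knoche

variable {G : Type*} [Group G]

theorem comm_mul_right_of_central (x u v : G) (hz : ⁅x, v⁆ ∈ Subgroup.center G) :
    ⁅x, u * v⁆ = ⁅x, u⁆ * ⁅x, v⁆ := by
  rw [Subgroup.mem_center_iff] at hz
  have h := hz u
  calc ⁅x, u * v⁆ = ⁅x, u⁆ * (u * ⁅x, v⁆) * u⁻¹ := by
        simp only [commutatorElement_def]; group
    _ = ⁅x, u⁆ * (⁅x, v⁆ * u) * u⁻¹ := by rw [h]
    _ = ⁅x, u⁆ * ⁅x, v⁆ := by group

theorem comm_mul_left_of_central (x u g : G) (hz : ⁅u, g⁆ ∈ Subgroup.center G) :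
    ⁅x * u, g⁆ = ⁅u, g⁆ * ⁅x, g⁆ := by
  rw [Subgroup.mem_center_iff] at hz
  have h := hz x
  calc ⁅x * u, g⁆ = (x * ⁅u, g⁆) * g * x⁻¹ * g⁻¹ := by
        simp only [commutatorElement_def]; group
    _ = (⁅u, g⁆ * x) * g * x⁻¹ * g⁻¹ := by rw [h]
    _ = ⁅u, g⁆ * ⁅x, g⁆ := by simp only [commutatorElement_def]; group

/-- The homomorphism `u ↦ ⁅x, u⁆` on a subgroup with central commutators. -/
def kap (Q : Subgroup G) (hcen : ∀ a ∈ Q, ∀ b ∈ Q, ⁅a, b⁆ ∈ Subgroup.center G) (x : Q) :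
    Q →* G :=
  MonoidHom.mk' (fun u => ⁅(x : G), (u : G)⁆) (by
    intro u v
    show ⁅(x : G), (u : G) * (v : G)⁆ = _
    exact comm_mul_right_of_central _ _ _ (hcen _ x.2 _ v.2))

theorem kap_apply (Q : Subgroup G) (hcen : ∀ a ∈ Q, ∀ b ∈ Q, ⁅a, b⁆ ∈ Subgroup.center G)
    (x u : Q) : kap Q hcen x u = ⁅(x : G), (u : G)⁆ := rfl

theorem normal_of_le_center (D : Subgroup G) (hD : D ≤ Subgroup.center G) : D.Normal := by
  constructor
  intro d hd g
  have := hD hd
  rw [Subgroup.mem_center_iff] at this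
  have e : g * d * g⁻¹ = d := by rw [this g]; group
  rw [e]; exact hd

theorem knoche_aux [Finite G] {q : ℕ} (hq : q.Prime) (Q : Subgroup G)
    (hcen : ∀ a ∈ Q, ∀ b ∈ Q, ⁅a, b⁆ ∈ Subgroup.center G)
    (hrel : ∀ x : G, (Subgroup.centralizer ({x} : Set G)).relIndex Q ∣ q) :
    ∃ D : Subgroup G, D ≤ Subgroup.center G ∧ Nat.card D ∣ q ∧
      ∀ a ∈ Q, ∀ b ∈ Q, ⁅a, b⁆ ∈ D := by
  by_cases hab : ∀ a ∈ Q, ∀ b ∈ Q, ⁅a, b⁆ = 1
  · exact ⟨⊥, bot_le, by simp, fun a ha b hb => by rw [hab a ha b hb]; exact Subgroup.one_mem _⟩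
  · push Not at hab
    obtain ⟨x₀, hx₀, y₀, hy₀, hxy⟩ := hab
    have hcardR : ∀ x : Q, Nat.card (kap Q hcen x).range ∣ q := by
      intro x
      rw [← Subgroup.index_ker]
      have : (kap Q hcen x).ker = (Subgroup.centralizer ({(x : G)} : Set G)).subgroupOf Q := by
        ext u
        rw [MonoidHom.mem_ker, Subgroup.mem_subgroupOf, Subgroup.mem_centralizer_singleton_iff,
          kap_apply, commutatorElement_eq_one_iff_mul_comm]
        exact eq_comm
      rw [this]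
      exact hrel x
    have hcardR' : ∀ x : Q, (kap Q hcen x).range ≠ ⊥ → Nat.card (kap Q hcen x).range = q := by
      intro x hx
      rcases (Nat.dvd_prime hq).1 (hcardR x) with h | h
      · exact absurd (Subgroup.card_eq_one.1 h) hx
      · exact h
    have hmemR : ∀ (x u : Q), ⁅(x : G), (u : G)⁆ ∈ (kap Q hcen x).range := fun x u => ⟨u, rfl⟩
    have hshare : ∀ (x u : Q) (t : G), t ≠ 1 → t ∈ (kap Q hcen x).range →
        t ∈ (kap Q hcen u).range → (kap Q hcen x).range = (kap Q hcen u).range := by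
      intro x u t ht hx hu
      have h1 : (kap Q hcen x).range ≠ ⊥ := fun h =>
        ht (by rw [h, Subgroup.mem_bot] at hx; exact hx)
      have h2 : (kap Q hcen u).range ≠ ⊥ := fun h =>
        ht (by rw [h, Subgroup.mem_bot] at hu; exact hu)
      rw [eq_zpowers_of_prime_card hq _ (hcardR' x h1) t hx ht,
        eq_zpowers_of_prime_card hq _ (hcardR' u h2) t hu ht]
    have KA : ∀ x u : Q, (kap Q hcen x).range ≠ (kap Q hcen u).range →
        (kap Q hcen u).range ≠ ⊥ →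
        ∀ g : Q, ⁅(u : G), (g : G)⁆ = 1 → ⁅(x : G), (g : G)⁆ = 1 := by
      intro x u hne hu g hug
      by_contra hxg
      have h1 : ⁅((x * u : Q) : G), (g : G)⁆ = ⁅(x : G), (g : G)⁆ := by
        rw [Subgroup.coe_mul, comm_mul_left_of_central _ _ _ (hcen _ u.2 _ g.2), hug, one_mul]
      have h2 : (kap Q hcen (x * u)).range = (kap Q hcen x).range :=
        hshare (x * u) x _ hxg (h1 ▸ hmemR (x * u) g) (hmemR x g)
      apply hne
      have hle : (kap Q hcen u).range ≤ (kap Q hcen x).range := by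
        rintro _ ⟨g', rfl⟩
        have h3 : ⁅((x * u : Q) : G), (g' : G)⁆
            = ⁅(u : G), (g' : G)⁆ * ⁅(x : G), (g' : G)⁆ := by
          rw [Subgroup.coe_mul]
          exact comm_mul_left_of_central _ _ _ (hcen _ u.2 _ g'.2)
        have h4 : ⁅(u : G), (g' : G)⁆
            = ⁅((x * u : Q) : G), (g' : G)⁆ * (⁅(x : G), (g' : G)⁆)⁻¹ := by
          rw [h3]; group
        rw [kap_apply, h4]
        exact Subgroup.mul_mem _ (h2 ▸ hmemR (x * u) g') (Subgroup.inv_mem _ (hmemR x g'))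
      have hxne : (kap Q hcen x).range ≠ ⊥ := fun h => hxg (by
        have := hmemR x g
        rw [h, Subgroup.mem_bot] at this
        exact this)
      exact (Subgroup.eq_of_le_of_card_ge hle (by rw [hcardR' x hxne, hcardR' u hu])).symm
    have hmain : ∀ x u : Q, (kap Q hcen x).range ≠ ⊥ → (kap Q hcen u).range ≠ ⊥ →
        (kap Q hcen x).range = (kap Q hcen u).range := by
      intro x u hx hu
      by_contra hne
      obtain ⟨y, hy⟩ : ∃ y : Q, ⁅(x : G), (y : G)⁆ ≠ 1 := by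
        by_contra hcon
        push Not at hcon
        apply hx
        rw [eq_bot_iff]
        rintro _ ⟨g, rfl⟩
        rw [Subgroup.mem_bot]
        exact hcon g
      have hyx : ⁅(y : G), (x : G)⁆ ≠ 1 := by
        rw [← commutatorElement_inv]; exact inv_ne_one.2 hy
      have hRy : (kap Q hcen y).range = (kap Q hcen x).range := by
        apply hshare y x _ hyx (hmemR y x)
        rw [← commutatorElement_inv]
        exact Subgroup.inv_mem _ (hmemR x y)
      have hyne : (kap Q hcen y).range ≠ (kap Q hcen u).range := by rw [hRy]; exact hne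
      have hybot : (kap Q hcen y).range ≠ ⊥ := by rw [hRy]; exact hx
      have h1 : ⁅(u : G), (y : G)⁆ = 1 :=
        KA u y (Ne.symm hyne) hybot y (commutatorElement_self _)
      exact hy (KA x u hne hu y h1)
    have hx₀ne : (kap Q hcen ⟨x₀, hx₀⟩).range ≠ ⊥ := fun h => hxy (by
      have := hmemR ⟨x₀, hx₀⟩ ⟨y₀, hy₀⟩
      rw [h, Subgroup.mem_bot] at this
      exact this)
    refine ⟨(kap Q hcen ⟨x₀, hx₀⟩).range, ?_, hcardR _, ?_⟩
    · rintro _ ⟨u, rfl⟩
      exact hcen _ hx₀ _ u.2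
    · intro a ha b hb
      by_cases h1 : ⁅a, b⁆ = 1
      · rw [h1]; exact Subgroup.one_mem _
      · have hane : (kap Q hcen ⟨a, ha⟩).range ≠ ⊥ := fun h => h1 (by
          have := hmemR ⟨a, ha⟩ ⟨b, hb⟩
          rw [h, Subgroup.mem_bot] at this
          exact this)
        rw [← hmain ⟨a, ha⟩ ⟨x₀, hx₀⟩ hane hx₀ne]
        exact hmemR ⟨a, ha⟩ ⟨b, hb⟩

/-- The subgroup of elements acting trivially on `Q` modulo the normal subgroup `D`. -/
def actTriv (Q : Set G) (D : Subgroup G) [D.Normal] : Subgroup G where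
  carrier := {z | ∀ y ∈ Q, ⁅y, z⁆ ∈ D}
  one_mem' := by
    intro y _
    rw [commutatorElement_one_right]; exact D.one_mem
  mul_mem' := by
    intro z₁ z₂ h₁ h₂ y hy
    have e : ⁅y, z₁ * z₂⁆ = ⁅y, z₁⁆ * (z₁ * ⁅y, z₂⁆ * z₁⁻¹) := by
      simp only [commutatorElement_def]; group
    rw [e]
    exact D.mul_mem (h₁ y hy) (Subgroup.Normal.conj_mem inferInstance _ (h₂ y hy) z₁)
  inv_mem' := by
    intro z h y hy
    have e : ⁅y, z⁻¹⁆ = z⁻¹ * (⁅y, z⁆)⁻¹ * z⁻¹⁻¹ := by
      simp only [commutatorElement_def]; group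
    rw [e]
    exact Subgroup.Normal.conj_mem inferInstance _ (D.inv_mem (h y hy)) z⁻¹

theorem mem_actTriv (Q : Set G) (D : Subgroup G) [D.Normal] (z : G) :
    z ∈ actTriv Q D ↔ ∀ y ∈ Q, ⁅y, z⁆ ∈ D := Iff.rfl

end Knoche

theorem exists_conj_mem_of_not_dvd_index {G : Type*} [Group G] [Finite G] {q : ℕ}
    [Fact q.Prime] (H : Subgroup G) (hH : ¬ q ∣ H.index) (g : G) (j : ℕ) (hg : g ^ q ^ j = 1) :
    ∃ c : G, c * g * c⁻¹ ∈ H := by
  obtain ⟨P₀⟩ : Nonempty (Sylow q H) := inferInstance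
  have hQp : IsPGroup q ((P₀ : Subgroup H).map H.subtype) := P₀.isPGroup'.map _
  have hQi : ¬ q ∣ ((P₀ : Subgroup H).map H.subtype).index := by
    rw [Subgroup.index_map_subtype]
    exact Nat.Prime.not_dvd_mul Fact.out P₀.not_dvd_index hH
  have hz : IsPGroup q (Subgroup.zpowers g) := by
    obtain ⟨i, -, hi⟩ := (Nat.dvd_prime_pow Fact.out).1 (orderOf_dvd_of_pow_eq_one hg)
    exact IsPGroup.of_card (n := i) (by rw [Nat.card_zpowers, hi])
  obtain ⟨P, hP⟩ := hz.exists_le_sylow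
  obtain ⟨c, hc⟩ := MulAction.exists_smul_eq G P (hQp.toSylow hQi)
  refine ⟨c, ?_⟩
  have h1 : c * g * c⁻¹ ∈ ((c • P : Sylow q G) : Subgroup G) := by
    rw [Cfsg.Agent.Lib.Helper67.mem_smul_sylow_iff]
    have : c⁻¹ * (c * g * c⁻¹) * c = g := by group
    rw [this]; exact hP (Subgroup.mem_zpowers g)
  rw [hc, IsPGroup.toSylow_coe] at h1
  obtain ⟨y, -, hy⟩ := h1
  rw [← hy]; exact y.2

/-- `q`-elements act trivially on a nonabelian `O_q(G)` modulo its commutators. -/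
theorem qElement_comm_mem {G : Type*} [Group G] [Finite G] (hG : SF G)
    (hGF : commutator G ≤ Cfsg.fittingSubgroup G) (q : ℕ) [Fact q.Prime]
    (D : Subgroup G) [D.Normal]
    (hD : ∀ a ∈ Cfsg.pCore q G, ∀ b ∈ Cfsg.pCore q G, ⁅a, b⁆ ∈ D)
    (hnab : ¬ ∀ a ∈ Cfsg.pCore q G, ∀ b ∈ Cfsg.pCore q G, a * b = b * a)
    (g : G) (j : ℕ) (hg : g ^ q ^ j = 1) : g ∈ actTriv (Cfsg.pCore q G : Set G) D := by
  have hq : q.Prime := Fact.out
  obtain ⟨k, hk⟩ := pCore_card (G := G) q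
  have hFS : Cfsg.fittingSubgroup G ≤ actTriv (Cfsg.pCore q G : Set G) D := by
    apply Cfsg.Agent.Lib.Helper1.fitting_le_of_pCore_le
    intro r hr z hz y hy
    haveI : Fact r.Prime := ⟨hr⟩
    by_cases hqr : q = r
    · subst hqr; exact hD y hy z hz
    · rw [commutatorElement_eq_one_iff_mul_comm.2 (pCore_commute_of_ne hqr y z hy hz)]
      exact D.one_mem
  have hnc : ∀ y ∈ Cfsg.pCore q G, (∃ b ∈ Cfsg.pCore q G, y * b ≠ b * y) → ⁅y, g⁆ ∈ D := by
    rintro y hy ⟨b, hb, hyb⟩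
    obtain ⟨C, hC⟩ : ∃ C : Subgroup G, C = Subgroup.centralizer ({y} : Set G) := ⟨_, rfl⟩
    have hCmem : ∀ z : G, z ∈ C ↔ z * y = y * z := by
      intro z; rw [hC, Subgroup.mem_centralizer_singleton_iff]
    have hCrel : C.relIndex (Cfsg.pCore q G) = q := by
      have h1 : C.relIndex (Cfsg.pCore q G) ∣ q := by
        rw [hC]
        exact dvd_prime_of_squarefree_of_dvd_pow hq (sf_relIndex hG _ y)
          (hk ▸ Subgroup.relIndex_dvd_card _ _)
      rcases (Nat.dvd_prime hq).1 h1 with h | h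
      · exfalso
        rw [Subgroup.relIndex_eq_one] at h
        exact hyb ((hCmem b).1 (h hb)).symm
      · exact h
    have hidx : ¬ q ∣ (Cfsg.pCore q G ⊔ C).index := by
      intro hdvd
      have h1 : C.relIndex (Cfsg.pCore q G ⊔ C) * (Cfsg.pCore q G ⊔ C).index = C.index :=
        Subgroup.relIndex_mul_index le_sup_right
      rw [Cfsg.Agent.Lib.Helper9.relIndex_sup_of_normal_right C (Cfsg.pCore q G), hCrel] at h1
      have h2 : q * q ∣ C.index := by rw [← h1]; exact mul_dvd_mul_left q hdvd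
      exact hq.not_isUnit ((hC ▸ hG y) q h2)
    obtain ⟨c, hc⟩ := exists_conj_mem_of_not_dvd_index _ hidx g j hg
    have hc' : c * g * c⁻¹ ∈ ((Cfsg.pCore q G ⊔ C : Subgroup G) : Set G) := hc
    rw [Subgroup.normal_mul] at hc'
    obtain ⟨u, hu, c', hc'C, huc⟩ := Set.mem_mul.1 hc'
    have hc'y : c' * y = y * c' := (hCmem c').1 hc'C
    have h' : c' * y⁻¹ = y⁻¹ * c' := by
      calc c' * y⁻¹ = y⁻¹ * (y * c') * y⁻¹ := by group
        _ = y⁻¹ * (c' * y) * y⁻¹ := by rw [hc'y]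
        _ = y⁻¹ * c' := by group
    have h1 : ⁅y, c * g * c⁻¹⁆ ∈ D := by
      rw [← huc]
      have e : ⁅y, u * c'⁆ = ⁅y, u⁆ := by
        simp only [commutatorElement_def]
        calc y * (u * c') * y⁻¹ * (u * c')⁻¹ = y * u * (c' * y⁻¹) * c'⁻¹ * u⁻¹ := by group
          _ = y * u * (y⁻¹ * c') * c'⁻¹ * u⁻¹ := by rw [h']
          _ = y * u * y⁻¹ * u⁻¹ := by group
      rw [e]
      exact hD y hy u hu
    have e2 : g = (c * g * c⁻¹) * ⁅(c * g * c⁻¹)⁻¹, c⁻¹⁆ := by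
      rw [commutatorElement_def]; group
    have h2 : ⁅y, ⁅(c * g * c⁻¹)⁻¹, c⁻¹⁆⁆ ∈ D := hFS (hGF (comm_mem_commutator _ _)) y hy
    have e3 : ⁅y, (c * g * c⁻¹) * ⁅(c * g * c⁻¹)⁻¹, c⁻¹⁆⁆
        = ⁅y, c * g * c⁻¹⁆ * ((c * g * c⁻¹) * ⁅y, ⁅(c * g * c⁻¹)⁻¹, c⁻¹⁆⁆ * (c * g * c⁻¹)⁻¹) := by
      generalize c * g * c⁻¹ = w
      generalize ⁅w⁻¹, c⁻¹⁆ = z
      simp only [commutatorElement_def]; group
    rw [e2, e3]
    exact D.mul_mem h1 (Subgroup.Normal.conj_mem inferInstance _ h2 _)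
  intro y hy
  by_cases hyc : ∃ b ∈ Cfsg.pCore q G, y * b ≠ b * y
  · exact hnc y hy hyc
  · push Not at hyc
    obtain ⟨y₀, hy₀, b, hb, hy₀b⟩ : ∃ y₀ ∈ Cfsg.pCore q G, ∃ b ∈ Cfsg.pCore q G,
        y₀ * b ≠ b * y₀ := by
      by_contra hcon
      push Not at hcon
      exact hnab hcon
    have h1 : ⁅y₀, g⁆ ∈ D := hnc y₀ hy₀ ⟨b, hb, hy₀b⟩
    have h2 : ⁅y * y₀, g⁆ ∈ D := by
      apply hnc (y * y₀) (mul_mem hy hy₀)
      refine ⟨b, hb, ?_⟩
      intro h
      apply hy₀b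
      have : y * (y₀ * b) = y * (b * y₀) := by
        calc y * (y₀ * b) = y * y₀ * b := by group
          _ = b * (y * y₀) := h
          _ = (b * y) * y₀ := by group
          _ = (y * b) * y₀ := by rw [hyc b hb]
          _ = y * (b * y₀) := by group
      exact mul_left_cancel this
    have e : ⁅y * y₀, g⁆ = y * ⁅y₀, g⁆ * y⁻¹ * ⁅y, g⁆ := by
      simp only [commutatorElement_def]; group
    have e' : ⁅y, g⁆ = (y * ⁅y₀, g⁆ * y⁻¹)⁻¹ * ⁅y * y₀, g⁆ := by rw [e]; group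
    rw [e']
    exact D.mul_mem (D.inv_mem (Subgroup.Normal.conj_mem inferInstance _ h1 y)) h2

theorem all_comm_mem_of_nonabelian {G : Type*} [Group G] [Finite G] (hG : SF G)
    (hGF : commutator G ≤ Cfsg.fittingSubgroup G) (q : ℕ) [Fact q.Prime]
    (D : Subgroup G) [D.Normal]
    (hD : ∀ a ∈ Cfsg.pCore q G, ∀ b ∈ Cfsg.pCore q G, ⁅a, b⁆ ∈ D)
    (hnab : ¬ ∀ a ∈ Cfsg.pCore q G, ∀ b ∈ Cfsg.pCore q G, a * b = b * a) (g : G) :
    g ∈ actTriv (Cfsg.pCore q G : Set G) D := by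
  apply Cfsg.Agent.Lib.Helper1.mem_of_primePow_pow_mem
  intro k hk
  obtain ⟨p, n, hp, hn, hpn⟩ := hk
  have hp' : p.Prime := Nat.prime_iff.2 hp
  by_cases hpq : p = q
  · rw [hpq] at hpn
    exact qElement_comm_mem hG hGF q D hD hnab (g ^ k) n (by rw [hpn]; exact pow_orderOf_eq_one _)
  · have hcop : (orderOf (g ^ k)).Coprime q := by
      rw [← hpn]
      exact Nat.Coprime.pow_left n ((Nat.coprime_primes hp' Fact.out).2 hpq)
    have h1 := (coprime_centralizes_or_comm hG q (g ^ k) hcop).resolve_right hnab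
    rw [Subgroup.mem_centralizer_iff] at h1
    intro y hy
    rw [commutatorElement_eq_one_iff_mul_comm.2 (h1 y hy)]
    exact D.one_mem

theorem pCore_le_pPrimeCore {G : Type*} [Group G] [Finite G] {q r : ℕ} [Fact q.Prime]
    [Fact r.Prime] (hqr : q ≠ r) : Cfsg.pCore r G ≤ Cfsg.pPrimeCore q G := by
  obtain ⟨k, hk⟩ := pCore_card (G := G) r
  exact le_sSup ⟨inferInstance, by
    rw [hk]
    exact Nat.Coprime.pow_left k ((Nat.coprime_primes Fact.out Fact.out).2 (Ne.symm hqr))⟩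

theorem not_sq_dvd_card_commutator {G : Type*} [Group G] [Finite G] (q : ℕ) [Fact q.Prime]
    (x : G) (hgen : ∀ g : G, ∃ f ∈ Cfsg.fittingSubgroup G, ∃ k : ℤ, g = f * x ^ k)
    (D : Subgroup G) [D.Normal] (hDcard : Nat.card D ∣ q)
    (hDQ : ∀ a ∈ Cfsg.pCore q G, ∀ b ∈ Cfsg.pCore q G, ⁅a, b⁆ ∈ D)
    (hDx : ∀ a ∈ Cfsg.pCore q G, ⁅a, x⁆ ∈ D) : ¬ q * q ∣ Nat.card (commutator G) := by
  have hq : q.Prime := Fact.out
  obtain ⟨N, hN⟩ : ∃ N : Subgroup G, N = D ⊔ Cfsg.pPrimeCore q G := ⟨_, rfl⟩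
  haveI hNn : N.Normal := by rw [hN]; infer_instance
  have hDN : D ≤ N := hN ▸ le_sup_left
  have hON : Cfsg.pPrimeCore q G ≤ N := hN ▸ le_sup_right
  have hS : ∀ g : G, g ∈ actTriv (Cfsg.pCore q G : Set G) N := by
    have hFS : Cfsg.fittingSubgroup G ≤ actTriv (Cfsg.pCore q G : Set G) N := by
      apply Cfsg.Agent.Lib.Helper1.fitting_le_of_pCore_le
      intro r hr z hz y hy
      haveI : Fact r.Prime := ⟨hr⟩
      by_cases hqr : q = r
      · subst hqr; exact hDN (hDQ y hy z hz)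
      · rw [commutatorElement_eq_one_iff_mul_comm.2 (pCore_commute_of_ne hqr y z hy hz)]
        exact N.one_mem
    have hxS : x ∈ actTriv (Cfsg.pCore q G : Set G) N := fun y hy => hDN (hDx y hy)
    intro g
    obtain ⟨f, hf, k, rfl⟩ := hgen g
    exact Subgroup.mul_mem _ (hFS hf) (Subgroup.zpow_mem _ hxS k)
  have hFZ : Cfsg.fittingSubgroup G
      ≤ (Subgroup.center (G ⧸ N)).comap (QuotientGroup.mk' N) := by
    apply Cfsg.Agent.Lib.Helper1.fitting_le_of_pCore_le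
    intro r hr a ha
    haveI : Fact r.Prime := ⟨hr⟩
    rw [Subgroup.mem_comap, Subgroup.mem_center_iff]
    intro y
    obtain ⟨g, rfl⟩ := QuotientGroup.mk'_surjective N y
    by_cases hqr : q = r
    · subst hqr
      have h1 : ⁅a, g⁆ ∈ N := hS g a ha
      have h2 : (QuotientGroup.mk' N) ⁅a, g⁆ = 1 := (QuotientGroup.eq_one_iff _).2 h1
      rw [map_commutatorElement, commutatorElement_eq_one_iff_mul_comm] at h2
      exact h2.symm
    · have h1 : a ∈ N := hON (pCore_le_pPrimeCore hqr ha)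
      have h2 : (QuotientGroup.mk' N) a = 1 := (QuotientGroup.eq_one_iff _).2 h1
      rw [h2, mul_one, one_mul]
  have hcomm : IsMulCommutative (G ⧸ N) := by
    refine ⟨⟨fun a b => ?_⟩⟩
    obtain ⟨g₁, rfl⟩ := QuotientGroup.mk'_surjective N a
    obtain ⟨g₂, rfl⟩ := QuotientGroup.mk'_surjective N b
    obtain ⟨f₁, hf₁, k₁, rfl⟩ := hgen g₁
    obtain ⟨f₂, hf₂, k₂, rfl⟩ := hgen g₂
    have h1 := hFZ hf₁
    have h2 := hFZ hf₂
    rw [Subgroup.mem_comap, Subgroup.mem_center_iff] at h1 h2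
    simp only [map_mul, map_zpow]
    generalize (QuotientGroup.mk' N) f₁ = A at h1 ⊢
    generalize (QuotientGroup.mk' N) f₂ = B at h2 ⊢
    generalize (QuotientGroup.mk' N) x = X
    have hX : X ^ k₁ * X ^ k₂ = X ^ k₂ * X ^ k₁ := by
      rw [← zpow_add, ← zpow_add, add_comm]
    calc A * X ^ k₁ * (B * X ^ k₂) = A * (X ^ k₁ * B) * X ^ k₂ := by group
      _ = A * (B * X ^ k₁) * X ^ k₂ := by rw [h2 (X ^ k₁)]
      _ = (A * B) * (X ^ k₁ * X ^ k₂) := by group
      _ = (B * A) * (X ^ k₂ * X ^ k₁) := by rw [h2 A, hX]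
      _ = B * (A * X ^ k₂) * X ^ k₁ := by group
      _ = B * (X ^ k₂ * A) * X ^ k₁ := by rw [← h1 (X ^ k₂)]
      _ = B * X ^ k₂ * (A * X ^ k₁) := by group
  have hle : commutator G ≤ N := Subgroup.Normal.quotient_commutative_iff_commutator_le.1 hcomm
  intro hdvd
  have h1 : Nat.card (commutator G) ∣ Nat.card N := Subgroup.card_dvd_of_le hle
  have h2 : Nat.card N ∣ Nat.card D * Nat.card (Cfsg.pPrimeCore q G) := by
    rw [hN]
    exact Dvd.intro _ (Cfsg.Agent.Lib.Helper1.card_sup_mul_card_inf D (Cfsg.pPrimeCore q G))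
  have h3 : (q * q).Coprime (Nat.card (Cfsg.pPrimeCore q G)) := by
    have := (Cfsg.Agent.Lib.Helper55.pPrimeCore_coprime q G).symm
    exact Nat.Coprime.mul_left this this
  have h4 : q * q ∣ Nat.card D := h3.dvd_of_dvd_mul_right (hdvd.trans (h1.trans h2))
  have h5 : q * q ≤ q := Nat.le_of_dvd hq.pos (h4.trans hDcard)
  nlinarith [hq.one_lt]

theorem sf_card_commutator_squarefree {G : Type u} [Group G] [Finite G] (hG : SF G)
    (hsolv : Group.IsSolvable G) : Squarefree (Nat.card (commutator G)) := by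
  have hGF := sf_commutator_le_fitting hG hsolv
  have hcyc := sf_quotient_fitting_cyclic hG hsolv
  obtain ⟨x, hx⟩ : ∃ x : G, ∀ g : G, ∃ f ∈ Cfsg.fittingSubgroup G, ∃ k : ℤ, g = f * x ^ k := by
    obtain ⟨xb, hxb⟩ := hcyc.exists_generator
    obtain ⟨x, rfl⟩ := QuotientGroup.mk_surjective xb
    refine ⟨x, fun g => ?_⟩
    obtain ⟨k, hk⟩ := Subgroup.mem_zpowers_iff.1 (hxb (g : G ⧸ Cfsg.fittingSubgroup G))
    refine ⟨g * (x ^ k)⁻¹, ?_, k, by group⟩
    have h1 : ((x ^ k : G) : G ⧸ Cfsg.fittingSubgroup G)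
        = (g : G ⧸ Cfsg.fittingSubgroup G) := by
      rw [QuotientGroup.mk_zpow]; exact hk
    have h2 : (x ^ k)⁻¹ * g ∈ Cfsg.fittingSubgroup G := QuotientGroup.eq.1 h1
    have h3 := (inferInstance : (Cfsg.fittingSubgroup G).Normal).conj_mem _ h2 (x ^ k)
    have e : x ^ k * ((x ^ k)⁻¹ * g) * (x ^ k)⁻¹ = g * (x ^ k)⁻¹ := by group
    rwa [e] at h3
  rw [Nat.squarefree_iff_prime_squarefree]
  intro q hq
  haveI : Fact q.Prime := ⟨hq⟩
  obtain ⟨k, hk⟩ := pCore_card (G := G) q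
  by_cases hab : ∀ a ∈ Cfsg.pCore q G, ∀ b ∈ Cfsg.pCore q G, a * b = b * a
  · have hcomm : ∀ a b : Cfsg.pCore q G, a * b = b * a :=
      fun a b => Subtype.ext (hab a a.2 b b.2)
    have hFC := fitting_le_centralizer_pCore q hab
    obtain ⟨D, hD⟩ : ∃ D : Subgroup G, D = (delta hcomm (MulAut.conjNormal x :
        MulAut (Cfsg.pCore q G))).range.map (Cfsg.pCore q G).subtype := ⟨_, rfl⟩
    have hDn : D.Normal := by
      constructor
      intro d hd g
      rw [hD] at hd ⊢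
      obtain ⟨d', ⟨a, ha⟩, rfl⟩ := hd
      have hconj : (MulAut.conjNormal (g * x * g⁻¹) : MulAut (Cfsg.pCore q G))
          = MulAut.conjNormal x := by
        have e : g * x * g⁻¹ = ⁅g, x⁆ * x := by rw [commutatorElement_def]; group
        rw [e, map_mul, conjNormal_eq_one _ _ (hFC (hGF (comm_mem_commutator _ _))), one_mul]
      refine ⟨delta hcomm (MulAut.conjNormal x : MulAut (Cfsg.pCore q G))
        ⟨g * a * g⁻¹, (inferInstance : (Cfsg.pCore q G).Normal).conj_mem a a.2 g⟩,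
        ⟨_, rfl⟩, ?_⟩
      rw [← ha]
      conv_lhs => rw [← hconj]
      simp only [Subgroup.coe_subtype, delta_apply, Subgroup.coe_mul, Subgroup.coe_inv,
        MulAut.conjNormal_apply]
      group
    haveI := hDn
    have hDcard : Nat.card D ∣ q := by
      rw [hD, Subgroup.card_map_of_injective (Subgroup.subtype_injective _), card_range_delta]
      exact index_fixSub_dvd hG hq _ hk x
    apply not_sq_dvd_card_commutator q x hx D hDcard
    · intro a ha b hb
      rw [commutatorElement_eq_one_iff_mul_comm.2 (hab a ha b hb)]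
      exact D.one_mem
    · intro a ha
      rw [hD]
      refine ⟨delta hcomm (MulAut.conjNormal x : MulAut (Cfsg.pCore q G))
        ⟨a⁻¹, Subgroup.inv_mem _ ha⟩, ⟨_, rfl⟩, ?_⟩
      simp only [Subgroup.coe_subtype, delta_apply, Subgroup.coe_mul, Subgroup.coe_inv,
        MulAut.conjNormal_apply, commutatorElement_def]
      group
  · obtain P : Sylow q G := default
    have hQP := Cfsg.Agent.Lib.Helper55.pCore_le_sylow (G := G) P
    have hcen : ∀ a ∈ Cfsg.pCore q G, ∀ e ∈ Cfsg.pCore q G, ⁅a, e⁆ ∈ Subgroup.center G :=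
      fun a ha e he => sf_comm_mem_center hG P a e (hQP ha) (hQP he)
    have hrel : ∀ y : G, (Subgroup.centralizer ({y} : Set G)).relIndex (Cfsg.pCore q G) ∣ q :=
      fun y => dvd_prime_of_squarefree_of_dvd_pow hq (sf_relIndex hG _ y)
        (hk ▸ Subgroup.relIndex_dvd_card _ _)
    obtain ⟨D, hDc, hDcard, hDQ⟩ := knoche_aux hq (Cfsg.pCore q G) hcen hrel
    haveI hDn : D.Normal := normal_of_le_center D hDc
    apply not_sq_dvd_card_commutator q x hx D hDcard hDQ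
    intro a ha
    exact all_comm_mem_of_nonabelian hG hGF q D hDQ hab x a ha

theorem sf_commutator_cyclic {G : Type u} [Group G] [Finite G] (hG : SF G)
    (hsolv : Group.IsSolvable G) : IsCyclic (commutator G) := by
  have hnil : Group.IsNilpotent (commutator G) :=
    Cfsg.Agent.Lib.Helper9.isNilpotent_commutator_of_isSupersolvable (sf_supersolvable hG hsolv)
  have hz : IsZGroup (commutator G) :=
    IsZGroup.of_squarefree (sf_card_commutator_squarefree hG hsolv)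
  infer_instance

end Cfsg.Agent.Lib.Helper32.Sqf
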